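import Groth.Agent.FunFld.Wr.Orders

/-! Values of Hasse derivatives at a place, linear independence, existence of order sequences. -/

namespace Groth.Agent.FunFld

open _root_.FunFld WithZero IsLocalRing Finset
open scoped LaurentSeries
open PowerSeries (coeff constantCoeff trunc)

variable {k K : Type*} [Field k] [Field K] [Algebra k K]

/-- Constants as elements of the valuation ring. -/
noncomputable def kInt (P : Place k K) : k →+* P.O :=
  (algebraMap k K).codRestrict P.O.toSubring fun c => (Valuation.mem_valuationSubring_iff P.1 _).2 (P.2.1 c)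

/-- Constants in the residue field. -/
noncomputable def kRes (P : Place k K) : k →+* ResidueField P.O := (residue P.O).comp (kInt P)

theorem residue_eq_iff (P : Place k K) (a b : P.O) :
    residue P.O a = residue P.O b ↔ P.1 ((a : K) - (b : K)) < 1 := by
  rw [← sub_eq_zero, ← map_sub, residue_eq_zero_iff, mem_maximalIdeal, mem_nonunits_iff]
  exact ⟨fun h => lt_of_le_of_ne (a - b).2 fun e => h
      ((Valuation.integer.integers P.1).isUnit_iff_valuation_eq_one.2 e),
    fun h hu => h.ne ((Valuation.integer.integers P.1).isUnit_iff_valuation_eq_one.1 hu)⟩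

theorem evalP_of_sub {P : Place k K} {z : K} {c : k} (h : P.1 (z - algebraMap k K c) < 1) :
    evalP P z = kRes P c := by
  have hz : P.1 z ≤ 1 := by
    rw [← sub_add_cancel z (algebraMap k K c)]
    exact (P.1.map_add _ _).trans (max_le h.le (P.2.1 c))
  rw [evalP, dif_pos hz, kRes, RingHom.comp_apply, residue_eq_iff]
  exact h

theorem kRes_injective (P : Place k K) : Function.Injective (kRes P) := (kRes P).injective

theorem IsTaylor.val_sub_cc {P : Place k K} {t z : K} {G : PowerSeries k} (h : IsTaylor P t z G) :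
    P.1 (z - algebraMap k K (constantCoeff G)) < 1 := by
  have := h 1
  rw [PowerSeries.trunc_one_left, Polynomial.aeval_C, PowerSeries.coeff_zero_eq_constantCoeff_apply] at this
  refine this.trans_lt ?_
  rw [← exp_zero (M := ℤ), exp_lt_exp]; omega

variable [IsAlgClosed k] (hK : IsFunctionField k K)
include hK

theorem kRes_surjective (P : Place k K) : Function.Surjective (kRes P) := fun r => by
  obtain ⟨⟨z, hz⟩, rfl⟩ := residue_surjective r
  obtain ⟨c, hc⟩ := exists_const hK P hz
  refine ⟨c, ?_⟩
  rw [← evalP_of_sub hc]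
  exact dif_pos hz

variable {P : Place k K} {t : K} (ht : P.1 t = exp (-1))
include ht

theorem isTaylor_of_expand {z : K} {G : PowerSeries k} (hz : P.1 z ≤ 1) (h : expand hK ht z = (G : k⸨X⸩)) :
    IsTaylor P t z G := by
  obtain ⟨G', hG'⟩ := exists_isTaylor hK ht hz
  rw [expand_of_taylor hK ht hG'] at h
  rwa [← HahnSeries.ofPowerSeries_injective h]

theorem isTaylor_hasseD {H : K →ₐ[k] PowerSeries K} (hH : LocRes.IsHasseFamily t H) {y : K} {G : PowerSeries k}
    (hG : IsTaylor P t y G) (j : ℕ) : IsTaylor P t (LocRes.hasseD H j y) (hasseP j G) :=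
  isTaylor_of_expand hK ht (val_hasseD_le hK ht hH hG.val_le j) (expand_hasseD hK ht hH hG j)

theorem hasseD_sub_coeff {H : K →ₐ[k] PowerSeries K} (hH : LocRes.IsHasseFamily t H) {y : K} {G : PowerSeries k}
    (hG : IsTaylor P t y G) (j : ℕ) : P.1 (LocRes.hasseD H j y - algebraMap k K (coeff j G)) < 1 := by
  have := (isTaylor_hasseD hK ht hH hG j).val_sub_cc
  rwa [← PowerSeries.coeff_zero_eq_constantCoeff_apply, coeff_hasseP, zero_add, Nat.choose_self, Nat.cast_one,
    one_mul] at this

theorem evalP_hasseD {H : K →ₐ[k] PowerSeries K} (hH : LocRes.IsHasseFamily t H) {y : K} {G : PowerSeries k}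
    (hG : IsTaylor P t y G) (j : ℕ) : evalP P (LocRes.hasseD H j y) = kRes P (coeff j G) :=
  evalP_of_sub (hasseD_sub_coeff hK ht hH hG j)

omit [IsAlgClosed k] hK in
theorem IsTaylor.sum {ι : Type*} (s : Finset ι) (c : ι → k) (z : ι → K) (G : ι → PowerSeries k)
    (h : ∀ i ∈ s, IsTaylor P t (z i) (G i)) :
    IsTaylor P t (∑ i ∈ s, algebraMap k K (c i) * z i) (∑ i ∈ s, PowerSeries.C (c i) * G i) := by
  classical
  induction s using Finset.induction with
  | empty => rw [Finset.sum_empty, Finset.sum_empty, ← map_zero (algebraMap k K), ← map_zero PowerSeries.C]; exact isTaylor_C ht 0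
  | insert a s ha ih =>
    rw [Finset.sum_insert ha, Finset.sum_insert ha]
    exact ((isTaylor_C ht (c a)).mul ht (h a (Finset.mem_insert_self _ _))).add
      (ih fun i hi => h i (Finset.mem_insert_of_mem hi))

omit [IsAlgClosed k] hK in
/-- Independent functions have independent Taylor coefficient sequences. -/
theorem taylor_li {n : ℕ} {φ : Fin (n + 1) → K} (hφ : LinearIndependent k φ) {G : Fin (n + 1) → PowerSeries k}
    (hG : ∀ i, IsTaylor P t (φ i) (G i)) {c : Fin (n + 1) → k} (h : ∀ j, ∑ i, c i * coeff j (G i) = 0) : c = 0 := by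
  have h0 : ∑ i, PowerSeries.C (c i) * G i = 0 := by
    ext j
    rw [map_sum, map_zero, ← h j]
    exact Finset.sum_congr rfl fun i _ => PowerSeries.coeff_C_mul _ _ _
  have := IsTaylor.sum ht Finset.univ c φ G fun i _ => hG i
  rw [h0] at this
  have h1 := this.eq_zero
  funext i
  refine Fintype.linearIndependent_iff.1 hφ c ?_ i
  rw [← h1]
  exact Finset.sum_congr rfl fun i _ => Algebra.smul_def _ _

/-- The values at `P` of all Hasse derivatives have full rank. -/
theorem evalP_li {n : ℕ} {φ : Fin (n + 1) → K} (hφ : LinearIndependent k φ) (hint : ∀ i, P.1 (φ i) ≤ 1)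
    {H : K →ₐ[k] PowerSeries K} (hH : LocRes.IsHasseFamily t H) :
    LinearIndependent (ResidueField P.O) fun i => fun j : ℕ => evalP P (LocRes.hasseD H j (φ i)) := by
  rw [Fintype.linearIndependent_iff]
  intro r hr
  choose c hc using fun i => kRes_surjective hK P (r i)
  choose G hG using fun i => exists_isTaylor hK ht (hint i)
  have : c = 0 := taylor_li ht hφ hG fun j => kRes_injective P (by
    have hj := congrFun hr j
    simp only [Finset.sum_apply, Pi.smul_apply, smul_eq_mul, Pi.zero_apply] at hj
    rw [map_sum, map_zero, ← hj]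
    exact Finset.sum_congr rfl fun i _ => by rw [map_mul, hc, evalP_hasseD hK ht hH (hG i)])
  intro i
  rw [← hc i, this, Pi.zero_apply, map_zero]

/-- Hasse derivatives of independent functions have independent rows over `K`. -/
theorem eq_zero_of_hasseD {n : ℕ} {φ : Fin (n + 1) → K} (hφ : LinearIndependent k φ) (hint : ∀ i, P.1 (φ i) ≤ 1)
    {H : K →ₐ[k] PowerSeries K} (hH : LocRes.IsHasseFamily t H) {a : Fin (n + 1) → K}
    (ha : ∀ j, ∑ i, a i * LocRes.hasseD H j (φ i) = 0) : a = 0 := by
  by_contra hne
  obtain ⟨i0, -, hmax⟩ := Finset.exists_max_image Finset.univ (fun i => P.1 (a i)) Finset.univ_nonempty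
  have hi0 : a i0 ≠ 0 := fun h => hne (funext fun i => by
    have := hmax i (Finset.mem_univ i)
    rw [h, map_zero, le_zero_iff, Valuation.zero_iff] at this
    exact this)
  set b := fun i => a i / a i0 with hb
  have hble : ∀ i, P.1 (b i) ≤ 1 := fun i => by
    rw [hb, map_div₀]
    exact div_le_one_of_le₀ (hmax i (Finset.mem_univ i)) zero_le
  choose c hc using fun i => exists_const hK P (hble i)
  choose G hG using fun i => exists_isTaylor hK ht (hint i)
  have hc0 : c = 0 := taylor_li ht hφ hG fun j => by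
    by_contra hne'
    refine absurd (val_algebraMap P hne').ge (not_le.2 ?_)
    have e : algebraMap k K (∑ i, c i * coeff j (G i)) =
        ∑ i, (-(b i - algebraMap k K (c i)) * LocRes.hasseD H j (φ i) +
          -algebraMap k K (c i) * (LocRes.hasseD H j (φ i) - algebraMap k K (coeff j (G i)))) := by
      have h0 : ∑ i, b i * LocRes.hasseD H j (φ i) = 0 := by
        have : ∑ i, b i * LocRes.hasseD H j (φ i) = (a i0)⁻¹ * ∑ i, a i * LocRes.hasseD H j (φ i) := by
          rw [Finset.mul_sum]
          exact Finset.sum_congr rfl fun i _ => by simp only [hb]; ring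
        rw [this, ha j, mul_zero]
      rw [map_sum, ← sub_zero (∑ i, algebraMap k K (c i * coeff j (G i))), ← h0, ← Finset.sum_sub_distrib]
      exact Finset.sum_congr rfl fun i _ => by rw [map_mul]; ring
    rw [e]
    refine Valuation.map_sum_lt P.1 one_ne_zero fun i _ => ?_
    refine (P.1.map_add _ _).trans_lt (max_lt ?_ ?_)
    · rw [map_mul, Valuation.map_neg]
      exact (mul_le_mul' le_rfl (val_hasseD_le hK ht hH (hint i) j)).trans_lt (by rw [mul_one]; exact hc i)
    · rw [map_mul, Valuation.map_neg]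
      exact (mul_le_mul' (P.2.1 _) le_rfl).trans_lt (by rw [one_mul]; exact hasseD_sub_coeff hK ht hH (hG i) j)
  have h1 := hc i0
  rw [hc0, Pi.zero_apply, map_zero, sub_zero, hb] at h1
  simp [hi0] at h1

omit ht

theorem exists_place_avoid (s : Finset (Place k K)) : ∃ P : Place k K, P ∉ s := by
  classical
  obtain ⟨P0⟩ := exists_place_any hK
  obtain ⟨y, hy⟩ := exists_val P0 (-1)
  have htr : ∀ c : k, Transcendental k (y - algebraMap k K c) := fun c => by
    have hy1 : Transcendental k y := mem_range_of_ord hK (P := P0) (by rw [ord_eq_of_val P0 hy]; decide)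
    intro halg
    exact hy1 (by simpa using halg.add (isAlgebraic_algebraMap c))
  choose Q hQ using fun c => exists_zero hK (htr c)
  have hinj : Function.Injective Q := fun c c' e => by
    by_contra hne
    have h1 := hQ c
    have h2 := hQ c'
    rw [← e] at h2
    have hne0 : ∀ d : k, y - algebraMap k K d ≠ 0 := fun d h => htr d (by rw [h]; exact isAlgebraic_zero)
    rw [ord_pos_iff _ (hne0 c)] at h1
    rw [ord_pos_iff _ (hne0 c')] at h2
    have h3 : (Q c).1 (algebraMap k K (c' - c)) < 1 := by
      rw [map_sub, show algebraMap k K c' - algebraMap k K c =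
        (y - algebraMap k K c) - (y - algebraMap k K c') by ring]
      exact (Valuation.map_sub _ _ _).trans_lt (max_lt h1 h2)
    rw [val_algebraMap _ (sub_ne_zero.2 (Ne.symm hne))] at h3
    exact lt_irrefl _ h3
  have : Infinite (Place k K) := Infinite.of_injective Q hinj
  exact Infinite.exists_notMem_finset s

theorem exists_place_integral {ι : Type*} [Finite ι] (φ : ι → K) :
    ∃ P : Place k K, ∀ i, P.1 (φ i) ≤ 1 := by
  classical
  have hf : (⋃ i, {P : Place k K | 0 < P.ord (φ i)⁻¹}).Finite := Set.finite_iUnion fun i => finite_zeros hK _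
  obtain ⟨P, hP⟩ := exists_place_avoid hK hf.toFinset
  refine ⟨P, fun i => ?_⟩
  rcases eq_or_ne (φ i) 0 with h0 | h0
  · rw [h0, map_zero]; exact zero_le
  rw [← ord_nonneg_iff P h0]
  by_contra hlt
  refine hP (hf.mem_toFinset.2 (Set.mem_iUnion.2 ⟨i, ?_⟩))
  show 0 < P.ord (φ i)⁻¹
  rw [ord_inv]; omega

variable {n : ℕ} {φ : Fin (n + 1) → K} {s : K} {H : K →ₐ[k] PowerSeries K}

/-- The columns eventually span everything. -/
theorem exists_spn_top (hφ : LinearIndependent k φ) (hH : LocRes.IsHasseFamily s H) (u : Fin (n + 1) → K) :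
    ∃ M, spn (col u H φ) M = ⊤ := by
  obtain ⟨P, hP⟩ := exists_place_integral hK φ
  obtain ⟨t, ht⟩ := exists_val P (-1)
  obtain ⟨Ht, hHt⟩ := exists_hasse_at hK ht
  have hcong : ∀ m, spn (col u Ht φ) m = spn (col u H φ) m := spn_congr
    (a := fun j => if j = 0 then 1 else LocRes.hasseD Ht 1 s ^ (j - 1))
    (fun j => by split_ifs <;> [exact one_ne_zero; exact pow_ne_zero _ (hasseD_one_ne_zero hK hH hHt)])
    (col_change_tri hK hH hHt u φ)
  obtain ⟨M, hM⟩ := (monotone_stabilizes_iff_noetherian (R := K) (M := Fin (n + 1) → K)).2 inferInstance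
    ⟨fun m => spn (col u Ht φ) m, fun a b => spn_mono _⟩
  refine ⟨M, ?_⟩
  rw [← hcong]
  have hall : ∀ j, col u Ht φ j ∈ spn (col u Ht φ) M := fun j => by
    rcases le_or_gt M j with h | h
    · have e : spn (col u Ht φ) M = spn (col u Ht φ) (j + 1) := hM (j + 1) (by omega)
      rw [e]; exact mem_spn (Nat.lt_succ_self j)
    · exact mem_spn h
  by_contra hne
  obtain ⟨f, hf0, hf⟩ := Submodule.exists_le_ker_of_lt_top _ (lt_top_iff_ne_top.2 hne)
  refine hf0 ((Pi.basisFun K (Fin (n + 1))).ext fun i => ?_)
  rw [LinearMap.zero_apply, Pi.basisFun_apply]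
  refine congrFun (eq_zero_of_hasseD hK ht hφ hP hHt (a := fun i => f (Pi.single i 1)) fun j => ?_) i
  have := LinearMap.mem_ker.1 (hf (hall (j + 1)))
  rw [pi_eq_sum_univ' (col u Ht φ (j + 1)), map_sum] at this
  rw [← this]
  exact Finset.sum_congr rfl fun i _ => by
    rw [map_smul, smul_eq_mul, mul_comm]
    rfl

end Groth.Agent.FunFld
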