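import Groth.Agent.FunFld.Wr.DiffDeg
import Groth.Agent.FunFld.Wr.Codiff
import Groth.Agent.FunFld.Extra
import Mathlib.RingTheory.Algebraic.Basic
import Mathlib.Algebra.Polynomial.Basis
import Mathlib.RingTheory.AlgebraTower

/-! `div (ds)` is a canonical divisor. -/

namespace Groth.Agent.FunFld

open _root_.FunFld WithZero IsLocalRing Finset Polynomial
open scoped LaurentSeries

variable {k K : Type*} [Field k] [Field K] [Algebra k K] [IsAlgClosed k] (hK : IsFunctionField k K) {s : K}
include hK

/-- There are at least `g` regular differentials. -/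
theorem genus_le_ell_divDiff {H : K →ₐ[k] PowerSeries K} (hH : LocRes.IsHasseFamily s H)
    (Φ : Place k K → (K →ₐ[k] LaurentSeries k)) (hΦ : ∀ P : Place k K, LocRes.IsExpansionAt P.1 (Φ P)) :
    (genus k K : ℤ) ≤ ell (divDiff Φ 1 s) := by
  classical
  obtain ⟨happ, -⟩ := divDiff_facts hK hH Φ hΦ
  obtain ⟨hs, hsep⟩ := separable_of_hasse hK hH
  have := finite_adjoin hK hs
  set K0 := IntermediateField.adjoin k ({s} : Set K)
  set s0 : K0 := ⟨s, IntermediateField.mem_adjoin_simple_self k s⟩ with hs0def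
  have hgen : IntermediateField.adjoin k ({s0} : Set K0) = ⊤ := by
    apply IntermediateField.lift_injective K0
    rw [IntermediateField.lift_adjoin_simple, IntermediateField.lift_top]
  have htr0 : Transcendental k s0 := fun h => hs (by simpa using h.algHom K0.val)
  have hK0 : IsFunctionField k K0 := by
    refine ⟨⟨s0, htr0, ?_⟩, fun y hy => ?_⟩
    · rw [hgen]
      exact Module.Finite.of_surjective (Algebra.linearMap (⊤ : IntermediateField k K0) K0) fun y => ⟨⟨y, trivial⟩, rfl⟩
    · obtain ⟨c, hc⟩ := hK.2 (y : K) (by simpa using hy.algHom K0.val)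
      exact ⟨c, Subtype.ext hc⟩
  obtain ⟨-, -, Pinf, -, hinf, hother⟩ := rational_props hK0 hgen
  have hs00 : s0 ≠ 0 := ne_zero_of_tr htr0
  have hvinf : Pinf.1 s0 = exp 1 := by rw [val_eq_exp Pinf hs00, hinf, neg_neg]
  have hfinite : ∀ P : Place k K0, P ≠ Pinf → ∃ c : k, P.1 (s0 - algebraMap k K0 c) = exp (-1) ∧
      IntermediateField.adjoin k ({s0 - algebraMap k K0 c} : Set K0) = ⊤ ∧
      ∀ R : Place k K0, R.1 (s0 - algebraMap k K0 c) < 1 → R = P := by
    intro P hP
    have h1 : P.1 s0 ≤ 1 := (ord_nonneg_iff P hs00).1 (hother P hP)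
    obtain ⟨c, hc⟩ := exists_const hK0 P h1
    have hgc : IntermediateField.adjoin k ({s0 - algebraMap k K0 c} : Set K0) = ⊤ := by
      rw [eq_top_iff, ← hgen, IntermediateField.adjoin_simple_le_iff]
      have := add_mem (IntermediateField.mem_adjoin_simple_self k (s0 - algebraMap k K0 c))
        (IntermediateField.algebraMap_mem _ c)
      rwa [sub_add_cancel] at this
    have hu : IntermediateField.adjoin k ({(s0 - algebraMap k K0 c)⁻¹} : Set K0) = ⊤ := by
      rw [eq_top_iff, ← hgc, IntermediateField.adjoin_simple_le_iff]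
      have := inv_mem (IntermediateField.mem_adjoin_simple_self k (s0 - algebraMap k K0 c)⁻¹)
      rwa [inv_inv] at this
    obtain ⟨-, -, P1, -, h2, h3⟩ := rational_props hK0 hu
    have hne : s0 - algebraMap k K0 c ≠ 0 := fun h => htr0 (by
      rw [sub_eq_zero] at h; rw [h]; exact isAlgebraic_algebraMap c)
    have hP1 : ∀ R : Place k K0, R.1 (s0 - algebraMap k K0 c) < 1 → R = P1 := fun R hR => by
      by_contra hne'
      have := h3 R hne'
      rw [ord_inv] at this
      have := (ord_pos_iff R hne).2 hR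
      omega
    have hPP := hP1 P hc
    refine ⟨c, ?_, hgc, fun R hR => (hP1 R hR).trans hPP.symm⟩
    rw [val_eq_exp P hne, hPP]
    rw [ord_inv] at h2
    rw [show P1.ord (s0 - algebraMap k K0 c) = 1 by omega]
  have hd : Module.finrank K0 K = Module.finrank K0 K := rfl
  obtain ⟨b, a, hsum, hb⟩ := exists_graded_basis hK hs
  have hcoord := exists_coords hK hb
  have hq0 : ∀ q : k[X], q ≠ 0 → aeval s0 q ≠ 0 := fun q hq h => htr0 ⟨q, hq, h⟩
  have hcast : ∀ q : k[X], algebraMap K0 K (aeval s0 q) = aeval s q := fun q =>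
    (aeval_algebraMap_apply K s0 q).symm
  have hrep : ∀ (f : K) (q : k[X]) (p : Fin (Module.finrank K0 K) → k[X]), q ≠ 0 → aeval s q * f = ∑ i, aeval s (p i) * b i →
      f = ∑ i, (aeval s0 (p i) / aeval s0 q) • b i := fun f q p hq h => by
    have hne : aeval s q ≠ 0 := fun h' => hs ⟨q, hq, h'⟩
    calc f = (aeval s q)⁻¹ * (aeval s q * f) := by rw [inv_mul_cancel_left₀ hne]
      _ = _ := by
        rw [h, Finset.mul_sum]
        refine Finset.sum_congr rfl fun i _ => ?_
        rw [Algebra.smul_def, map_div₀, hcast, hcast]; ring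
  have hspan : ⊤ ≤ Submodule.span K0 (Set.range b) := fun f _ => by
    obtain ⟨q, p, m, hq, h, -⟩ := hcoord f
    rw [hrep f q p hq h]
    exact sum_mem fun i _ => Submodule.smul_mem _ _ (Submodule.subset_span ⟨i, rfl⟩)
  let B : Module.Basis (Fin (Module.finrank K0 K)) K0 K := basisOfTopLeSpanOfCardEqFinrank b hspan (Fintype.card_fin _)
  have hB : ∀ i, B i = b i := fun i => by simp [B]
  have hrepr : ∀ (f : K) (q : k[X]) (p : Fin (Module.finrank K0 K) → k[X]), q ≠ 0 → aeval s q * f = ∑ i, aeval s (p i) * b i →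
      ∀ i, B.repr f i = aeval s0 (p i) / aeval s0 q := fun f q p hq h i => by
    have := hrep f q p hq h
    simp only [← hB] at this
    conv_lhs => rw [this]
    rw [B.repr_sum_self]
  have hbL : ∀ i, b i ∈ L (a i • poles k s) := fun i => by
    rw [hb]; exact Submodule.subset_span ⟨i, 0, by omega, by rw [pow_zero, one_mul]⟩
  have hscast : algebraMap K0 K s0 = s := rfl
  have hrepr0 : ∀ i l, Algebra.trace K0 K (B.traceDual i * b l) = if l = i then 1 else 0 := fun i l => by
    rw [← hB l]; exact B.trace_traceDual_mul i l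
  have htrace : ∀ (c : K0) i l, Algebra.trace K0 K (algebraMap K0 K c * B.traceDual i * b l) =
      c * if l = i then 1 else 0 := fun c i l => by
    rw [mul_assoc, ← Algebra.smul_def, map_smul, hrepr0, smul_eq_mul]
  have hmem : ∀ (i : Fin (Module.finrank K0 K)) (j : ℕ), j + 2 ≤ a i →
      algebraMap K0 K (s0 ^ j) * B.traceDual i ∈ L (divDiff Φ 1 s) := by
    intro i j hij Q
    rw [happ]
    obtain ⟨P, hP⟩ := exists_below (K := K0) Q
    have hQ := (mem_placesOver hK0).2 hP
    rcases eq_or_ne P Pinf with hPe | hPne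
    · -- infinite place
      rw [hPe] at hP hQ
      have hu : Pinf.1 s0⁻¹ = exp (-1) := by rw [map_inv₀, hvinf, ← exp_neg]
      have hgu : IntermediateField.adjoin k ({s0⁻¹} : Set K0) = ⊤ := by
        rw [eq_top_iff, ← hgen, IntermediateField.adjoin_simple_le_iff]
        have := inv_mem (IntermediateField.mem_adjoin_simple_self k s0⁻¹)
        rwa [inv_inv] at this
      have hw : ∀ i, IsUnit (s0⁻¹ ^ a i) := fun i => IsUnit.pow _ (inv_ne_zero hs00).isUnit
      let B' := B.isUnitSMul hw
      have hB' : ∀ i, B' i = algebraMap K0 K (s0⁻¹ ^ a i) * b i := fun i => by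
        rw [Module.Basis.isUnitSMul_apply, hB, Algebra.smul_def]
      have hbd := codiff_bound hK0 hK hu hgu hd.symm B' (fun z hz i => ?_) Φ hΦ
        (h := algebraMap K0 K (s0 ^ 2) * (algebraMap K0 K (s0 ^ j) * B.traceDual i)) (fun l => ?_) Q hQ
      · obtain ⟨t, ht⟩ := exists_val Q (-1)
        obtain ⟨Ht, hHt⟩ := exists_hasse_at hK ht
        have hDs : LocRes.hasseD Ht 1 s ≠ 0 := hasseD_one_ne_zero hK hH hHt
        have hterm : LocRes.ordDiff (Φ Q) 1 s =
            LocRes.ordDiff (Φ Q) 1 (algebraMap K0 K s0⁻¹) - 2 * (ramIdx Q Pinf : ℤ) := by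
          rw [ordDiff_eq hK ht hHt (hΦ Q), ordDiff_eq hK ht hHt (hΦ Q), one_mul, one_mul, map_inv₀, hscast,
            ← hasseDer_apply hHt s⁻¹, Derivation.leibniz_inv, hasseDer_apply, smul_eq_mul,
            ord_mul Q (neg_ne_zero.2 (pow_ne_zero _ (inv_ne_zero (ne_zero_of_tr hs)))) hDs]
          have h1 : Q.ord (-(s⁻¹ ^ 2)) = 2 * (ramIdx Q Pinf : ℤ) := by
            have h0 : Q.1 s = exp (ramIdx Q Pinf : ℤ) := by
              rw [← hscast, isOverWith_of_isOver hP s0, hvinf, ← exp_nsmul, nsmul_eq_mul, mul_one]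
            rw [Place.ord, Valuation.map_neg, map_pow, map_inv₀, h0, ← exp_neg, ← exp_nsmul, WithZero.log_exp]
            simp
          omega
        rw [map_mul, isOverWith_of_isOver hP, map_pow, hvinf, ← exp_nsmul, ← exp_nsmul] at hbd
        refine le_of_mul_le_mul_left (hbd.trans_eq ?_) exp_pos
        rw [hterm, ← exp_add, exp_inj]
        simp only [nsmul_eq_mul]
        push_cast
        ring
      · obtain ⟨q, p, m, hq, hf, hdeg, -, hm⟩ := hcoord z
        have hm' : m = q.natDegree := hm fun R hR => by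
          obtain ⟨P', hP'⟩ := exists_below (K := K0) R
          have : P' = Pinf := by
            by_contra hne
            have h1 := (ord_nonneg_iff P' hs00).1 (hother P' hne)
            exact not_le.2 hR ((val_le_one_iff hP' s0).2 h1)
          exact hz R ((mem_placesOver hK0).2 (this ▸ hP'))
        rw [Module.Basis.repr_isUnitSMul, hrepr z q p hq hf i, Units.smul_def, Units.val_inv_eq_inv_val,
          IsUnit.unit_spec, smul_eq_mul, map_mul, map_inv₀, map_pow, hu, map_div₀, val_aeval_eq_deg hvinf hq,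
          ← exp_nsmul, ← exp_neg]
        rcases eq_or_ne (p i) 0 with h0 | h0
        · rw [h0, map_zero, map_zero, zero_div, mul_zero]; exact zero_le
        · rw [val_aeval_eq_deg hvinf h0, div_eq_mul_inv, ← exp_neg, ← exp_add, ← exp_add, ← exp_zero, exp_le_exp]
          have h5 := hdeg i (p i).natDegree (by rwa [coeff_natDegree, Ne, leadingCoeff_eq_zero])
          simp only [nsmul_eq_mul]
          omega
      · rw [hB', show algebraMap K0 K (s0 ^ 2) * (algebraMap K0 K (s0 ^ j) * B.traceDual i) *
            (algebraMap K0 K (s0⁻¹ ^ a l) * b l) =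
            algebraMap K0 K (s0 ^ 2 * s0 ^ j * s0⁻¹ ^ a l) * B.traceDual i * b l by rw [map_mul, map_mul]; ring,
          htrace]
        split_ifs with hli
        · subst hli
          rw [mul_one, map_mul, map_mul, map_pow, map_pow, map_pow, hu, hvinf, ← exp_nsmul, ← exp_nsmul, ← exp_nsmul,
            ← exp_add, ← exp_add, ← exp_zero, exp_le_exp]
          simp only [nsmul_eq_mul]
          push_cast
          omega
        · rw [mul_zero, map_zero]; exact zero_le
    · -- finite place
      obtain ⟨c, hc, hgc, huniq⟩ := hfinite P hPne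
      have hPs : P.1 s0 ≤ 1 := (ord_nonneg_iff P hs00).1 (hother P hPne)
      have hbd := codiff_bound hK0 hK hc hgc hd.symm B (fun z hz i => ?_) Φ hΦ
        (h := algebraMap K0 K (s0 ^ j) * B.traceDual i) (fun l => ?_) Q hQ
      · refine hbd.trans_eq (congrArg exp ?_)
        obtain ⟨t, ht⟩ := exists_val Q (-1)
        obtain ⟨Ht, hHt⟩ := exists_hasse_at hK ht
        rw [ordDiff_eq hK ht hHt (hΦ Q), ordDiff_eq hK ht hHt (hΦ Q), map_sub, hscast, ← IsScalarTower.algebraMap_apply,
          ← hasseDer_apply hHt, map_sub, Derivation.map_algebraMap, sub_zero, hasseDer_apply]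
      · obtain ⟨q, p, m, hq, hf, -, hqc, -⟩ := hcoord z
        have hqc' : q.eval c ≠ 0 := hqc c fun R hR => by
          obtain ⟨P', hP'⟩ := exists_below (K := K0) R
          have hlt : P'.1 (s0 - algebraMap k K0 c) < 1 := (val_lt_one_iff hP' _).1 (by
            rw [map_sub, hscast, ← IsScalarTower.algebraMap_apply]; exact hR)
          exact hz R ((mem_placesOver hK0).2 (huniq P' hlt ▸ hP'))
        rw [hrepr z q p hq hf i, map_div₀,
          val_eq_one_of_const (val_aeval_sub_lt (by rw [hc, ← exp_zero, exp_lt_exp]; omega) q) hqc', div_one]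
        exact val_aeval_le P hPs _
      · rw [hB, htrace]
        split_ifs
        · rw [mul_one, map_pow]; exact pow_le_one' hPs _
        · rw [mul_zero, map_zero]; exact zero_le
  -- the number of candidates
  have hpow : LinearIndependent k fun j : ℕ => s0 ^ j := by
    have h := (Polynomial.basisMonomials k).linearIndependent.map' (aeval s0).toLinearMap
      (LinearMap.ker_eq_bot.2 (transcendental_iff_injective.1 htr0))
    refine (linearIndependent_equiv' (Equiv.refl ℕ) ?_).1 h
    funext j
    simp [Polynomial.coe_basisMonomials, aeval_monomial]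
  have hone : (Finset.univ.filter fun i => a i = 0).card = 1 := by
    have hli : LinearIndependent k fun i : {i // a i = 0} => b i := by
      have := (B.linearIndependent.comp (Subtype.val : {i // a i = 0} → _) Subtype.val_injective).restrict_scalars' k
      simpa only [Function.comp_def, hB] using this
    have h1 := ell_zero hK (k := k) (K := K)
    have hL : L (0 : Divisor k K) = Submodule.span k (Set.range fun i : {i // a i = 0} => b i) := by
      rw [← zero_smul ℕ (poles k s), hb]
      congr 1
      ext y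
      constructor
      · rintro ⟨i, j, hij, rfl⟩
        refine ⟨⟨i, by omega⟩, ?_⟩
        obtain rfl : j = 0 := by omega
        rw [pow_zero, one_mul]
      · rintro ⟨⟨i, hi⟩, rfl⟩
        exact ⟨i, 0, by omega, by rw [pow_zero, one_mul]⟩
    rw [ell, hL, finrank_span_eq_card hli, Fintype.card_subtype] at h1
    exact h1
  let v : (Σ i : (Fin (Module.finrank K0 K)), Fin (a i - 1)) → L (divDiff Φ 1 s) := fun p =>
    ⟨algebraMap K0 K (s0 ^ (p.2 : ℕ)) * B.traceDual p.1, hmem p.1 p.2 (by have := p.2.2; omega)⟩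
  have hv : LinearIndependent k v := by
    refine LinearIndependent.of_comp (L (divDiff Φ 1 s)).subtype ?_
    have h2 := (linearIndependent_smul hpow B.traceDual.linearIndependent).comp
      (fun p : (Σ i : (Fin (Module.finrank K0 K)), Fin (a i - 1)) => ((p.2 : ℕ), p.1)) fun p q hpq => by
        obtain ⟨i, u⟩ := p
        obtain ⟨i', u'⟩ := q
        simp only [Prod.mk.injEq] at hpq
        obtain ⟨h3, rfl⟩ := hpq
        rw [Fin.ext h3]
    simpa only [Function.comp_def, Algebra.smul_def, v, Submodule.subtype_apply] using h2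
  have := L_finite hK (divDiff Φ 1 s)
  have hcard := hv.fintype_card_le_finrank
  rw [Fintype.card_sigma] at hcard
  simp only [Fintype.card_fin] at hcard
  have hsum' : (∑ i, ((a i - 1 : ℕ) : ℤ)) = ∑ i, (a i : ℤ) - Module.finrank K0 K + (Finset.univ.filter fun i => a i = 0).card := by
    rw [Finset.card_filter, Nat.cast_sum]

    have : ∀ i, ((a i - 1 : ℕ) : ℤ) = (a i : ℤ) - 1 + (((if a i = 0 then 1 else 0 : ℕ)) : ℤ) := fun i => by
      split_ifs with h <;> omega
    rw [Finset.sum_congr rfl fun i _ => this i, Finset.sum_add_distrib, Finset.sum_sub_distrib]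
    simp
    rfl
  rw [hone, hsum] at hsum'
  rw [ell]
  have h6 : ((∑ i, (a i - 1) : ℕ) : ℤ) ≤ Module.finrank k (L (divDiff Φ 1 s)) := Int.ofNat_le.2 hcard
  push_cast at h6 hsum'
  linarith

/-- The divisor of `ds` is canonical. -/
theorem isCanonical_divDiff {H : K →ₐ[k] PowerSeries K} (hH : LocRes.IsHasseFamily s H)
    (Φ : Place k K → (K →ₐ[k] LaurentSeries k)) (hΦ : ∀ P : Place k K, LocRes.IsExpansionAt P.1 (Φ P)) :
    IsCanonical k K (divDiff Φ 1 s) ∧ ell (divDiff Φ 1 s) = genus k K := by
  obtain ⟨-, hdeg⟩ := divDiff_facts hK hH Φ hΦ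
  have hge := genus_le_ell_divDiff hK hH Φ hΦ
  obtain ⟨C, hC⟩ := exists_canonical hK
  have hrr := riemann_roch hK hC (divDiff Φ 1 s)
  obtain ⟨x, hx0, hx⟩ := exists_pos_of_ell hK (D := C - divDiff Φ 1 s) (by omega)
  have hd0 : (C - divDiff Φ 1 s + FunFld.div k x).deg = 0 := by
    rw [deg_add, deg_sub, deg_div hK, (ell_canonical hK hC).2, hdeg]; ring
  have h0 := (deg_eq_zero_iff hK hx).1 hd0
  have e : divDiff Φ 1 s = C + FunFld.div k x := by rw [← sub_eq_zero, ← neg_eq_zero, ← h0]; abel
  have he : ell (divDiff Φ 1 s) = genus k K := by rw [e, ell_add_div hK C hx0, (ell_canonical hK hC).1]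
  obtain ⟨ω, hω0, hω⟩ := hC
  refine ⟨⟨mulW x (fun a ha => smul_mem_adele hK x ha) ω, fun h' => hx0 ?_, e ▸ isDivOf_mulW hK hx0 _ hω⟩, he⟩
  exact mulW_injective hK (fun y a ha => smul_mem_adele hK y ha) hω0 h'

end Groth.Agent.FunFld
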