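import Groth.Agent.FunFld.Curve
import Mathlib.LinearAlgebra.Basis.VectorSpace

/-! A basis of the functions with poles under the poles of `s`, adapted to the pole order. -/

namespace Groth.Agent.FunFld

open _root_.FunFld WithZero Finset Polynomial

variable {k K : Type*} [Field k] [Field K] [Algebra k K] (hK : IsFunctionField k K) {s : K}

variable (k) in
/-- What comes from lower levels at level `n`. -/
noncomputable def lowPart (s : K) : ℕ → Submodule k K
  | 0 => ⊥
  | n + 1 => (L (n • poles k s)).map (LinearMap.mulLeft k s) ⊔ L (n • poles k s)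

variable (k) in
/-- The level before `n`. -/
noncomputable def prevL (s : K) : ℕ → Submodule k K
  | 0 => ⊥
  | n + 1 => L (n • poles k s)

include hK

theorem val_le_exp_poles (s : K) (R : Place k K) : R.1 s ≤ exp (poles k s R) := by
  rcases eq_or_ne s 0 with rfl | hs
  · simp
  rw [le_exp_iff R hs, poles_apply hK]; omega

theorem mul_mem_L_poles {n : ℕ} {y : K} (hy : y ∈ L (n • poles k s)) : s * y ∈ L ((n + 1) • poles k s) := fun R => by
  rw [map_mul, add_nsmul, one_nsmul, Finsupp.add_apply, add_comm, exp_add]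
  exact mul_le_mul' (val_le_exp_poles hK s R) (hy R)

omit hK in
theorem L_poles_mono {m n : ℕ} (h : m ≤ n) : L (m • poles k s) ≤ L (n • poles k s) :=
  L_mono (nsmul_le_nsmul_left le_sup_right h)

theorem lowPart_le : ∀ n, lowPart k s n ≤ L (n • poles k s)
  | 0 => bot_le
  | n + 1 => sup_le (by rintro _ ⟨y, hy, rfl⟩; exact mul_mem_L_poles hK hy) (L_poles_mono n.le_succ)

theorem one_mem_L_nsmul (n : ℕ) : (1 : K) ∈ L (n • poles k s) := fun R => by
  rw [map_one, nsmul_poles_apply hK, ← exp_zero, exp_le_exp]; positivity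

variable (hs : Transcendental k s)
include hs

omit hK in
theorem ne_zero_of_tr : s ≠ 0 := fun e => hs (e ▸ isAlgebraic_zero)

theorem mem_of_mul_mem {n : ℕ} {y : K} (hy : y ∈ L ((n + 1) • poles k s)) (h : s * y ∈ L ((n + 1) • poles k s)) :
    y ∈ L (n • poles k s) := fun R => by
  have h1 := h R
  have h2 := hy R
  rw [map_mul, val_eq_exp R (ne_zero_of_tr hs), nsmul_poles_apply hK] at h1
  rw [nsmul_poles_apply hK] at h2 ⊢
  rcases le_or_gt (-R.ord s) 0 with hp | hp
  · rw [max_eq_right hp, mul_zero] at *; exact h2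
  · rw [max_eq_left hp.le] at *
    rcases eq_or_ne y 0 with rfl | hy0
    · simp
    rw [val_eq_exp R hy0, ← exp_add, exp_le_exp] at h1
    rw [val_eq_exp R hy0, exp_le_exp]
    push_cast at h1
    linarith

theorem mem_zero_of_mul_mem {y : K} (hy : y ∈ L (0 • poles k s)) (h : s * y ∈ L (0 • poles k s)) : y = 0 := by
  rw [zero_nsmul] at hy h
  by_contra hy0
  obtain ⟨P, hP⟩ := exists_pole hK hs
  have h1 := h P
  rw [map_mul, val_eq_exp P (ne_zero_of_tr hs), val_eq_exp P hy0, ← exp_add, Finsupp.coe_zero, Pi.zero_apply, exp_le_exp] at h1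
  have h3 := hy P
  rw [Finsupp.coe_zero, Pi.zero_apply, exp_zero] at h3
  have h4 : ∀ Q : Place k K, Q.1 y ≤ 1 := fun Q => by
    have := hy Q; rwa [Finsupp.coe_zero, Pi.zero_apply, exp_zero] at this
  obtain ⟨c, rfl⟩ := val_le_one_of_all hK h4
  rw [ord_algebraMap] at h1
  omega

/-- A graded basis: `L(n (s)_∞)` is spanned by the `s^j b_i` with `j + a_i ≤ n`. -/
theorem exists_graded_basis [IsAlgClosed k] :
    ∃ (b : Fin (Module.finrank (IntermediateField.adjoin k ({s} : Set K)) K) → K)
      (a : Fin (Module.finrank (IntermediateField.adjoin k ({s} : Set K)) K) → ℕ),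
      (∑ i, (a i : ℤ) = Module.finrank (IntermediateField.adjoin k ({s} : Set K)) K + genus k K - 1) ∧
      ∀ n : ℕ, L (n • poles k s) = Submodule.span k {x | ∃ i j, j + a i ≤ n ∧ x = s ^ j * b i} := by
  classical
  set d := Module.finrank (IntermediateField.adjoin k ({s} : Set K)) K with hd
  have hs0 := ne_zero_of_tr hs
  have hfinL : ∀ n : ℕ, FiniteDimensional k (L (n • poles k s)) := fun n => L_finite hK _
  -- complements
  have hW : ∀ n, ∃ W : Submodule k K, W ≤ L (n • poles k s) ∧ W ⊓ lowPart k s n = ⊥ ∧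
      W ⊔ lowPart k s n = L (n • poles k s) := fun n => by
    obtain ⟨W, hW⟩ := Submodule.exists_isCompl ((lowPart k s n).submoduleOf (L (n • poles k s)))
    refine ⟨W.map (L (n • poles k s)).subtype, Submodule.map_subtype_le _ _, ?_, ?_⟩
    · rw [eq_bot_iff]
      rintro _ ⟨⟨w, hw, rfl⟩, hlow⟩
      have : w ∈ (lowPart k s n).submoduleOf (L (n • poles k s)) ⊓ W := ⟨hlow, hw⟩
      rw [hW.inf_eq_bot, Submodule.mem_bot] at this
      simp [this]
    · refine le_antisymm (sup_le (Submodule.map_subtype_le _ _) (lowPart_le hK n)) fun x hx => ?_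
      obtain ⟨p, hp, q, hq, hpq⟩ := Submodule.mem_sup.1 (hW.sup_eq_top.symm ▸ Submodule.mem_top : (⟨x, hx⟩ : L (n • poles k s)) ∈ _ ⊔ W)
      refine Submodule.mem_sup.2 ⟨q, ⟨q, hq, rfl⟩, p, hp, ?_⟩
      rw [add_comm]; exact congrArg Subtype.val hpq
  choose W hWle hWinf hWsup using hW
  have hWfin : ∀ n, FiniteDimensional k (W n) := fun n => Submodule.finiteDimensional_of_le (hWle n)
  let w : ∀ n, Module.Basis (Fin (Module.finrank k (W n))) k (W n) := fun n => Module.finBasis k (W n)
  let ι := Σ n, Fin (Module.finrank k (W n))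
  let b : ι → K := fun i => ((w i.1 i.2 : W i.1) : K)
  let S : ℕ → Finset ι := fun n => (Finset.range (n + 1)).sigma fun _ => Finset.univ
  let term : ℕ → ι → K := fun n i => s ^ (n - i.1) * b i
  have hmemS : ∀ n i, i ∈ S n ↔ i.1 ≤ n := fun n i =>
    ⟨fun h => Nat.lt_succ_iff.1 (Finset.mem_range.1 (Finset.mem_sigma.1 h).1),
      fun h => Finset.mem_sigma.2 ⟨Finset.mem_range.2 (Nat.lt_succ_iff.2 h), Finset.mem_univ _⟩⟩
  let gens : ℕ → Set K := fun n => {x | ∃ (i : ι) (j : ℕ), j + i.1 ≤ n ∧ x = s ^ j * b i}
  have hWspan : ∀ n, W n ≤ Submodule.span k (gens n) := fun n x hx => by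
    have := (w n).mem_span (⟨x, hx⟩ : W n)
    have h2 := Submodule.mem_map_of_mem (f := (W n).subtype) this
    rw [Submodule.map_span] at h2
    refine Submodule.span_mono ?_ h2
    rintro _ ⟨_, ⟨l, rfl⟩, rfl⟩
    exact ⟨⟨n, l⟩, 0, by simp, by simp [b]⟩
  -- spanning
  have hspan : ∀ n, L (n • poles k s) = Submodule.span k (gens n) := by
    intro n
    induction n with
    | zero =>
      refine le_antisymm ?_ (Submodule.span_le.2 ?_)
      · rw [← hWsup 0]; exact sup_le (hWspan 0) bot_le
      · rintro _ ⟨i, j, hij, rfl⟩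
        have hi : i.1 = 0 := by omega
        have hj : j = 0 := by omega
        subst hj
        rw [pow_zero, one_mul, SetLike.mem_coe, ← hi]
        exact hWle _ (w i.1 i.2).2
    | succ n ih =>
      refine le_antisymm ?_ (Submodule.span_le.2 ?_)
      · rw [← hWsup (n + 1)]
        refine sup_le (hWspan _) (sup_le ?_ ?_)
        · rw [ih, Submodule.map_span, Submodule.span_le]
          rintro _ ⟨_, ⟨i, j, hij, rfl⟩, rfl⟩
          refine Submodule.subset_span ⟨i, j + 1, by omega, ?_⟩
          show s * (s ^ j * b i) = _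
          rw [pow_succ]; ring
        · rw [ih]
          exact Submodule.span_mono fun x ⟨i, j, hij, hx⟩ => ⟨i, j, by omega, hx⟩
      · rintro _ ⟨i, j, hij, rfl⟩
        rcases eq_or_ne j 0 with rfl | hj
        · rw [pow_zero, one_mul]
          exact L_poles_mono (by omega) (hWle _ (w i.1 i.2).2)
        · obtain ⟨j, rfl⟩ := Nat.exists_eq_succ_of_ne_zero hj
          rw [pow_succ, mul_comm (s ^ j) s, mul_assoc]
          refine mul_mem_L_poles hK ?_
          rw [ih]
          exact Submodule.subset_span ⟨i, j, by omega, rfl⟩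
  have hterm : ∀ n, ∀ i ∈ S n, term n i ∈ L (n • poles k s) := fun n i hi => by
    rw [hspan]
    exact Submodule.subset_span ⟨i, n - i.1, by rw [hmemS] at hi; omega, rfl⟩
  -- the new terms at each level
  have hSsucc : ∀ n (f : ι → K), ∑ i ∈ S (n + 1), f i =
      ∑ i ∈ S n, f i + ∑ l, f ⟨n + 1, l⟩ := fun n f => by
    simp only [S]
    rw [Finset.sum_sigma, Finset.sum_sigma, Finset.sum_range_succ _ (n + 1)]
  have hindep : ∀ n, ∀ c : ι → k, (∑ i ∈ S n, c i • term n i) ∈
      prevL k s n → ∀ i ∈ S n, c i = 0 := by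
    intro n
    induction n with
    | zero =>
      intro c hc i hi
      change _ ∈ (⊥ : Submodule k K) at hc
      simp only [S] at hc
      rw [Submodule.mem_bot, Finset.sum_sigma, Finset.sum_range_one] at hc
      obtain ⟨n', l⟩ := i
      have hn' : n' = 0 := Nat.le_zero.1 ((hmemS 0 ⟨n', l⟩).1 hi)
      subst hn'
      refine Fintype.linearIndependent_iff.1 (w 0).linearIndependent (fun l => c ⟨0, l⟩) (Subtype.ext ?_) l
      rw [AddSubmonoidClass.coe_finsetSum, ZeroMemClass.coe_zero, ← hc]
      exact Finset.sum_congr rfl fun l _ => by simp [term, b]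
    | succ n ih =>
      intro c hc i hi
      rw [hSsucc] at hc
      change _ ∈ L (n • poles k s) at hc
      set X := ∑ i ∈ S n, c i • term n i with hX
      set v := ∑ l, c ⟨n + 1, l⟩ • term (n + 1) ⟨n + 1, l⟩ with hv
      have hsX : ∑ i ∈ S n, c i • term (n + 1) i = s * X := by
        rw [hX, Finset.mul_sum]
        refine Finset.sum_congr rfl fun i hi => ?_
        have := (hmemS n i).1 hi
        simp only [term]
        rw [show n + 1 - i.1 = n - i.1 + 1 by omega, pow_succ, mul_smul_comm]
        congr 1; ring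
      rw [hsX] at hc
      have hXmem : X ∈ L (n • poles k s) := sum_mem fun i hi => Submodule.smul_mem _ _ (hterm n i hi)
      have hvW : v ∈ W (n + 1) := by
        refine sum_mem fun l _ => Submodule.smul_mem _ _ ?_
        simp only [term, Nat.sub_self, pow_zero, one_mul]
        exact (w (n + 1) l).2
      have hvlow : v ∈ lowPart k s (n + 1) := by
        have : v = (s * X + v) + (-(s * X)) := by abel
        rw [this]
        exact Submodule.add_mem _ (Submodule.mem_sup_right hc)
          (Submodule.neg_mem _ (Submodule.mem_sup_left ⟨X, hXmem, rfl⟩))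
      have hv0 : v = 0 := by
        have : v ∈ W (n + 1) ⊓ lowPart k s (n + 1) := ⟨hvW, hvlow⟩
        rwa [hWinf, Submodule.mem_bot] at this
      rw [hv0, add_zero] at hc
      obtain ⟨n', l⟩ := i
      have hn' := (hmemS (n + 1) ⟨n', l⟩).1 hi
      rcases Nat.lt_or_ge n n' with hlt | hle
      · have : n' = n + 1 := by simp only at hn'; omega
        subst this
        refine Fintype.linearIndependent_iff.1 (w (n + 1)).linearIndependent (fun l => c ⟨n + 1, l⟩) (Subtype.ext ?_) l
        rw [AddSubmonoidClass.coe_finsetSum, ZeroMemClass.coe_zero, ← hv0, hv]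
        exact Finset.sum_congr rfl fun l _ => by simp [term, b]
      · refine ih c ?_ ⟨n', l⟩ ((hmemS n ⟨n', l⟩).2 hle)
        cases n with
        | zero =>
          show _ ∈ (⊥ : Submodule k K)
          rw [Submodule.mem_bot]
          exact mem_zero_of_mul_mem hK hs hXmem hc
        | succ n => exact mem_of_mul_mem hK hs hXmem hc
  -- dimensions
  have hdim : ∀ n, (ell ((n + 1) • poles k s) : ℕ) = ell (n • poles k s) + (S (n + 1)).card := by
    intro n
    set T := Submodule.span k (Set.range fun i : S (n + 1) => term (n + 1) i.1) with hT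
    have hli : LinearIndependent k fun i : S (n + 1) => term (n + 1) i.1 := by
      rw [Fintype.linearIndependent_iff]
      intro g hg i
      have := hindep (n + 1) (fun x => if h : x ∈ S (n + 1) then g ⟨x, h⟩ else 0) (by
        show _ ∈ L (n • poles k s)
        rw [← Finset.sum_coe_sort (S (n + 1)), show (∑ i : S (n + 1), _) = (0 : K) from ?_]
        · exact zero_mem _
        · rw [← hg]; exact Finset.sum_congr rfl fun x _ => by rw [dif_pos x.2]) i.1 i.2
      rwa [dif_pos i.2] at this
    have hTrank : Module.finrank k T = (S (n + 1)).card := by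
      rw [hT, finrank_span_eq_card hli, Fintype.card_coe]
    have hinf : L (n • poles k s) ⊓ T = ⊥ := by
      rw [eq_bot_iff]
      rintro x ⟨hx1, hx2⟩
      obtain ⟨g, rfl⟩ := (Submodule.mem_span_range_iff_exists_fun k).1 hx2
      have hz := hindep (n + 1) (fun x => if h : x ∈ S (n + 1) then g ⟨x, h⟩ else 0) (by
        show _ ∈ L (n • poles k s)
        rw [← Finset.sum_coe_sort (S (n + 1))]
        rw [Finset.sum_congr rfl (fun (x : S (n + 1)) _ =>
          show _ = g x • term (n + 1) x.1 by rw [dif_pos x.2])]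
        exact hx1)
      refine (Submodule.mem_bot k).2 (Finset.sum_eq_zero fun i _ => ?_)
      have := hz i.1 i.2
      rw [dif_pos i.2] at this
      rw [this, zero_smul]
    have hsup : L (n • poles k s) ⊔ T = L ((n + 1) • poles k s) := by
      refine le_antisymm (sup_le (L_poles_mono n.le_succ) (Submodule.span_le.2 ?_)) ?_
      · rintro _ ⟨i, rfl⟩; exact hterm _ _ i.2
      · rw [hspan (n + 1), Submodule.span_le]
        rintro _ ⟨i, j, hij, rfl⟩
        rcases Nat.lt_or_ge (j + i.1) (n + 1) with h | h
        · refine Submodule.mem_sup_left ?_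
          rw [hspan n]; exact Submodule.subset_span ⟨i, j, by omega, rfl⟩
        · refine Submodule.mem_sup_right (Submodule.subset_span ⟨⟨i, (hmemS _ _).2 (by omega)⟩, ?_⟩)
          show s ^ (n + 1 - i.1) * b i = _
          rw [show n + 1 - i.1 = j by omega]
    have : FiniteDimensional k T := FiniteDimensional.span_of_finite k (Set.finite_range _)
    have := Submodule.finrank_sup_add_finrank_inf_eq (L (n • poles k s)) T
    rw [hsup, hinf, finrank_bot, hTrank, add_zero] at this
    exact this
  -- stabilisation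
  have hdpos : (1 : ℤ) ≤ d := by
    have := finite_adjoin hK hs
    exact_mod_cast Module.finrank_pos
  have hell : ∀ n, 2 * genus k K ≤ n → (ell (n • poles k s) : ℤ) = n * d + 1 - genus k K := fun n hn => by
    have hdeg : (n • poles k s).deg = n * (d : ℤ) := by rw [deg_nsmul, deg_poles hK hs]
    rw [ell_eq_of_deg_ge hK, hdeg]
    rw [hdeg]
    have : ((n : ℤ)) ≤ n * d := le_mul_of_one_le_right (by positivity) hdpos
    omega
  have hcard : ∀ n, 2 * genus k K + 1 ≤ n → (S n).card = d := fun n hn => by
    obtain ⟨m, rfl⟩ : ∃ m, n = m + 1 := ⟨n - 1, by omega⟩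
    have h1 := hdim m
    have h2 : ((ell ((m + 1) • poles k s) : ℕ) : ℤ) = ell (m • poles k s) + (S (m + 1)).card := by exact_mod_cast h1
    rw [hell _ (by omega), hell _ (by omega)] at h2
    push_cast at h2
    have : ((S (m + 1)).card : ℤ) = d := by linarith
    exact_mod_cast this
  set N := 2 * genus k K + 1 with hN
  have hbig : ∀ i : ι, i ∈ S N := fun i => by
    have hsub : S N ⊆ S (max N i.1) := fun x hx => by rw [hmemS] at *; omega
    have := Finset.eq_of_subset_of_card_le hsub (by rw [hcard _ (le_max_left _ _), hcard _ le_rfl])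
    rw [this, hmemS]; omega
  letI : Fintype ι := ⟨S N, hbig⟩
  have hcardι : Fintype.card ι = d := by
    rw [← hcard N le_rfl, ← Finset.card_univ]
    exact congrArg Finset.card (Finset.eq_univ_of_forall hbig).symm
  let e : Fin d ≃ ι := (Fintype.equivFinOfCardEq hcardι).symm
  refine ⟨fun l => b (e l), fun l => (e l).1, ?_, fun n => ?_⟩
  · have hsum : ∀ n : ℕ, (ell (n • poles k s) : ℤ) = ∑ i : ι, max ((n : ℤ) + 1 - i.1) 0 := by
      intro n
      induction n with
      | zero =>
        rw [zero_nsmul, ell_zero hK]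
        have h0 : (S 0).card = 1 := by
          have hle : L ((0 : ℕ) • poles k s) = W 0 := by
            rw [← hWsup 0]; exact sup_bot_eq _
          have h1 : Module.finrank k (W 0) = 1 := by
            rw [← hle, zero_nsmul]; exact ell_zero hK
          show ((Finset.range 1).sigma fun n => (Finset.univ : Finset (Fin (Module.finrank k (W n))))).card = 1
          rw [Finset.card_sigma, Finset.sum_range_one, Finset.card_univ, Fintype.card_fin, h1]
        rw [← Finset.sum_filter_add_sum_filter_not Finset.univ (fun i : ι => i ∈ S 0),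
          Finset.sum_eq_zero (s := Finset.univ.filter fun i : ι => i ∉ S 0) (fun i hi => by
            rw [Finset.mem_filter, hmemS] at hi; omega), add_zero, show Finset.univ.filter (fun i : ι => i ∈ S 0) = S 0 by ext; simp,
          Finset.sum_congr rfl (fun i hi => show max ((0 : ℕ) + 1 - (i.1 : ℤ)) 0 = (1 : ℤ) by rw [hmemS] at hi; omega)]
        rw [Finset.sum_const, h0]; norm_num
      | succ n ih =>
        rw [hdim n, Nat.cast_add, ih]
        have : ((S (n + 1)).card : ℤ) = ∑ i : ι, if i.1 ≤ n + 1 then (1 : ℤ) else 0 := by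
          rw [Finset.sum_boole]; congr 2; ext i; simp [hmemS]
        rw [this, ← Finset.sum_add_distrib]
        refine Finset.sum_congr rfl fun i _ => ?_
        split_ifs <;> push_cast <;> omega
    have h := hsum N
    rw [hell N (by omega), Finset.sum_congr rfl (fun (i : ι) _ => show max ((N : ℤ) + 1 - i.1) 0 = (N : ℤ) + 1 - i.1 by
      have := (hmemS N i).1 (hbig i); omega), Finset.sum_sub_distrib, Finset.sum_const, Finset.card_univ, hcardι,
      nsmul_eq_mul] at h
    rw [Equiv.sum_comp e (fun i : ι => (i.1 : ℤ))]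
    linarith
  · rw [hspan]
    refine congrArg _ (Set.ext fun x => ?_)
    constructor
    · rintro ⟨i, j, h, rfl⟩; exact ⟨e.symm i, j, by simpa using h, by simp⟩
    · rintro ⟨l, j, h, rfl⟩; exact ⟨e l, j, h, rfl⟩

end Groth.Agent.FunFld
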