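import Groth.Agent.FunFld.Wr.Diff
import Groth.Agent.FunFld.Ext.Lattice
import Mathlib.RingTheory.Discriminant
import Mathlib.LinearAlgebra.Matrix.Basis

/-! The discriminant of a local basis and the orders of `dx`. -/

namespace Groth.Agent.FunFld

open _root_.FunFld WithZero IsLocalRing Finset Polynomial
open scoped LaurentSeries

variable {k K : Type*} [Field k] [Field K] [Algebra k K]

theorem val_det_le {P : Place k K} {m : ℕ} (M : Matrix (Fin m) (Fin m) K) (h : ∀ i j, P.1 (M i j) ≤ 1) :
    P.1 M.det ≤ 1 := by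
  let N : Matrix (Fin m) (Fin m) P.O :=
    Matrix.of fun i j => ⟨M i j, (Valuation.mem_valuationSubring_iff P.1 _).2 (h i j)⟩
  have : M.det = ((N.det : P.O) : K) := by
    show _ = P.O.subtype N.det
    rw [RingHom.map_det]; rfl
  rw [this]
  exact (Valuation.mem_valuationSubring_iff P.1 _).1 N.det.2

/-- Residues of polynomial values. -/
theorem val_aeval_sub_lt {Q : Place k K} {z : K} {c : k} (h : Q.1 (z - algebraMap k K c) < 1) (r : k[X]) :
    Q.1 (aeval z r - algebraMap k K (r.eval c)) < 1 := by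
  have hz : Q.1 z ≤ 1 := by
    rw [← sub_add_cancel z (algebraMap k K c)]
    exact (Q.1.map_add _ _).trans (max_le h.le (Q.2.1 c))
  obtain ⟨u, hu⟩ := X_sub_C_dvd_sub_C_eval (a := c) (p := r)
  have e := congrArg (aeval z) hu
  simp only [map_sub, map_mul, aeval_X, aeval_C] at e
  rw [e, map_mul]
  exact (mul_le_mul' le_rfl (val_aeval_le Q hz u)).trans_lt (by rw [mul_one]; exact h)

/-- Splitting off the multiplicity of the residue. -/
theorem val_aeval_rootMultiplicity {Q : Place k K} {f : K} {c : k}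
    (hf : Q.1 (f - algebraMap k K c) = exp (-1)) {p : k[X]} (hp : p ≠ 0) :
    Q.1 (aeval f p) = exp (-(p.rootMultiplicity c : ℤ)) := by
  obtain ⟨r, hr, hndvd⟩ := p.exists_eq_pow_rootMultiplicity_mul_and_not_dvd hp c
  rw [dvd_iff_isRoot, IsRoot.def] at hndvd
  have h1 : Q.1 (f - algebraMap k K c) < 1 := by rw [hf, ← exp_zero, exp_lt_exp]; omega
  conv_lhs => rw [hr]
  rw [map_mul, map_mul, map_pow, map_sub, aeval_X, aeval_C, map_pow, hf,
    val_eq_one_of_const (val_aeval_sub_lt h1 r) hndvd, mul_one, ← exp_nsmul, nsmul_eq_mul, mul_neg, mul_one]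

variable {K0 : Type*} [Field K0] [Algebra k K0] [Algebra K0 K] [IsScalarTower k K0 K]
  [FiniteDimensional K0 K] [Algebra.IsSeparable K0 K] [IsAlgClosed k]
  (hK0 : IsFunctionField k K0) (hK : IsFunctionField k K) {P : Place k K0} {x : K0} (hx : P.1 x = exp (-1))
include hK0 hK hx

omit [IsScalarTower k K0 K] [FiniteDimensional K0 K] [Algebra.IsSeparable K0 K] [IsAlgClosed k] hK0 hK in
theorem val_x_over {Q : Place k K} (h : IsOver Q P) :
    Q.1 (algebraMap K0 K x) = exp (-(ramIdx Q P : ℤ)) := by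
  rw [isOverWith_of_isOver h x, hx, ← exp_nsmul, nsmul_eq_mul, mul_neg, mul_one]

/-- The order of the discriminant of a local basis is the sum of the orders of `dx`. -/
theorem ord_discr_eq (hgen : IntermediateField.adjoin k ({x} : Set K0) = ⊤)
    {d : ℕ} (hd : Module.finrank K0 K = d) (b : Module.Basis (Fin d) K0 K)
    (hb : ∀ i, ∀ Q ∈ placesOver hK0 K P, Q.1 (b i) ≤ 1)
    (hspan : ∀ z : K, (∀ Q ∈ placesOver hK0 K P, Q.1 z ≤ 1) → ∀ i, P.1 (b.repr z i) ≤ 1)
    (Φ : Place k K → (K →ₐ[k] LaurentSeries k)) (hΦ : ∀ Q : Place k K, LocRes.IsExpansionAt Q.1 (Φ Q)) :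
    P.ord (Algebra.discr K0 b) = ∑ Q ∈ placesOver hK0 K P, LocRes.ordDiff (Φ Q) 1 (algebraMap K0 K x) := by
  classical
  set S := placesOver hK0 K P
  have hPdeg : P.deg = 1 := deg_eq_one hK0 P
  have hQdeg : ∀ Q : Place k K, Q.deg = 1 := fun Q => deg_eq_one hK Q
  have hsum_e : ∑ Q ∈ S, ramIdx Q P = d := by
    have := sum_ramIdx_mul_deg (K' := K) hK0 P
    simpa [hQdeg, hPdeg, hd] using this
  -- a generator with distinct simple residues
  obtain ⟨c, hc⟩ : ∃ c : Place k K → k, Set.InjOn c S := by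
    refine ⟨fun Q => if h : Q ∈ S then Infinite.natEmbedding k (S.equivFin ⟨Q, h⟩) else 0, fun Q hQ Q' hQ' h => ?_⟩
    simp only [Finset.mem_coe] at hQ hQ'
    simp only [dif_pos hQ, dif_pos hQ'] at h
    exact congrArg Subtype.val (S.equivFin.injective (Fin.val_injective ((Infinite.natEmbedding k).injective h)))
  choose tQ htQ using fun Q : Place k K => exists_val Q (-1)
  obtain ⟨f, hf⟩ := exists_approx S (fun Q => algebraMap k K (c Q) + tQ Q) (-2)
  have hfQ : ∀ Q ∈ S, Q.1 (f - algebraMap k K (c Q)) = exp (-1) := fun Q hQ => by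
    have h2 := hf Q hQ
    rw [show f - algebraMap k K (c Q) = tQ Q + (f - (algebraMap k K (c Q) + tQ Q)) by ring,
      Valuation.map_add_eq_of_lt_left, htQ]
    rw [htQ]; exact h2.trans_lt (by rw [exp_lt_exp]; omega)
  have hfint : ∀ Q ∈ S, Q.1 f ≤ 1 := fun Q hQ => by
    rw [← sub_add_cancel f (algebraMap k K (c Q))]
    refine (Q.1.map_add _ _).trans (max_le ?_ (Q.2.1 _))
    rw [hfQ Q hQ, ← exp_zero, exp_le_exp]; omega
  have hcount : ∀ p : k[X], p ≠ 0 → (∀ Q ∈ S, Q.1 (aeval f p) ≤ exp (-(ramIdx Q P : ℤ))) →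
      (∀ Q ∈ S, ramIdx Q P ≤ p.rootMultiplicity (c Q)) ∧ d ≤ ∑ Q ∈ S, p.rootMultiplicity (c Q) := by
    intro p hp h
    have h1 : ∀ Q ∈ S, ramIdx Q P ≤ p.rootMultiplicity (c Q) := fun Q hQ => by
      have := h Q hQ
      rw [val_aeval_rootMultiplicity (hfQ Q hQ) hp, exp_le_exp] at this
      omega
    exact ⟨h1, hsum_e ▸ Finset.sum_le_sum h1⟩
  have hroots : ∀ p : k[X], p ≠ 0 → ∑ Q ∈ S, p.rootMultiplicity (c Q) ≤ p.natDegree := fun p hp => by
    calc ∑ Q ∈ S, p.rootMultiplicity (c Q) = ∑ a ∈ S.image c, p.roots.count a := by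
          rw [Finset.sum_image fun Q hQ Q' hQ' h => hc hQ hQ' h]
          exact Finset.sum_congr rfl fun Q _ => (count_roots p).symm
      _ ≤ ∑ a ∈ S.image c ∪ p.roots.toFinset, p.roots.count a :=
          Finset.sum_le_sum_of_subset Finset.subset_union_left
      _ = Multiset.card p.roots := Multiset.sum_count_eq_card fun a ha =>
          Finset.mem_union_right _ (Multiset.mem_toFinset.2 ha)
      _ ≤ p.natDegree := card_roots' p
  -- residues of combinations of powers of `f`
  have hscale : ∀ a : Fin d → K0, (∀ i, P.1 (a i) ≤ 1) →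
      (∀ Q ∈ S, Q.1 (∑ i, algebraMap K0 K (a i) * f ^ (i : ℕ)) ≤ exp (-(ramIdx Q P : ℤ))) →
      ∀ i, P.1 (a i) < 1 := by
    intro a ha hle
    choose γ hγ using fun i => exists_const hK0 P (ha i)
    set p : k[X] := ∑ i : Fin d, monomial (i : ℕ) (γ i) with hp
    have hp0 : p = 0 := by
      by_contra hne
      have h2 := (hcount p hne fun Q hQ => ?_).2
      · have h3 : p.natDegree < d := by
          rw [natDegree_lt_iff_degree_lt hne, hp]
          refine (degree_sum_le _ _).trans_lt ((Finset.sup_lt_iff (WithBot.bot_lt_coe d)).2 fun i _ => ?_)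
          exact (degree_monomial_le _ _).trans_lt (WithBot.coe_lt_coe.2 i.2)
        have := hroots p hne
        omega
      · have e : aeval f p = ∑ i, algebraMap K0 K (a i) * f ^ (i : ℕ) -
            ∑ i, algebraMap K0 K (a i - algebraMap k K0 (γ i)) * f ^ (i : ℕ) := by
          rw [← Finset.sum_sub_distrib, hp, map_sum]
          refine Finset.sum_congr rfl fun i _ => ?_
          rw [aeval_monomial, map_sub, ← IsScalarTower.algebraMap_apply]; ring
        rw [e]
        refine (Q.1.map_sub _ _).trans (max_le (hle Q hQ) (Valuation.map_sum_le _ fun i _ => ?_))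
        rw [map_mul, map_pow, isOverWith_of_isOver ((mem_placesOver hK0).1 hQ)]
        refine (mul_le_mul' (pow_le_pow_left' ((lt_one_iff_le P).1 (hγ i)) _) (pow_le_one' (hfint Q hQ) _)).trans_eq ?_
        rw [mul_one, ← exp_nsmul, nsmul_eq_mul, mul_neg, mul_one]
    intro i
    have hi := congrArg (fun q : k[X] => q.coeff (i : ℕ)) hp0
    simp only [hp, finsetSum_coeff, coeff_monomial, Fin.val_inj, Finset.sum_ite_eq', Finset.mem_univ, if_true,
      coeff_zero] at hi
    have := hγ i
    rwa [hi, map_zero, sub_zero] at this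
  have hint : ∀ a : Fin d → K0, (∀ Q ∈ S, Q.1 (∑ i, algebraMap K0 K (a i) * f ^ (i : ℕ)) ≤ 1) →
      ∀ i, P.1 (a i) ≤ 1 := by
    intro a hle j
    by_contra hj
    rw [not_le] at hj
    obtain ⟨m, -, hm⟩ := Finset.exists_max_image Finset.univ (fun i => P.1 (a i)) ⟨j, Finset.mem_univ j⟩
    have hm1 : 1 < P.1 (a m) := hj.trans_le (hm j (Finset.mem_univ j))
    have hm0 : a m ≠ 0 := fun h => by rw [h, map_zero] at hm1; exact not_lt_zero hm1
    have hinv : P.1 (a m)⁻¹ ≤ exp (-1) := (lt_one_iff_le P).1 (by rw [map_inv₀]; exact inv_lt_one_of_one_lt₀ hm1)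
    refine absurd (hscale (fun i => (a m)⁻¹ * a i) (fun i => ?_) (fun Q hQ => ?_) m) ?_
    · rw [map_mul, map_inv₀, inv_mul_le_one₀ (zero_lt_iff.2 (lt_trans zero_lt_one hm1).ne')]
      exact hm i (Finset.mem_univ i)
    · rw [show ∑ i, algebraMap K0 K ((a m)⁻¹ * a i) * f ^ (i : ℕ) =
          algebraMap K0 K (a m)⁻¹ * ∑ i, algebraMap K0 K (a i) * f ^ (i : ℕ) by
        rw [Finset.mul_sum]; exact Finset.sum_congr rfl fun i _ => by rw [map_mul]; ring,
        map_mul, isOverWith_of_isOver ((mem_placesOver hK0).1 hQ)]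
      refine (mul_le_mul' (pow_le_pow_left' hinv _) (hle Q hQ)).trans_eq ?_
      rw [mul_one, ← exp_nsmul, nsmul_eq_mul, mul_neg, mul_one]
    · simp [hm0]
  have hli : LinearIndependent K0 fun i : Fin d => f ^ (i : ℕ) := by
    rw [Fintype.linearIndependent_iff]
    intro g hg i
    by_contra hgi
    set a := fun j => (g i)⁻¹ * g j
    have ha : ∀ t : K0, ∀ Q ∈ S, Q.1 (∑ j, algebraMap K0 K (t * a j) * f ^ (j : ℕ)) ≤ 1 := fun t Q _ => by
      rw [show ∑ j, algebraMap K0 K (t * a j) * f ^ (j : ℕ) = algebraMap K0 K (t * (g i)⁻¹) * ∑ j, g j • f ^ (j : ℕ) by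
        rw [Finset.mul_sum]; exact Finset.sum_congr rfl fun j _ => by simp only [a, Algebra.smul_def, map_mul]; ring,
        hg, mul_zero, map_zero]
      exact zero_le
    obtain ⟨t, ht⟩ := exists_val P 1
    have := hint (fun j => t * a j) (ha t) i
    simp only [a, map_mul, ht, inv_mul_cancel₀ hgi, map_one, mul_one] at this
    rw [← exp_zero, exp_le_exp] at this
    omega
  let bf : Module.Basis (Fin d) K0 K := basisOfLinearIndependentOfCardEqFinrank' _ hli (by rw [Fintype.card_fin, hd])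
  have hbf : ∀ i, bf i = f ^ (i : ℕ) := fun i => by simp [bf]
  have hspanf : ∀ z : K, (∀ Q ∈ S, Q.1 z ≤ 1) → ∀ i, P.1 (bf.repr z i) ≤ 1 := fun z hz => by
    refine hint _ fun Q hQ => ?_
    have := bf.sum_repr z
    simp only [hbf, Algebra.smul_def] at this
    rw [this]; exact hz Q hQ
  -- change of basis
  have hM : ∀ (u v : Module.Basis (Fin d) K0 K), Algebra.discr K0 v = (u.toMatrix v).det ^ 2 * Algebra.discr K0 u := fun u v => by
    rw [← Algebra.discr_of_matrix_vecMul]
    congr 1
    funext j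
    show v j = ∑ i, u i * algebraMap K0 K (u.toMatrix v i j)
    conv_lhs => rw [← u.sum_toMatrix_smul_self v (j := j)]
    exact Finset.sum_congr rfl fun i _ => by rw [Algebra.smul_def, mul_comm]
  have hdet : P.1 (bf.toMatrix b).det = 1 := by
    have h1 : P.1 (bf.toMatrix b).det ≤ 1 := val_det_le _ fun i j => by
      rw [Module.Basis.toMatrix_apply]; exact hspanf _ (hb j) i
    have h2 : P.1 (b.toMatrix bf).det ≤ 1 := val_det_le _ fun i j => by
      rw [Module.Basis.toMatrix_apply]
      exact hspan _ (fun Q hQ => by rw [hbf, map_pow]; exact pow_le_one' (hfint Q hQ) _) i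
    have h3 : P.1 (bf.toMatrix b).det * P.1 (b.toMatrix bf).det = 1 := by
      rw [← map_mul, ← Matrix.det_mul, Module.Basis.toMatrix_mul_toMatrix_flip, Matrix.det_one, map_one]
    refine le_antisymm h1 ?_
    calc (1 : WithZero (Multiplicative ℤ)) = _ := h3.symm
      _ ≤ P.1 (bf.toMatrix b).det * 1 := mul_le_mul' le_rfl h2
      _ = _ := mul_one _
  let pb : PowerBasis K0 K := { gen := f, dim := d, basis := bf, basis_eq_pow := hbf }
  set G := minpoly K0 f with hGdef
  have hGd : G.natDegree = d := pb.natDegree_minpoly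
  have hGint : IsIntegral K0 f := .of_finite K0 f
  have hGmon : G.Monic := minpoly.monic hGint
  have hGsum : ∑ i ∈ Finset.range d, algebraMap K0 K (G.coeff i) * f ^ i = -(f ^ d) := by
    have h := minpoly.aeval K0 f
    rw [← hGdef, aeval_eq_sum_range, hGd, Finset.sum_range_succ, ← hGd, hGmon.coeff_natDegree, one_smul, hGd] at h
    rw [eq_neg_iff_add_eq_zero, ← h]
    congr 1
    exact Finset.sum_congr rfl fun i _ => (Algebra.smul_def _ _).symm
  have hGcoef : ∀ i, P.1 (G.coeff i) ≤ 1 := fun i => by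
    rcases lt_trichotomy i d with hi | rfl | hi
    · exact hint (fun j => G.coeff (j : ℕ)) (fun Q hQ => by
        rw [Fin.sum_univ_eq_sum_range (fun j => algebraMap K0 K (G.coeff j) * f ^ j) d, hGsum, Valuation.map_neg,
          map_pow]
        exact pow_le_one' (hfint Q hQ) _) ⟨i, hi⟩
    · rw [← hGd, hGmon.coeff_natDegree, map_one]
    · rw [coeff_eq_zero_of_natDegree_lt (hGd.symm ▸ hi), map_zero]; exact zero_le
  -- first order expansion of the coefficients
  obtain ⟨H0, hH0⟩ := exists_hasse_at hK0 hx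
  choose T hT using fun i => exists_isTaylor hK0 hx (hGcoef i)
  set PP0 : k[X] := ∑ i ∈ Finset.range (d + 1), monomial i (PowerSeries.coeff 0 (T i)) with hPP
  set R : k[X] := ∑ i ∈ Finset.range (d + 1), monomial i (PowerSeries.coeff 1 (T i)) with hR
  have hTd : PowerSeries.coeff 0 (T d) = 1 := by
    have h1 := (hT d).val_sub_cc
    rw [← PowerSeries.coeff_zero_eq_constantCoeff_apply] at h1
    refine const_unique P h1 ?_
    rw [← hGd, hGmon.coeff_natDegree, map_one, sub_self, map_zero]
    exact zero_lt_one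
  have hPd : PP0.natDegree ≤ d := natDegree_sum_le_of_forall_le _ _ fun i hi =>
    (natDegree_monomial_le _).trans (Nat.lt_succ_iff.1 (Finset.mem_range.1 hi))
  have hPP0 : PP0 ≠ 0 := fun h => by
    have := congrArg (fun q : k[X] => q.coeff d) h
    simp only [hPP, finsetSum_coeff, coeff_monomial, Finset.sum_ite_eq', Finset.mem_range, Nat.lt_succ_self, if_true,
      hTd, coeff_zero, one_ne_zero] at this
  have he : ∀ Q ∈ S, ∀ (y : K0) (r : ℕ), P.1 y ≤ exp (-(r : ℤ)) → ∀ i : ℕ,
      Q.1 (algebraMap K0 K y * f ^ i) ≤ exp (-((r * ramIdx Q P : ℕ) : ℤ)) := by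
    intro Q hQ y r hy i
    rw [map_mul, map_pow, isOverWith_of_isOver ((mem_placesOver hK0).1 hQ)]
    refine (mul_le_mul' (pow_le_pow_left' hy _) (pow_le_one' (hfint Q hQ) _)).trans_eq ?_
    rw [mul_one, ← exp_nsmul, nsmul_eq_mul, Nat.cast_mul]; ring_nf
  have hG0 : ∑ i ∈ Finset.range (d + 1), algebraMap K0 K (G.coeff i) * f ^ i = 0 := by
    rw [Finset.sum_range_succ, hGsum, ← hGd, hGmon.coeff_natDegree, map_one, one_mul, neg_add_cancel]
  have hrel : ∀ Q ∈ S, Q.1 (aeval f PP0 + algebraMap K0 K x * aeval f R) ≤ exp (-((2 * ramIdx Q P : ℕ) : ℤ)) := by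
    intro Q hQ
    have e : aeval f PP0 + algebraMap K0 K x * aeval f R = -∑ i ∈ Finset.range (d + 1),
        algebraMap K0 K (G.coeff i - aeval x (PowerSeries.trunc 2 (T i))) * f ^ i := by
      simp only [map_sub, sub_mul, Finset.sum_sub_distrib, hG0, zero_sub, neg_neg]
      rw [hPP, hR, map_sum, map_sum, Finset.mul_sum, ← Finset.sum_add_distrib]
      refine Finset.sum_congr rfl fun i _ => ?_
      rw [PowerSeries.trunc_succ, PowerSeries.trunc_succ, PowerSeries.trunc_zero', zero_add, map_add, aeval_monomial,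
        aeval_monomial, aeval_monomial, aeval_monomial, pow_zero, mul_one, pow_one, map_add, map_mul,
        ← IsScalarTower.algebraMap_apply, ← IsScalarTower.algebraMap_apply]
      ring
    rw [e, Valuation.map_neg]
    exact Valuation.map_sum_le _ fun i _ => he Q hQ _ 2 (hT i 2) i
  have hRint : ∀ Q ∈ S, Q.1 (aeval f R) ≤ 1 := fun Q hQ => val_aeval_le Q (hfint Q hQ) R
  have hPe : ∀ Q ∈ S, Q.1 (aeval f PP0) ≤ exp (-(ramIdx Q P : ℤ)) := fun Q hQ => by
    rw [show aeval f PP0 = (aeval f PP0 + algebraMap K0 K x * aeval f R) - algebraMap K0 K x * aeval f R by ring]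
    refine (Q.1.map_sub _ _).trans (max_le ((hrel Q hQ).trans (by rw [exp_le_exp]; omega)) ?_)
    rw [map_mul, val_x_over hx ((mem_placesOver hK0).1 hQ)]
    exact mul_le_of_le_one_right' (hRint Q hQ)
  have hmult : ∀ Q ∈ S, PP0.rootMultiplicity (c Q) = ramIdx Q P := by
    obtain ⟨h1, h2⟩ := hcount PP0 hPP0 hPe
    intro Q hQ
    have h3 := hroots PP0 hPP0
    by_contra hne
    have h4 : ∑ Q ∈ S, ramIdx Q P < ∑ Q ∈ S, PP0.rootMultiplicity (c Q) :=
      Finset.sum_lt_sum h1 ⟨Q, hQ, lt_of_le_of_ne (h1 Q hQ) (Ne.symm hne)⟩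
    omega
  have hRunit : ∀ Q ∈ S, Q.1 (aeval f R) = 1 := fun Q hQ => by
    have he1 : 0 < ramIdx Q P := IsOverWith.pos (isOverWith_of_isOver ((mem_placesOver hK0).1 hQ))
    have hv : Q.1 (aeval f PP0) = exp (-(ramIdx Q P : ℤ)) := by
      rw [val_aeval_rootMultiplicity (hfQ Q hQ) hPP0, hmult Q hQ]
    have hlt : Q.1 (aeval f PP0 + algebraMap K0 K x * aeval f R) < Q.1 (aeval f PP0) :=
      (hrel Q hQ).trans_lt (by rw [hv, exp_lt_exp]; omega)
    have h5 : Q.1 (algebraMap K0 K x * aeval f R) = exp (-(ramIdx Q P : ℤ)) := by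
      rw [show algebraMap K0 K x * aeval f R = (aeval f PP0 + algebraMap K0 K x * aeval f R) - aeval f PP0 by ring,
        Valuation.map_sub_eq_of_lt_right _ hlt, hv]
    rw [map_mul, val_x_over hx ((mem_placesOver hK0).1 hQ)] at h5
    exact mul_eq_left₀ exp_ne_zero |>.1 h5
  -- the orders
  have hmain : ∀ Q ∈ S, LocRes.ordDiff (Φ Q) 1 (algebraMap K0 K x) = Q.ord (aeval f G.derivative) := by
    intro Q hQ
    obtain ⟨H, hH⟩ := exists_hasse_at hK (hfQ Q hQ)
    rw [ordDiff_eq hK (hfQ Q hQ) hH (hΦ Q), one_mul]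
    set D := hasseDer hH with hD
    have hDf : D f = 1 := by
      have h1 : D (f - algebraMap k K (c Q)) = 1 := hasseDer_self hH
      rwa [map_sub, Derivation.map_algebraMap, sub_zero] at h1
    set D0 := hasseDer hH0 with hD0
    have hD0x : D0 x = 1 := hasseDer_self hH0
    set Sm := ∑ i ∈ Finset.range (d + 1), algebraMap K0 K (D0 (G.coeff i)) * f ^ i with hSm
    have hdiff : D (aeval f G) = Sm * D (algebraMap K0 K x) + aeval f G.derivative * D f := by
      have hgen' : ∀ q : K0[X], D (aeval f q) =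
          (q.sum fun i a => algebraMap K0 K (D0 a) * f ^ i) * D (algebraMap K0 K x) + aeval f q.derivative * D f := by
        intro q
        induction q using Polynomial.induction_on' with
        | add a b ha hb =>
          rw [map_add, map_add, ha, hb, Polynomial.sum_add_index _ _ _ (fun i => by simp) (fun i u v => by
            rw [map_add, map_add, add_mul]), derivative_add, map_add]
          ring
        | monomial i a =>
          rw [Polynomial.sum_monomial_index _ _ (by simp), aeval_monomial, derivative_monomial, aeval_monomial,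
            Derivation.leibniz, smul_eq_mul, smul_eq_mul, Derivation.leibniz_pow, nsmul_eq_mul, smul_eq_mul,
            derivation_chain D D0 hD0x (hgen ▸ IntermediateField.mem_top : a ∈ _), map_mul, map_natCast]
          ring
      rw [hgen' G, Polynomial.sum_over_range' _ (fun i => by simp) (d + 1) (by omega)]
    have hSunit : Q.1 Sm = 1 := by
      have hlt : Q.1 (Sm - aeval f R) < 1 := by
        rw [hSm, hR, map_sum, ← Finset.sum_sub_distrib]
        refine Valuation.map_sum_lt Q.1 one_ne_zero fun i _ => ?_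
        rw [aeval_monomial, IsScalarTower.algebraMap_apply k K0 K, ← sub_mul, ← map_sub]
        have h6 : P.1 (D0 (G.coeff i) - algebraMap k K0 (PowerSeries.coeff 1 (T i))) ≤ exp (-((1 : ℕ) : ℤ)) :=
          (lt_one_iff_le P).1 (hasseD_sub_coeff hK0 hx hH0 (hT i) 1)
        refine (he Q hQ _ 1 h6 i).trans_lt ?_
        rw [← exp_zero, exp_lt_exp]
        have : 0 < ramIdx Q P := IsOverWith.pos (isOverWith_of_isOver ((mem_placesOver hK0).1 hQ))
        omega
      rw [show Sm = aeval f R + (Sm - aeval f R) by ring, Valuation.map_add_eq_of_lt_left _ (by rwa [hRunit Q hQ]),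
        hRunit Q hQ]
    rw [minpoly.aeval, map_zero, hDf, mul_one] at hdiff
    have h7 : aeval f G.derivative = -(Sm * D (algebraMap K0 K x)) := eq_neg_of_add_eq_zero_right hdiff.symm
    rw [h7]
    show Q.ord (LocRes.hasseD H 1 (algebraMap K0 K x)) = _
    rw [Place.ord, Place.ord, Valuation.map_neg, map_mul, hSunit, one_mul, hasseDer_apply]
  -- the discriminant
  let : Algebra P.O K := ((algebraMap K0 K).comp (algebraMap P.O K0)).toAlgebra
  have : IsScalarTower P.O K0 K := IsScalarTower.of_algebraMap_eq fun _ => rfl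
  have hne : aeval f G.derivative ≠ 0 :=
    (Algebra.IsSeparable.isSeparable K0 f).aeval_derivative_ne_zero (minpoly.aeval K0 f)
  have hN := deg_mul_ord_norm hK0 P (aeval f G.derivative)
  simp only [hPdeg, hQdeg, Nat.cast_one, one_mul] at hN
  rw [Finset.sum_congr rfl hmain, ← hN, hM bf b]
  have h8 : Algebra.discr K0 bf = (-1) ^ (d * (d - 1) / 2) * Algebra.norm K0 (aeval f G.derivative) := by
    have := Algebra.discr_powerBasis_eq_norm K0 pb
    rw [hd] at this
    exact this
  rw [Place.ord, Place.ord, map_mul, map_pow, hdet, one_pow, one_mul, h8, map_mul, map_pow, Valuation.map_neg, map_one,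
    one_pow, one_mul]

end Groth.Agent.FunFld
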