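import Groth.Agent.FunFld.Wr.StrongFixed
import Groth.Agent.FunFld.Weierstrass

/-! Automorphisms acting on places; functions of degree two. -/

namespace Groth.Agent.FunFld

open _root_.FunFld WithZero Finset

variable {k K : Type*} [Field k] [Field K] [Algebra k K]

/-- The place `z ↦ v_P (σ z)`. -/
def pullPlace (σ : K ≃ₐ[k] K) (P : Place k K) : Place k K :=
  ⟨P.1.comap (σ.toRingEquiv.toRingHom), fun c => by
    rw [Valuation.comap_apply]
    show P.1 (σ (algebraMap k K c)) ≤ 1
    rw [AlgEquiv.commutes]; exact P.2.1 c,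
   fun γ => by
    obtain ⟨z, hz⟩ := P.2.2 γ
    exact ⟨σ.symm z, by show P.1 (σ (σ.symm z)) = γ; rw [AlgEquiv.apply_symm_apply, hz]⟩⟩

theorem pullPlace_apply (σ : K ≃ₐ[k] K) (P : Place k K) (z : K) : (pullPlace σ P).1 z = P.1 (σ z) := rfl

theorem pullPlace_mul (σ τ : K ≃ₐ[k] K) (P : Place k K) : pullPlace (σ * τ) P = pullPlace τ (pullPlace σ P) :=
  Subtype.ext (Valuation.ext fun _ => rfl)

theorem pullPlace_one (P : Place k K) : pullPlace (1 : K ≃ₐ[k] K) P = P := Subtype.ext (Valuation.ext fun _ => rfl)

theorem pullPlace_symm_pullPlace (σ : K ≃ₐ[k] K) (P : Place k K) : pullPlace σ.symm (pullPlace σ P) = P :=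
  Subtype.ext (Valuation.ext fun z => by rw [pullPlace_apply, pullPlace_apply, AlgEquiv.apply_symm_apply])

theorem pullPlace_injective (σ : K ≃ₐ[k] K) : Function.Injective (pullPlace σ) := fun P Q h => by
  rw [← pullPlace_symm_pullPlace σ P, h, pullPlace_symm_pullPlace]

theorem pullPlace_surjective (σ : K ≃ₐ[k] K) : Function.Surjective (pullPlace σ) := fun P =>
  ⟨pullPlace σ.symm P, pullPlace_symm_pullPlace σ.symm P⟩

theorem mem_L_pullPlace (σ : K ≃ₐ[k] K) (P : Place k K) (m : ℤ) (x : K) :
    x ∈ L (Finsupp.single (pullPlace σ P) m) ↔ σ x ∈ L (Finsupp.single P m) := by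
  classical
  constructor
  · intro h R
    refine (h (pullPlace σ R)).trans_eq ?_
    rw [Finsupp.single_apply, Finsupp.single_apply]
    simp only [(pullPlace_injective σ).eq_iff]
  · intro h R
    obtain ⟨R', rfl⟩ := pullPlace_surjective σ R
    rw [pullPlace_apply]
    refine (h R').trans_eq ?_
    rw [Finsupp.single_apply, Finsupp.single_apply]
    simp only [(pullPlace_injective σ).eq_iff]

theorem L_pullPlace_eq_iff (σ : K ≃ₐ[k] K) (P : Place k K) (a b : ℤ) :
    L (Finsupp.single (pullPlace σ P) a) = L (Finsupp.single (pullPlace σ P) b) ↔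
      L (Finsupp.single P a) = L (Finsupp.single P b) := by
  refine ⟨fun h => SetLike.ext fun y => ?_, fun h => SetLike.ext fun y => by rw [mem_L_pullPlace, mem_L_pullPlace, h]⟩
  obtain ⟨x, rfl⟩ := σ.surjective y
  rw [← mem_L_pullPlace, ← mem_L_pullPlace, h]

variable [IsAlgClosed k] (hK : IsFunctionField k K)
include hK

theorem isFixedPt_iff (σ : K ≃ₐ[k] K) (P : Place k K) :
    IsFixedPt (σ : K →ₐ[k] K) P ↔ pullPlace σ P = P := by
  refine ⟨fun h => (eq_of_le fun x hx => ?_).symm, fun h z hz => ?_⟩
  · exact fixed_le_one hK h hx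
  · show P.1 (σ z) < 1
    rwa [← pullPlace_apply, h]

omit [IsAlgClosed k] in
/-- A nontrivial automorphism moves some place. -/
theorem exists_moved {σ : K ≃ₐ[k] K} (hσ : σ ≠ AlgEquiv.refl) : ∃ P : Place k K, pullPlace σ P ≠ P := by
  by_contra hall
  push Not at hall
  have hscal : ∀ z : K, z ≠ 0 → ∃ c : k, σ z = algebraMap k K c * z := fun z hz => by
    obtain ⟨c, hc⟩ := val_le_one_of_all hK (x := σ z / z) fun R => by
      rw [map_div₀, ← pullPlace_apply, hall R, div_self]
      exact (Valuation.ne_zero_iff _).2 hz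
    exact ⟨c, by rw [hc, div_mul_cancel₀ _ hz]⟩
  refine hσ (AlgEquiv.ext fun z => ?_)
  by_cases hz : z ∈ Set.range (algebraMap k K)
  · obtain ⟨c, rfl⟩ := hz; simp
  have hz0 : z ≠ 0 := fun h => hz ⟨0, by rw [h, map_zero]⟩
  have hz1 : z + 1 ≠ 0 := fun h => hz ⟨-1, by rw [map_neg, map_one]; exact (eq_neg_of_add_eq_zero_left h).symm⟩
  obtain ⟨c, hc⟩ := hscal z hz0
  obtain ⟨c', hc'⟩ := hscal (z + 1) hz1
  rw [map_add, map_one, hc] at hc'
  by_cases hcc : c = c'
  · subst hcc
    have h1 : algebraMap k K c = 1 := by linear_combination -hc'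
    rw [hc, h1, one_mul]; rfl
  · refine absurd ⟨(c' - 1) / (c - c'), ?_⟩ hz
    have hne : algebraMap k K c - algebraMap k K c' ≠ 0 :=
      sub_ne_zero.2 fun h => hcc ((algebraMap k K).injective h)
    rw [map_div₀, map_sub, map_sub, map_one, div_eq_iff hne]
    linear_combination -hc'

/-- A nontrivial automorphism fixes at most `2g + 2` places. -/
theorem fixed_bound {σ : K ≃ₐ[k] K} (hσ : σ ≠ AlgEquiv.refl) :
    {R : Place k K | pullPlace σ R = R}.Finite ∧
      {R : Place k K | pullPlace σ R = R}.ncard ≤ 2 * genus k K + 2 := by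
  classical
  obtain ⟨P, hP⟩ := exists_moved hK hσ
  obtain ⟨P', hP'⟩ := pullPlace_surjective σ P
  set D : Divisor k K := Finsupp.single P ((genus k K + 1 : ℕ) : ℤ) with hD
  have hdeg : D.deg = (genus k K + 1 : ℕ) := by rw [hD, deg_single, deg_eq_one hK, Nat.cast_one, mul_one]
  have hne : ¬ L D ≤ L (0 : Divisor k K) := fun h => by
    have := L_finite hK (0 : Divisor k K)
    have h1 : ell D ≤ ell (0 : Divisor k K) := Submodule.finrank_mono h
    rw [ell_zero hK] at h1
    have h2 := delta_le_genus hK D
    rw [delta, hdeg] at h2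
    omega
  obtain ⟨x, hx, hx'⟩ := SetLike.not_le_iff_exists.1 hne
  have hoff : ∀ Q, Q ≠ P → Q.1 x ≤ 1 := fun Q hQ => by
    have := hx Q
    rwa [hD, Finsupp.single_eq_of_ne hQ, exp_zero] at this
  have hPx : 1 < P.1 x := by
    by_contra h
    rw [not_lt] at h
    refine hx' fun Q => ?_
    rw [Finsupp.coe_zero, Pi.zero_apply, exp_zero]
    rcases eq_or_ne Q P with rfl | hQ
    · exact h
    · exact hoff Q hQ
  set u := σ x - x
  have hu : u ≠ 0 := fun h => by
    have hfix : σ x = x := sub_eq_zero.1 h
    have h1 : 1 < P'.1 x := by rw [← hfix, ← pullPlace_apply, hP']; exact hPx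
    rcases eq_or_ne P' P with e | e
    · exact hP (by conv_lhs => rw [← e, hP'])
    · exact not_le.2 h1 (hoff P' e)
  have hzero : ∀ R ∈ {R : Place k K | pullPlace σ R = R}, R ≠ P ∧ R ≠ P' ∧ 0 < R.ord u := by
    intro R hR
    have h1 : R ≠ P := fun h => hP (h ▸ hR)
    have h2 : R ≠ P' := fun h => h1 (by rw [← hP', ← h]; exact hR.symm)
    refine ⟨h1, h2, (ord_pos_iff R hu).2 ?_⟩
    obtain ⟨c, hc⟩ := exists_const hK R (hoff R h1)
    have hc' : R.1 (σ x - algebraMap k K c) < 1 := by
      rw [← σ.commutes c, ← map_sub, ← pullPlace_apply, hR]; exact hc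
    rw [show u = (σ x - algebraMap k K c) - (x - algebraMap k K c) by ring]
    exact (Valuation.map_sub _ _ _).trans_lt (max_lt hc' hc)
  have hfin : {R : Place k K | pullPlace σ R = R}.Finite := (finite_zeros hK u).subset fun R hR => (hzero R hR).2.2
  refine ⟨hfin, ?_⟩
  rw [Set.ncard_eq_toFinset_card _ hfin]
  set S := hfin.toFinset
  set D' : Divisor k K := D + Finsupp.single P' ((genus k K + 1 : ℕ) : ℤ) with hD'
  have hle : ∑ R ∈ S, Finsupp.single R (1 : ℤ) ≤ D' + div k u := by
    intro Q
    rw [Finsupp.coe_finsetSum, Finset.sum_apply, Finsupp.add_apply, div_apply hK]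
    have hsum : ∑ R ∈ S, (Finsupp.single R (1 : ℤ) : Divisor k K) Q = if Q ∈ S then 1 else 0 := by
      simp [Finsupp.single_apply]
    rw [hsum]
    have hD0 : ∀ Q : Place k K, 0 ≤ Finsupp.single P' ((genus k K + 1 : ℕ) : ℤ) Q :=
      fun Q => (Finsupp.single_nonneg.2 (Int.natCast_nonneg _) : (0 : Divisor k K) ≤ _) Q
    have hD0' : ∀ Q : Place k K, 0 ≤ D Q :=
      fun Q => (Finsupp.single_nonneg.2 (Int.natCast_nonneg _) : (0 : Divisor k K) ≤ _) Q
    split_ifs with hQ
    · obtain ⟨-, -, h⟩ := hzero Q (hfin.mem_toFinset.1 hQ)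
      rw [hD', Finsupp.add_apply]
      have := hD0 Q; have := hD0' Q
      omega
    · have hv : Q.1 u ≤ exp (D' Q) := by
        refine (Valuation.map_sub _ _ _).trans (max_le ?_ ?_)
        · rw [← pullPlace_apply]
          refine (hx _).trans ?_
          rw [exp_le_exp, hD', Finsupp.add_apply]
          have h3 := hD0' Q
          rw [hD] at h3 ⊢
          rcases eq_or_ne Q P' with rfl | hQ'
          · rw [hP', Finsupp.single_eq_same, Finsupp.single_eq_same]; omega
          · rw [Finsupp.single_eq_of_ne (fun h => hQ' (pullPlace_injective σ (h.trans hP'.symm)))]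
            have := hD0 Q
            omega
        · refine (hx Q).trans ?_
          rw [exp_le_exp, hD', Finsupp.add_apply]
          have := hD0 Q
          omega
      rw [le_exp_iff Q hu] at hv
      omega
  have h0 := deg_nonneg (sub_nonneg.2 hle)
  rw [deg_sub, deg_add, deg_div hK, hD', deg_add, hdeg, deg_single, deg_eq_one hK] at h0
  have hS : Divisor.deg (∑ R ∈ S, Finsupp.single R (1 : ℤ)) = (S.card : ℤ) := by
    have : ∀ T : Finset (Place k K), Divisor.deg (∑ R ∈ T, Finsupp.single R (1 : ℤ)) = (T.card : ℤ) := fun T => by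
      induction T using Finset.induction with
      | empty => simp [deg_zero]
      | insert a T ha ih => rw [Finset.sum_insert ha, deg_add, deg_single, deg_eq_one hK, ih, Finset.card_insert_of_notMem ha]; push_cast; ring
    exact this S
  rw [hS] at h0
  push_cast at h0
  omega

/-- An element of pole order two. -/
theorem exists_double_pole (hg : 0 < genus k K) {P : Place k K}
    (h : L (Finsupp.single P (2 : ℤ)) ≠ L (Finsupp.single P (1 : ℤ))) :
    ∃ x : K, x ∈ L (Finsupp.single P (2 : ℤ)) ∧ P.ord x = -2 ∧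
      Module.finrank (IntermediateField.adjoin k ({x} : Set K)) K = 2 ∧
      L (Finsupp.single P (2 : ℤ)) = Submodule.span k {1, x} := by
  have hP := deg_eq_one hK P
  have hle : (Finsupp.single P (1 : ℤ) : Divisor k K) ≤ Finsupp.single P (2 : ℤ) := Finsupp.single_mono (by omega)
  obtain ⟨x, hx, hx'⟩ := SetLike.exists_of_lt (lt_of_le_of_ne (L_mono hle) h.symm)
  have hx0 : x ≠ 0 := fun e => hx' (e ▸ zero_mem _)
  have hoff : ∀ R, R ≠ P → 0 ≤ R.ord x := fun R hR => by
    have := hx R
    rw [le_exp_iff R hx0, Finsupp.single_eq_of_ne hR] at this; omega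
  have hord : P.ord x = -2 := by
    have h5 := hx P
    rw [le_exp_iff P hx0, Finsupp.single_eq_same] at h5
    by_contra hne'
    refine hx' fun R => ?_
    rw [le_exp_iff R hx0]
    rcases eq_or_ne R P with rfl | hR
    · rw [Finsupp.single_eq_same]; omega
    · rw [Finsupp.single_eq_of_ne hR]; have := hoff R hR; omega
  have hp : poles k x = Finsupp.single P (2 : ℤ) := Finsupp.ext fun R => by
    rw [poles_apply hK]
    rcases eq_or_ne R P with rfl | hR
    · rw [Finsupp.single_eq_same, hord]; omega
    · rw [Finsupp.single_eq_of_ne hR]; have := hoff R hR; omega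
  have htr : Transcendental k x := mem_range_of_ord hK (P := P) (by omega)
  have hd := deg_poles hK htr
  rw [hp, deg_single, hP] at hd
  refine ⟨x, hx, hord, by omega, ?_⟩
  have hfin := L_finite hK (Finsupp.single P (2 : ℤ))
  have h1 : (1 : K) ∈ L (Finsupp.single P (2 : ℤ)) := fun R => by
    rw [map_one, ← exp_zero, exp_le_exp]
    exact (Finsupp.single_nonneg.2 (by omega) : (0 : Divisor k K) ≤ _) R
  refine (Submodule.eq_of_le_of_finrank_le (Submodule.span_le.2 (Set.insert_subset h1 (Set.singleton_subset_iff.2 hx))) ?_).symm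
  have hone : ell (Finsupp.single P (1 : ℤ)) ≤ 1 := by
    by_contra hlt
    have hne : ¬ L (Finsupp.single P (1 : ℤ)) ≤ L (0 : Divisor k K) := fun h => by
      have := L_finite hK (0 : Divisor k K)
      have h2 : ell (Finsupp.single P (1 : ℤ)) ≤ ell (0 : Divisor k K) := Submodule.finrank_mono h
      rw [ell_zero hK] at h2
      omega
    obtain ⟨y, hy, hy'⟩ := SetLike.not_le_iff_exists.1 hne
    have hy0 : y ≠ 0 := fun e => hy' (e ▸ zero_mem _)
    have hR : ∀ R, R ≠ P → 0 ≤ R.ord y := fun R hR => by
      have := hy R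
      rw [le_exp_iff R hy0, Finsupp.single_eq_of_ne hR] at this; omega
    have hordy : P.ord y = -1 := by
      have h3 := hy P
      rw [le_exp_iff P hy0, Finsupp.single_eq_same] at h3
      by_contra hne'
      refine hy' fun R => ?_
      rw [le_exp_iff R hy0, Finsupp.coe_zero, Pi.zero_apply]
      rcases eq_or_ne R P with rfl | hne2
      · omega
      · have := hR R hne2; omega
    have := (rational_props hK (adjoin_eq_top_of_simple_pole hK hP hordy hR)).2.1
    omega
  have h2 := ell_add_single_le hK (Finsupp.single P (1 : ℤ)) P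
  rw [← Finsupp.single_add, hP] at h2
  have hli : LinearIndependent k ![(1 : K), x] := by
    rw [LinearIndependent.pair_iff]
    intro a b hab
    rw [Algebra.smul_def, Algebra.smul_def, mul_one] at hab
    rcases eq_or_ne b 0 with rfl | hb
    · rw [map_zero, zero_mul, add_zero] at hab
      exact ⟨(algebraMap k K).injective (hab.trans (map_zero _).symm), rfl⟩
    · exfalso
      have hxc : x = algebraMap k K (-a / b) := by
        rw [map_div₀, map_neg, eq_div_iff ((map_ne_zero _).2 hb)]
        linear_combination hab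
      rw [hxc, ord_algebraMap] at hord
      omega
  have h3 : Module.finrank k (Submodule.span k ({1, x} : Set K)) = 2 := by
    rw [show ({1, x} : Set K) = Set.range ![(1 : K), x] by simp [Matrix.range_cons, Matrix.range_empty, Set.pair_comm],
      finrank_span_eq_card hli, Fintype.card_fin]
  rw [h3]
  show ell (Finsupp.single P (2 : ℤ)) ≤ 2
  rw [show ((1 : ℤ) + 1) = 2 by norm_num] at h2
  omega

/-- Uniqueness of the double covering of the line. -/
theorem mem_adjoin_of_double_pole (hg : 1 < genus k K) {P R : Place k K} {x y : K}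
    (hx : x ∈ L (Finsupp.single P (2 : ℤ))) (hy : y ∈ L (Finsupp.single R (2 : ℤ)))
    (hx2 : Module.finrank (IntermediateField.adjoin k ({x} : Set K)) K = 2) :
    y ∈ IntermediateField.adjoin k ({x} : Set K) := by
  classical
  by_contra hnot
  set F := IntermediateField.adjoin k ({x} : Set K) with hF
  have htr : Transcendental k x := transcendental_of_not_mem hK fun ⟨c, hc⟩ => by
    have hbot : F = ⊥ := by
      rw [hF, ← hc, IntermediateField.adjoin_simple_eq_bot_iff]; exact IntermediateField.algebraMap_mem _ c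
    obtain ⟨z, hz, -⟩ := hK.1
    rw [hF, ← hF, hbot, IntermediateField.finrank_bot'] at hx2
    have : FiniteDimensional k K := Module.finite_of_finrank_pos (by omega)
    exact hz (Algebra.IsAlgebraic.isAlgebraic z)
  set g := genus k K
  set D : Divisor k K := g • Finsupp.single P (2 : ℤ) + Finsupp.single R (2 : ℤ) with hD
  have hdeg : D.deg = 2 * g + 2 := by
    rw [hD, deg_add, deg_nsmul, deg_single, deg_single, deg_eq_one hK, deg_eq_one hK]; push_cast; ring
  have hell := ell_eq_of_deg_ge hK (D := D) (by rw [hdeg]; omega)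
  rw [hdeg] at hell
  have hpow : ∀ i : ℕ, i ≤ g → x ^ i ∈ L (g • Finsupp.single P (2 : ℤ)) := fun i hi =>
    L_mono (nsmul_le_nsmul_left (Finsupp.single_nonneg.2 (by omega)) hi) (pow_mem_L hx i)
  let z : Fin (g + 1) ⊕ Fin (g + 1) → K := Sum.elim (fun i => x ^ (i : ℕ)) (fun i => x ^ (i : ℕ) * y)
  have hzmem : ∀ i, z i ∈ L D := fun i => by
    rcases i with i | i
    · exact L_mono (le_add_of_nonneg_right (Finsupp.single_nonneg.2 (by omega))) (hpow i (Nat.lt_succ_iff.1 i.2))
    · intro Q
      show Q.1 (x ^ (i : ℕ) * y) ≤ _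
      rw [map_mul, hD, Finsupp.add_apply, exp_add]
      exact mul_le_mul' (hpow i (Nat.lt_succ_iff.1 i.2) Q) (hy Q)
  have hli : LinearIndependent k z := by
    rw [Fintype.linearIndependent_iff]
    intro c hc
    set p : Polynomial k := ∑ i : Fin (g + 1), Polynomial.monomial (i : ℕ) (c (Sum.inl i)) with hp
    set q : Polynomial k := ∑ i : Fin (g + 1), Polynomial.monomial (i : ℕ) (c (Sum.inr i)) with hq
    have heq : Polynomial.aeval x p + Polynomial.aeval x q * y = 0 := by
      rw [← hc, Fintype.sum_sum_type, hp, hq, map_sum, map_sum, Finset.sum_mul]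
      congr 1 <;> exact Finset.sum_congr rfl fun i _ => by simp [z, Algebra.smul_def, Polynomial.aeval_monomial, mul_assoc]
    have hmem : ∀ r : Polynomial k, Polynomial.aeval x r ∈ F := fun r => by
      have h1 := Polynomial.aeval_algHom_apply F.val (⟨x, IntermediateField.mem_adjoin_simple_self k x⟩ : F) r
      have e : Polynomial.aeval x r = F.val (Polynomial.aeval (⟨x, IntermediateField.mem_adjoin_simple_self k x⟩ : F) r) := h1
      rw [e]; exact SetLike.coe_mem _
    have hq0 : q = 0 := by
      by_contra hne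
      have hqne : Polynomial.aeval x q ≠ 0 := fun h => htr ⟨q, hne, h⟩
      refine hnot ?_
      rw [show y = -Polynomial.aeval x p / Polynomial.aeval x q by rw [eq_div_iff hqne]; linear_combination heq]
      exact div_mem (neg_mem (hmem p)) (hmem q)
    have hp0 : p = 0 := by
      by_contra hne
      rw [hq0, map_zero, zero_mul, add_zero] at heq
      exact htr ⟨p, hne, heq⟩
    rintro (i | i)
    · have := congrArg (fun r : Polynomial k => r.coeff (i : ℕ)) hp0
      simpa [hp, Polynomial.finsetSum_coeff, Polynomial.coeff_monomial, Fin.val_inj] using this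
    · have := congrArg (fun r : Polynomial k => r.coeff (i : ℕ)) hq0
      simpa [hq, Polynomial.finsetSum_coeff, Polynomial.coeff_monomial, Fin.val_inj] using this
  have := card_le_ell hK hli hzmem
  simp only [Fintype.card_sum, Fintype.card_fin] at this
  omega

end Groth.Agent.FunFld
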