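import Groth.Agent.FunFld.Wr.Wronskian
import Mathlib.LinearAlgebra.Vandermonde
import Mathlib.Data.Nat.Choose.Cast

/-! Consequences: Weierstrass points, strong fixed points, classical maps. -/

namespace Groth.Agent.FunFld

open _root_.FunFld WithZero IsLocalRing Finset Matrix
open scoped LaurentSeries
open PowerSeries (coeff constantCoeff)

/-! ### Binomial determinants -/

theorem det_choose_ne_zero {R : Type*} [Field R] {m : ℕ} (v : Fin m → ℕ)
    (hinj : Function.Injective fun i => (v i : R)) (hfact : ∀ i < m, (i.factorial : R) ≠ 0) :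
    (Matrix.of fun i j : Fin m => ((v i).choose (j : ℕ) : R)).det ≠ 0 := by
  have h := Matrix.det_eval_matrixOfPolynomials_eq_det_vandermonde (fun i => (v i : R))
    (fun j : Fin m => descPochhammer R (j : ℕ)) (fun j => descPochhammer_natDegree R _) (fun j => monic_descPochhammer R _)
  have e : (Matrix.of fun i j : Fin m => (descPochhammer R (j : ℕ)).eval (v i : R)) =
      Matrix.of fun i j : Fin m => ((j : ℕ).factorial : R) *
        (Matrix.of fun i j : Fin m => ((v i).choose (j : ℕ) : R)) i j := by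
    ext i j
    simp only [Matrix.of_apply]
    rw [descPochhammer_eval_eq_descFactorial, Nat.descFactorial_eq_factorial_mul_choose, Nat.cast_mul]
  rw [e, Matrix.det_mul_row] at h
  intro h0
  rw [h0, mul_zero] at h
  exact Matrix.det_vandermonde_ne_zero_iff.2 hinj h

theorem det_binomMat_self (R : Type*) [Field R] {n : ℕ} {J : Fin n → ℕ} (hJ : StrictMono J) :
    (binomMat R J J).det = 1 := by
  rw [Matrix.det_of_isLowerTriangular]
  · simp [binomMat]
  · intro r s h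
    show ((J r).choose (J s) : R) = 0
    rw [Nat.choose_eq_zero_of_lt (hJ (OrderDual.toDual_lt_toDual.1 h)), Nat.cast_zero]

theorem exists_spn_top_of_det {R : Type*} [Field R] {n : ℕ} {c : ℕ → Fin (n + 1) → R} {I : Fin n → ℕ}
    (h : (colMat c I).det ≠ 0) : ∃ M, spn c M = ⊤ := by
  refine ⟨Finset.univ.sup (eIdx I) + 1, eq_top_iff.2 ?_⟩
  have hli : LinearIndependent R (colMat c I).col :=
    Matrix.linearIndependent_cols_iff_isUnit.2 ((Matrix.isUnit_iff_isUnit_det _).2 (isUnit_iff_ne_zero.2 h))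
  rw [← hli.span_eq_top_of_card_eq_finrank' (by simp)]
  refine Submodule.span_le.2 ?_
  rintro _ ⟨i, rfl⟩
  exact mem_spn (c := c) (Nat.lt_succ_of_le (Finset.le_sup (f := eIdx I) (Finset.mem_univ i)))

theorem pos_of_col_eq {R : Type*} [Field R] {n : ℕ} {c : ℕ → Fin (n + 1) → R} {J : Fin n → ℕ}
    (hJ : IsOrders R c J) (h10 : c 1 = c 0) (l : Fin n) : 0 < J l := by
  refine Nat.pos_of_ne_zero fun h => (hJ.2 0).1 ⟨l, h⟩ ?_
  show c 1 ∈ spn c 1
  rw [h10]
  exact mem_spn Nat.zero_lt_one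

variable {k K : Type*} [Field k] [Field K] [Algebra k K] {n : ℕ} {φ : Fin (n + 1) → K}

theorem col_id_one {s : K} {H : K →ₐ[k] PowerSeries K} (hH : LocRes.IsHasseFamily s H) (φ : Fin (n + 1) → K) :
    col ((AlgHom.id k K) ∘ φ) H φ 1 = col ((AlgHom.id k K) ∘ φ) H φ 0 := by
  funext i
  show LocRes.hasseD H 0 (φ i) = φ i
  rw [LocRes.hasseD_apply, PowerSeries.coeff_zero_eq_constantCoeff_apply, hH.2]

theorem exists_unit_of_eff {P : Place k K} (heff : (1 : K) ∈ Submodule.span k (Set.range φ))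
    (hint : ∀ i, P.1 (φ i) ≤ 1) : ∃ i, P.1 (φ i) = 1 := by
  by_contra h
  push Not at h
  obtain ⟨c, hc⟩ := (Submodule.mem_span_range_iff_exists_fun k).1 heff
  have : P.1 (∑ i, c i • φ i) < 1 :=
    Valuation.map_sum_lt P.1 one_ne_zero fun i _ => (val_smul_le P _ _).trans_lt (lt_of_le_of_ne (hint i) (h i))
  rw [hc, map_one] at this
  exact lt_irrefl _ this

theorem not_mult_of_birational (hbir : IntermediateField.adjoin k (Set.range fun i => φ i / φ 0) = ⊤)
    (h0 : φ 0 ≠ 0) {τ : K →ₐ[k] K} (hτ : τ ≠ AlgHom.id k K) : ¬ ∃ y : K, ∀ i, τ (φ i) = y * φ i := by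
  rintro ⟨a, ha⟩
  refine hτ (AlgHom.ext fun x => ?_)
  have hx : x ∈ IntermediateField.adjoin k (Set.range fun i => φ i / φ 0) := hbir ▸ IntermediateField.mem_top
  induction hx using IntermediateField.adjoin_induction with
  | mem x hx =>
    obtain ⟨i, rfl⟩ := hx
    have ha0 : a ≠ 0 := fun h => h0 (τ.injective (((ha 0).trans (by rw [h, zero_mul])).trans (map_zero τ).symm))
    show τ (φ i / φ 0) = φ i / φ 0
    rw [map_div₀, ha i, ha 0, mul_div_mul_left _ _ ha0]
  | algebraMap x => simp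
  | add x y _ _ hx hy => simp [hx, hy]
  | inv x _ hx => simp [hx]
  | mul x y _ _ hx hy => simp [hx, hy]

theorem exists_normalized (hφ : LinearIndependent k φ) (P : Place k K) :
    ∃ y : K, y ≠ 0 ∧ (1 : K) ∈ Submodule.span k (Set.range (y • φ)) ∧ ∀ i, P.1 ((y • φ) i) ≤ 1 := by
  obtain ⟨i0, -, hmax⟩ := Finset.exists_max_image Finset.univ (fun i => P.1 (φ i)) Finset.univ_nonempty
  refine ⟨(φ i0)⁻¹, inv_ne_zero (hφ.ne_zero i0), Submodule.subset_span ⟨i0, inv_mul_cancel₀ (hφ.ne_zero i0)⟩, fun i => ?_⟩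
  rw [Pi.smul_apply, smul_eq_mul, map_mul, map_inv₀, inv_mul_le_one₀ (zero_lt_iff.2 (by simpa using hφ.ne_zero i0))]
  exact hmax i (Finset.mem_univ i)

variable [IsAlgClosed k] (hK : IsFunctionField k K) {P : Place k K} {t : K} (ht : P.1 t = exp (-1))
  {Ht : K →ₐ[k] PowerSeries K} (hHt : LocRes.IsHasseFamily t Ht) {τ : K →ₐ[k] K}
include hK

theorem mapDiv_smul' (hφ : LinearIndependent k φ) {y : K} (hy : y ≠ 0) :
    mapDiv k (y • φ) = mapDiv k φ - div k y := Finsupp.ext fun P => by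
  rw [Finsupp.sub_apply, mapDiv_smul hK hφ.ne_zero hy, div_apply hK]

theorem deg_mapDiv_smul (hφ : LinearIndependent k φ) {y : K} (hy : y ≠ 0) :
    (mapDiv k (y • φ)).deg = (mapDiv k φ).deg := by
  rw [mapDiv_smul' hK hφ hy, deg_sub, deg_div hK, sub_zero]

theorem mapDiv_eq_zero (hφ : LinearIndependent k φ) (hint : ∀ i, P.1 (φ i) ≤ 1) (hunit : ∃ i, P.1 (φ i) = 1) :
    mapDiv k φ P = 0 := by
  refine le_antisymm (mapDiv_le hK hφ.ne_zero P fun i => by rw [exp_zero]; exact hint i) ?_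
  obtain ⟨i, hi⟩ := hunit
  have := val_le_exp_mapDiv hK φ P i
  rwa [hi, ← exp_zero, exp_le_exp] at this

theorem mapDiv_tau_eq_zero (hτ : IsFixedPt τ P) (hφ : LinearIndependent k φ) (hint : ∀ i, P.1 (φ i) ≤ 1)
    (hunit : ∃ i, P.1 (φ i) = 1) : mapDiv k (τ ∘ φ) P = 0 := by
  refine mapDiv_eq_zero hK (li_tau hφ τ) (fun i => fixed_le_one hK hτ (hint i)) ?_
  obtain ⟨i, hi⟩ := hunit
  obtain ⟨c, hc⟩ := exists_const hK P hi.le
  refine ⟨i, val_eq_one_of_const (fixed_sub hτ hc) fun h => ?_⟩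
  rw [h, map_zero, sub_zero, hi] at hc
  exact lt_irrefl _ hc

include ht hHt

theorem exists_orders_at (hφ : LinearIndependent k φ) (hint : ∀ i, P.1 (φ i) ≤ 1) (hunit : ∃ i, P.1 (φ i) = 1) :
    ∃ J' : Fin n → ℕ, IsOrders (ResidueField P.O) (hcolAt P Ht φ) J' := by
  choose G hG using fun i => exists_isTaylor hK ht (hint i)
  obtain ⟨M, hM⟩ := gcol_top ht hφ hG
  have h0 : gcol G 0 ≠ 0 := fun h => by
    obtain ⟨i, hi⟩ := hunit
    have h1 := (hG i).val_sub_cc
    rw [← PowerSeries.coeff_zero_eq_constantCoeff_apply, show coeff 0 (G i) = 0 from congrFun h i, map_zero, sub_zero,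
      hi] at h1
    exact lt_irrefl _ h1
  obtain ⟨J', hJ'⟩ := exists_isOrders h0 hM
  exact ⟨J', by rw [hcolAt_eq hK ht hHt hG]; exact (isOrders_map (kRes P) (kRes_surjective hK P) _ J').2 hJ'⟩

/-- The orders are at most the orders at any place. -/
theorem orders_le_local (hφ : LinearIndependent k φ) (hint : ∀ i, P.1 (φ i) ≤ 1) {J J' : Fin n → ℕ}
    (hJ : IsOrders K (col ((AlgHom.id k K) ∘ φ) Ht φ) J)
    (hJ' : IsOrders (ResidueField P.O) (hcolAt P Ht φ) J') (l : Fin n) : J l ≤ J' l := by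
  have hpos := (exists_adapted hK ht hφ hint hHt hJ').1
  set c : ℕ → Fin (n + 1) → k := bincol (fun _ => 1) (jw J') with hc
  have hdet : (colMat c J').det = 1 := by
    rw [det_bincol rfl (Or.inl hpos), det_binomMat_self k hJ'.1]
  obtain ⟨M, hM⟩ := exists_spn_top_of_det (c := c) (I := J') (by rw [hdet]; exact one_ne_zero)
  obtain ⟨J0, hJ0⟩ := exists_isOrders (c := c) (fun h => one_ne_zero (congrFun h 0)) hM
  have h0pos : ∀ l, 0 < J0 l := pos_of_col_eq hJ0 (funext fun r => by simp [hc, bincol])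
  have h1 : J0 l ≤ J' l := IsOrders.le_of_det hJ0 hJ'.1 (by rw [hdet]; exact one_ne_zero) l
  have hb : (binomMat k J' J0).det ≠ 0 := by
    rw [← det_bincol (ρ := fun _ => (1 : k)) rfl (Or.inl h0pos)]
    exact IsOrders.det_ne_zero hJ0 hM
  have hfix : IsFixedPt (AlgHom.id k K) P := fun z hz => hz
  have hw := ((val_det_wrMat hK ht (I := J0) hfix hφ hint hHt hJ').2 (Or.inl h0pos)).2 hb
  refine le_trans (IsOrders.le_of_det hJ hJ0.1 (fun h => ?_) l) h1
  rw [wrMat_eq, h, map_zero] at hw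
  exact exp_ne_zero hw.symm

variable {Φ : Place k K → (K →ₐ[k] LaurentSeries k)} (hΦ : ∀ P : Place k K, LocRes.IsExpansionAt P.1 (Φ P))
include hΦ

/-- The coefficient at a fixed place of a normalised map. -/
theorem wDiv_local (hτ : IsFixedPt τ P) (hφ : LinearIndependent k φ) (hint : ∀ i, P.1 (φ i) ≤ 1)
    (hunit : ∃ i, P.1 (φ i) = 1) {J J' : Fin n → ℕ} (hJ : IsOrders K (col (τ ∘ φ) Ht φ) J)
    (hJ' : IsOrders (ResidueField P.O) (hcolAt P Ht φ) J') :
    P.1 (wrMat τ Ht φ J).det = exp (-wDiv τ Ht Φ t φ J P) ∧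
    (∑ l, ((J' l : ℤ) - J l)) ≤ wDiv τ Ht Φ t φ J P ∧
    (((∀ l, 0 < J l) ∨ IsStrongFixedPt τ P) →
      (wDiv τ Ht Φ t φ J P = ∑ l, ((J' l : ℤ) - J l) ↔ (binomMat k J' J).det ≠ 0)) := by
  have hd := det_wr_ne_zero hK hHt hφ hJ
  have hW : P.1 (wrMat τ Ht φ J).det = exp (-wDiv τ Ht Φ t φ J P) := by
    rw [wDiv_apply_local hK hΦ ht hHt hHt hφ hJ, mapDiv_eq_zero hK hφ hint hunit,
      mapDiv_tau_eq_zero hK hτ hφ hint hunit, add_zero, mul_zero, add_zero, wrMat_eq]
    exact val_eq_exp P hd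
  obtain ⟨h1, h2⟩ := val_det_wrMat hK ht (I := J) hτ hφ hint hHt hJ'
  refine ⟨hW, ?_, fun hc => ?_⟩
  · rw [hW, exp_le_exp, neg_le_neg_iff] at h1; exact h1
  · rw [← h2 hc, hW, exp_inj, neg_inj]

theorem wDiv_zero_iff (hφ : LinearIndependent k φ) (hint : ∀ i, P.1 (φ i) ≤ 1)
    (hunit : ∃ i, P.1 (φ i) = 1) {J J' : Fin n → ℕ} (hJ : IsOrders K (col ((AlgHom.id k K) ∘ φ) Ht φ) J)
    (hJ' : IsOrders (ResidueField P.O) (hcolAt P Ht φ) J') :
    ((∀ l, J' l = J l) ↔ evalP P (wrMat (AlgHom.id k K) Ht φ J).det ≠ 0) ∧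
    ((∀ l, J' l = J l) ↔ wDiv (AlgHom.id k K) Ht Φ t φ J P = 0) := by
  have hle := orders_le_local hK ht hHt hφ hint hJ hJ'
  obtain ⟨hv, hge, heq⟩ := wDiv_local hK ht hHt hΦ (τ := AlgHom.id k K) (fun z hz => hz) hφ hint hunit hJ hJ'
  set W := wDiv (AlgHom.id k K) Ht Φ t φ J P
  have hpos := pos_of_col_eq hJ (col_id_one hHt φ)
  have hiff : (∀ l, J' l = J l) ↔ W = 0 := by
    constructor
    · intro h
      have e : J' = J := funext h
      rw [(heq (Or.inl hpos)).2 (by rw [e, det_binomMat_self k hJ.1]; exact one_ne_zero), e]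
      simp
    · intro h l
      have hnn : ∀ l ∈ (Finset.univ : Finset (Fin n)), (0 : ℤ) ≤ (J' l : ℤ) - J l := fun l _ => by have := hle l; omega
      have := Finset.single_le_sum hnn (Finset.mem_univ l)
      have := hle l
      omega
  refine ⟨hiff.trans ?_, hiff⟩
  have hW0 : 0 ≤ W := wDiv_nonneg hK hΦ hHt hφ hJ P
  have hint' : P.1 (wrMat (AlgHom.id k K) Ht φ J).det ≤ 1 := by rw [hv, ← exp_zero, exp_le_exp]; omega
  obtain ⟨c, hc⟩ := exists_const hK P hint'
  rw [evalP_of_sub hc, map_ne_zero_iff _ (kRes_injective P)]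
  constructor
  · intro h hc0
    rw [hc0, map_zero, sub_zero, hv, h, neg_zero, exp_zero] at hc
    exact lt_irrefl _ hc
  · intro h
    have h1 := val_eq_one_of_const hc h
    rw [hv, ← exp_zero, exp_inj] at h1
    omega

omit hΦ
omit ht hHt

/-- Orders at a place are bounded by the degree. -/
theorem orders_le_deg (hφ : LinearIndependent k φ) (hint : ∀ i, P.1 (φ i) ≤ 1) (hunit : ∃ i, P.1 (φ i) = 1)
    (ht : P.1 t = exp (-1)) (hHt : LocRes.IsHasseFamily t Ht)
    {J' : Fin n → ℕ} (hJ' : IsOrders (ResidueField P.O) (hcolAt P Ht φ) J') (l : Fin n) :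
    (J' l : ℤ) ≤ (mapDiv k φ).deg := by
  obtain ⟨f, hf, hfv⟩ := ((exists_adapted_orders hK ht hφ hint hHt hJ').2 (J' l)).1 (Or.inr ⟨l, rfl⟩)
  have hf0 : f ≠ 0 := ne_zero_of_val P hfv
  have hfL : f ∈ L (mapDiv k φ) := by
    refine Submodule.span_le.2 ?_ hf
    rintro _ ⟨i, rfl⟩ Q
    exact val_le_exp_mapDiv hK φ Q i
  have hle : Finsupp.single P (J' l : ℤ) ≤ mapDiv k φ + div k f := by
    intro Q
    have h1 := hfL Q
    rw [le_exp_iff Q hf0] at h1
    rw [Finsupp.add_apply, div_apply hK]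
    rcases eq_or_ne Q P with rfl | hne
    · rw [Finsupp.single_eq_same, mapDiv_eq_zero hK hφ hint hunit, ord_eq_of_val Q hfv, neg_neg, zero_add]
    · rw [Finsupp.single_eq_of_ne hne]; omega
  have h0 := deg_nonneg (D := mapDiv k φ + div k f - Finsupp.single P (J' l : ℤ)) (sub_nonneg.2 hle)
  rw [deg_sub, deg_add, deg_div hK, deg_single, deg_eq_one hK] at h0
  push_cast at h0
  linarith

end Groth.Agent.FunFld
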