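import Groth.Agent.FunFld.Wr.Values

/-! Orders of differentials through Hasse derivatives. -/

namespace Groth.Agent.FunFld

open _root_.FunFld WithZero IsLocalRing Finset
open scoped LaurentSeries
open PowerSeries (coeff constantCoeff trunc)

variable {k K : Type*} [Field k] [Field K] [Algebra k K]

/-- The first Hasse derivative is a derivation. -/
theorem hasseD_one_mul {s : K} {H : K →ₐ[k] PowerSeries K} (hH : LocRes.IsHasseFamily s H) (a b : K) :
    LocRes.hasseD H 1 (a * b) = a * LocRes.hasseD H 1 b + b * LocRes.hasseD H 1 a := by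
  have h0 : ∀ y, coeff 0 (H y) = y := fun y => by
    rw [PowerSeries.coeff_zero_eq_constantCoeff_apply]; exact hH.2 y
  simp only [LocRes.hasseD_apply, map_mul, PowerSeries.coeff_mul, Finset.Nat.sum_antidiagonal_eq_sum_range_succ_mk,
    Finset.sum_range_succ, Finset.sum_range_zero, zero_add, Nat.sub_zero, Nat.sub_self, h0]
  ring

/-- The first Hasse derivative, as a derivation. -/
noncomputable def hasseDer {s : K} {H : K →ₐ[k] PowerSeries K} (hH : LocRes.IsHasseFamily s H) :
    Derivation k K K :=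
  Derivation.mk'
    { toFun := fun y => LocRes.hasseD H 1 y
      map_add' := fun a b => by simp [LocRes.hasseD_apply]
      map_smul' := fun c a => by
        simp [LocRes.hasseD_apply, Algebra.smul_def, PowerSeries.algebraMap_apply, PowerSeries.coeff_C_mul] }
    fun a b => by
      show LocRes.hasseD H 1 (a * b) = a • LocRes.hasseD H 1 b + b • LocRes.hasseD H 1 a
      rw [hasseD_one_mul hH, smul_eq_mul, smul_eq_mul]

theorem hasseDer_apply {s : K} {H : K →ₐ[k] PowerSeries K} (hH : LocRes.IsHasseFamily s H) (y : K) :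
    hasseDer hH y = LocRes.hasseD H 1 y := rfl

theorem hasseDer_self {s : K} {H : K →ₐ[k] PowerSeries K} (hH : LocRes.IsHasseFamily s H) : hasseDer hH s = 1 := by
  rw [hasseDer_apply, LocRes.hasseD_apply, hH.1, map_add, PowerSeries.coeff_C, PowerSeries.coeff_X, if_neg one_ne_zero,
    if_pos rfl, zero_add]

theorem isHasseFamily_sub_const {s : K} {H : K →ₐ[k] PowerSeries K} (hH : LocRes.IsHasseFamily s H) (c : k) :
    LocRes.IsHasseFamily (s - algebraMap k K c) H := by
  refine ⟨?_, hH.2⟩
  rw [map_sub, AlgHom.commutes, PowerSeries.algebraMap_apply, hH.1, map_sub]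
  ring

/-- Derivations on a subfield generated by `x` are determined at `x`. -/
theorem derivation_chain {K0 : Type*} [Field K0] [Algebra k K0] [Algebra K0 K] [IsScalarTower k K0 K] {x : K0}
    (D : Derivation k K K) (D0 : Derivation k K0 K0) (hx : D0 x = 1) {y : K0}
    (hy : y ∈ IntermediateField.adjoin k ({x} : Set K0)) :
    D (algebraMap K0 K y) = algebraMap K0 K (D0 y) * D (algebraMap K0 K x) := by
  induction hy using IntermediateField.adjoin_induction with
  | mem z hz => rw [Set.mem_singleton_iff.1 hz, hx, map_one, one_mul]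
  | algebraMap c =>
    rw [← IsScalarTower.algebraMap_apply, Derivation.map_algebraMap, Derivation.map_algebraMap, map_zero, zero_mul]
  | add a b _ _ ha hb => rw [map_add, map_add, map_add, map_add, ha, hb, add_mul]
  | inv a _ ha =>
    rw [map_inv₀, Derivation.leibniz_inv, Derivation.leibniz_inv, ha, smul_eq_mul, smul_eq_mul, map_mul, map_neg,
      map_pow, map_inv₀]
    ring
  | mul a b _ _ ha hb =>
    rw [map_mul, Derivation.leibniz, Derivation.leibniz, ha, hb, smul_eq_mul, smul_eq_mul, smul_eq_mul, smul_eq_mul,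
      map_add, map_mul, map_mul]
    ring

variable {F : Type*} [Field F] [Algebra k F]

theorem ordDiff_def' (Φ : K →ₐ[k] F⸨X⸩) (u v : K) : LocRes.ordDiff Φ u v = -WithZero.log (LocRes.vDiff Φ u v) := rfl

/-- The derivative of the expansion of a local parameter is a unit. -/
theorem valuation_D_param {P : Place k K} {Φ : K →ₐ[k] F⸨X⸩} (hΦ : LocRes.IsExpansionAt P.1 Φ) {t : K}
    (ht : P.1 t = exp (-1)) : Valued.v (LocRes.D F (Φ t)) = (1 : WithZero (Multiplicative ℤ)) := by
  have hv : Valued.v (Φ t) = exp (-1 : ℤ) := by rw [hΦ.1 t, ht]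
  have hlow : ∀ n : ℤ, n < 1 → (Φ t).coeff n = 0 :=
    (LaurentSeries.valuation_le_iff_coeff_lt_eq_zero F).1 (le_of_eq hv)
  have h1 : (Φ t).coeff 1 ≠ 0 := fun h => by
    have : Valued.v (Φ t) ≤ exp (-2 : ℤ) := (LaurentSeries.valuation_le_iff_coeff_lt_eq_zero F).2 fun n hn => by
      rcases lt_or_ge n 1 with hlt | hge
      · exact hlow n hlt
      · rw [show n = 1 by omega]; exact h
    rw [hv, exp_le_exp] at this
    omega
  refine le_antisymm ?_ (le_of_not_gt fun hlt => ?_)
  · rw [← exp_zero (M := ℤ), ← neg_zero, LaurentSeries.valuation_le_iff_coeff_lt_eq_zero]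
    intro n hn
    rw [LocRes.D_coeff, hlow (n + 1) (by omega), smul_zero]
  · rcases eq_or_ne (Valued.v (LocRes.D F (Φ t))) (0 : WithZero (Multiplicative ℤ)) with h0 | h0
    · rw [map_eq_zero] at h0
      have := congrArg (fun f => HahnSeries.coeff f 0) h0
      simp only [LocRes.D_coeff, zero_add, one_smul, HahnSeries.coeff_zero] at this
      exact h1 this
    · rw [← exp_log h0, ← exp_zero (M := ℤ), exp_lt_exp] at hlt
      have : Valued.v (LocRes.D F (Φ t)) ≤ exp (-1 : ℤ) := by
        rw [← exp_log h0, exp_le_exp]; omega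
      have := (LaurentSeries.valuation_le_iff_coeff_lt_eq_zero F).1 this 0 (by omega)
      rw [LocRes.D_coeff, zero_add, one_smul] at this
      exact h1 this

variable [IsAlgClosed k] (hK : IsFunctionField k K) {P : Place k K} {t : K} (ht : P.1 t = exp (-1))
  {Ht : K →ₐ[k] PowerSeries K} (hHt : LocRes.IsHasseFamily t Ht)
include hK ht hHt

/-- Differentiation commutes with any expansion. -/
theorem D_expansion (Φ : K →ₐ[k] F⸨X⸩) (y : K) :
    LocRes.D F (Φ y) = Φ (LocRes.hasseD Ht 1 y) * LocRes.D F (Φ t) := by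
  have := (separable_of_val hK ht).2
  set w := taylorL (Φ t) - PowerSeries.C (Φ t) with hw
  have hw0 : constantCoeff w = 0 := by rw [hw, map_sub, constantCoeff_taylorL, PowerSeries.constantCoeff_C, sub_self]
  have hsub := PowerSeries.HasSubst.of_constantCoeff_zero' hw0
  have h : taylorL.comp Φ.toRingHom = (PowerSeries.substAlgHom (R := F⸨X⸩) hsub).toRingHom.comp
      ((PowerSeries.map Φ.toRingHom).comp Ht.toRingHom) := by
    refine hom_ext_sep (k := k) _ _ (s := t) (fun c => ?_) ?_ fun z => ?_
    · show taylorL (Φ (algebraMap k K c)) = PowerSeries.substAlgHom hsub (PowerSeries.map Φ.toRingHom (Ht (algebraMap k K c)))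
      rw [LocRes.map_algebraMap, taylorL_C, AlgHom.commutes, PowerSeries.algebraMap_apply, PowerSeries.map_C,
        PowerSeries.coe_substAlgHom, PowerSeries.subst_C, AlgHom.toRingHom_eq_coe, RingHom.coe_coe,
        LocRes.map_algebraMap]
      rfl
    · show taylorL (Φ t) = PowerSeries.substAlgHom hsub (PowerSeries.map Φ.toRingHom (Ht t))
      rw [hHt.1, map_add, PowerSeries.map_C, PowerSeries.map_X, PowerSeries.coe_substAlgHom,
        PowerSeries.subst_add hsub, PowerSeries.subst_C, PowerSeries.subst_X hsub, hw]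
      exact (add_sub_cancel (PowerSeries.C (Φ t)) (taylorL (Φ t))).symm
    · show constantCoeff (taylorL (Φ z)) = constantCoeff (PowerSeries.substAlgHom hsub (PowerSeries.map Φ.toRingHom (Ht z)))
      rw [constantCoeff_taylorL, PowerSeries.coe_substAlgHom, ← PowerSeries.coeff_zero_eq_constantCoeff_apply,
        PowerSeries.coeff_subst' hsub, finsum_eq_single _ 0 fun d hd => ?_]
      · simp [hHt.2]
      · rw [PowerSeries.coeff_zero_eq_constantCoeff_apply (φ := w ^ d), map_pow, hw0, zero_pow hd, smul_zero]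
  have hy : taylorL (Φ y) = PowerSeries.subst w (PowerSeries.map Φ.toRingHom (Ht y)) := by
    rw [← PowerSeries.coe_substAlgHom hsub]
    exact congrFun (congrArg DFunLike.coe h) y
  have hw1 : coeff 1 w = LocRes.D F (Φ t) := by
    rw [hw, map_sub, PowerSeries.coeff_C, if_neg one_ne_zero, sub_zero, coeff_one_taylorL]
  rw [← coeff_one_taylorL, hy, PowerSeries.coeff_subst' hsub, finsum_eq_single _ 1 fun d hd => ?_]
  · rw [pow_one, hw1, smul_eq_mul, PowerSeries.coeff_map]
    rfl
  · rcases d with _ | _ | d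
    · rw [pow_zero, PowerSeries.coeff_one, if_neg one_ne_zero, smul_zero]
    · exact absurd rfl hd
    · obtain ⟨v, hv⟩ := PowerSeries.X_dvd_iff.2 hw0
      rw [hv, mul_pow, PowerSeries.coeff_X_pow_mul', if_neg (by omega), smul_zero]

/-- The order of `u dv` at `P`. -/
theorem vDiff_eq {Φ : K →ₐ[k] F⸨X⸩} (hΦ : LocRes.IsExpansionAt P.1 Φ) (u v : K) :
    LocRes.vDiff Φ u v = P.1 (u * LocRes.hasseD Ht 1 v) := by
  rw [LocRes.vDiff, D_expansion hK ht hHt Φ, map_mul, map_mul, valuation_D_param hΦ ht, mul_one, hΦ.1, hΦ.1,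
    ← map_mul]

theorem ordDiff_eq {Φ : K →ₐ[k] F⸨X⸩} (hΦ : LocRes.IsExpansionAt P.1 Φ) (u v : K) :
    LocRes.ordDiff Φ u v = P.ord (u * LocRes.hasseD Ht 1 v) := by
  rw [ordDiff_def', vDiff_eq hK ht hHt hΦ]; rfl

end Groth.Agent.FunFld
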