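import Groth.Agent.FunFld.Wr.Values
import Mathlib.Data.Nat.Choose.Vandermonde

/-! Local orders of a projective map at a place, and the order of Wronskian determinants. -/

namespace Groth.Agent.FunFld

open _root_.FunFld WithZero IsLocalRing Finset Matrix
open scoped LaurentSeries
open PowerSeries (coeff constantCoeff trunc)

/-! ### Jumps under a field isomorphism -/

theorem mem_span_map {R R' ι : Type*} [Field R] [Field R'] (σ : R →+* R') (c : ℕ → ι → R) (S : Set ℕ)
    {v : ι → R} (h : v ∈ Submodule.span R (c '' S)) :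
    σ ∘ v ∈ Submodule.span R' ((fun j => σ ∘ c j) '' S) := by
  induction h using Submodule.span_induction with
  | mem x hx => obtain ⟨j, hj, rfl⟩ := hx; exact Submodule.subset_span ⟨j, hj, rfl⟩
  | zero => rw [show σ ∘ (0 : ι → R) = 0 from funext fun _ => map_zero σ]; exact zero_mem _
  | add x y _ _ hx hy => rw [show σ ∘ (x + y) = σ ∘ x + σ ∘ y from funext fun _ => map_add σ _ _]; exact add_mem hx hy
  | smul a x _ hx =>
    rw [show σ ∘ (a • x) = σ a • (σ ∘ x) from funext fun _ => map_mul σ _ _]; exact Submodule.smul_mem _ _ hx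

theorem isOrders_map {R R' : Type*} [Field R] [Field R'] {ι : Type*} (σ : R →+* R') (hσ : Function.Surjective σ)
    (c : ℕ → ι → R) {n : ℕ} (J : Fin n → ℕ) :
    IsOrders R' (fun j => σ ∘ c j) J ↔ IsOrders R c J := by
  let e := RingEquiv.ofBijective σ ⟨σ.injective, hσ⟩
  have hj : ∀ j, IsJump R' (fun j => σ ∘ c j) j ↔ IsJump R c j := fun j => not_congr
    ⟨fun h => by
      have := mem_span_map e.symm.toRingHom (fun j => σ ∘ c j) _ h
      have hcc : ∀ v : ι → R, e.symm.toRingHom ∘ (σ ∘ v) = v := fun v => funext fun i => e.symm_apply_apply (v i)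
      simpa only [hcc] using this, mem_span_map σ c _⟩
  simp only [IsOrders, hj]

theorem prod_exp {ι : Type*} (s : Finset ι) (f : ι → ℤ) : ∏ x ∈ s, exp (f x) = exp (∑ x ∈ s, f x) := by
  classical
  induction s using Finset.induction with
  | empty => simp
  | insert a s ha ih => rw [Finset.prod_insert ha, Finset.sum_insert ha, ih, exp_add]

variable {k K : Type*} [Field k] [Field K] [Algebra k K] {n : ℕ}

/-- The columns of Taylor coefficients. -/
noncomputable def gcol (G : Fin (n + 1) → PowerSeries k) : ℕ → Fin (n + 1) → k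
  | 0 => fun i => coeff 0 (G i)
  | j + 1 => fun i => coeff j (G i)

/-- Orders at the place, with `0` first. -/
def jw (J : Fin n → ℕ) (r : Fin (n + 1)) : ℕ := Fin.cases (motive := fun _ => ℕ) 0 J r

theorem jw_zero (J : Fin n → ℕ) : jw J 0 = 0 := rfl

theorem jw_succ (J : Fin n → ℕ) (l : Fin n) : jw J l.succ = J l := rfl

theorem jw_strictMono {J : Fin n → ℕ} (hJ : StrictMono J) (hpos : ∀ l, 0 < J l) : StrictMono (jw J) := by
  intro i j h
  cases j using Fin.cases with
  | zero => exact absurd h (Fin.not_lt_zero i)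
  | succ j =>
    cases i using Fin.cases with
    | zero => simpa [jw] using hpos j
    | succ i => simpa [jw] using hJ (Fin.succ_lt_succ_iff.1 h)

theorem IsTaylor.val_sub_lead {P : Place k K} {t z : K} {G : PowerSeries k} (ht : P.1 t = exp (-1))
    (h : IsTaylor P t z G) {w : ℕ} (hlow : ∀ j < w, coeff j G = 0) :
    P.1 (z / t ^ w - algebraMap k K (coeff w G)) < 1 := by
  have htr : trunc (w + 1) G = Polynomial.monomial w (coeff w G) := by
    ext i
    rw [PowerSeries.coeff_trunc, Polynomial.coeff_monomial]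
    rcases lt_trichotomy i w with hi | rfl | hi
    · rw [if_pos (by omega), if_neg (by omega), hlow i hi]
    · rw [if_pos (by omega), if_pos rfl]
    · rw [if_neg (by omega), if_neg (by omega)]
  have h1 := h (w + 1)
  rw [htr, Polynomial.aeval_monomial] at h1
  have ht0 : t ^ w ≠ 0 := pow_ne_zero _ (ne_zero_of_val P ht)
  rw [show z / t ^ w - algebraMap k K (coeff w G) = (z - algebraMap k K (coeff w G) * t ^ w) / t ^ w by
    rw [sub_div, mul_div_cancel_right₀ _ ht0], map_div₀, val_pow_param ht, div_lt_one₀ exp_pos]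
  exact h1.trans_lt (by rw [exp_lt_exp]; omega)

theorem IsTaylor.val_eq_of_lead {P : Place k K} {t z : K} {G : PowerSeries k} (ht : P.1 t = exp (-1))
    (h : IsTaylor P t z G) {w : ℕ} (hlow : ∀ j < w, coeff j G = 0) (hw : coeff w G ≠ 0) :
    P.1 z = exp (-(w : ℤ)) := by
  have h1 := val_eq_one_of_const (h.val_sub_lead ht hlow) hw
  rw [map_div₀, val_pow_param ht] at h1
  exact (div_eq_one_iff_eq exp_ne_zero).1 h1

theorem val_le_of_sub {P : Place k K} {z : K} {c : k} (h : P.1 (z - algebraMap k K c) < 1) : P.1 z ≤ 1 := by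
  rw [← sub_add_cancel z (algebraMap k K c)]
  exact (P.1.map_add _ _).trans (max_le h.le (P.2.1 c))

/-- Residues of determinants. -/
theorem val_det_sub {P : Place k K} {m : ℕ} (N : Matrix (Fin m) (Fin m) K) (B : Matrix (Fin m) (Fin m) k)
    (h : ∀ i j, P.1 (N i j - algebraMap k K (B i j)) < 1) :
    P.1 (N.det - algebraMap k K B.det) < 1 := by
  let N0 : Matrix (Fin m) (Fin m) P.O :=
    Matrix.of fun i j => ⟨N i j, (Valuation.mem_valuationSubring_iff P.1 _).2 (val_le_of_sub (h i j))⟩
  have h0 : (residue P.O).mapMatrix N0 = (kRes P).mapMatrix B := by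
    ext i j
    exact (residue_eq_iff P _ _).2 (h i j)
  have h1 : residue P.O N0.det = residue P.O (kInt P B.det) := by
    rw [RingHom.map_det, h0, ← RingHom.map_det]; rfl
  have h2 := (residue_eq_iff P _ _).1 h1
  have h3 : ((N0.det : P.O) : K) = N.det := by
    show P.O.subtype N0.det = _
    rw [RingHom.map_det]; rfl
  rwa [h3] at h2

variable [IsAlgClosed k] (hK : IsFunctionField k K) {P : Place k K} {t : K} (ht : P.1 t = exp (-1))

section Fixed

variable {τ : K →ₐ[k] K}
include hK

omit [IsAlgClosed k] hK in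
theorem fixed_sub (hτ : IsFixedPt τ P) {z : K} {c : k} (h : P.1 (z - algebraMap k K c) < 1) :
    P.1 (τ z - algebraMap k K c) < 1 := by
  have := hτ _ h
  rwa [map_sub, AlgHom.commutes] at this

theorem fixed_le_one (hτ : IsFixedPt τ P) {z : K} (hz : P.1 z ≤ 1) : P.1 (τ z) ≤ 1 := by
  obtain ⟨c, hc⟩ := exists_const hK P hz
  exact val_le_of_sub (fixed_sub hτ hc)

include ht in
theorem fixed_val_le (hτ : IsFixedPt τ P) {a : ℤ} (ha : P.1 (τ t) ≤ exp (-a)) {z : K} {w : ℕ}
    (hz : P.1 z ≤ exp (-(w : ℤ))) : P.1 (τ z) ≤ exp (-(a * w)) := by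
  have ht0 : t ^ w ≠ 0 := pow_ne_zero _ (ne_zero_of_val P ht)
  have hu : P.1 (z / t ^ w) ≤ 1 := by
    rw [map_div₀, val_pow_param ht]; exact div_le_one_of_le₀ hz zero_le
  rw [← div_mul_cancel₀ z ht0, map_mul, map_mul]
  refine (mul_le_mul' (fixed_le_one hK hτ hu) ?_).trans_eq (one_mul _)
  rw [map_pow, map_pow]
  refine (pow_le_pow_left' ha w).trans_eq ?_
  rw [← exp_nsmul, nsmul_eq_mul]; ring_nf

end Fixed

section Adapted

variable {φ : Fin (n + 1) → K} {H : K →ₐ[k] PowerSeries K} {J : Fin n → ℕ}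
include hK ht

theorem hcolAt_eq (hH : LocRes.IsHasseFamily t H) {G : Fin (n + 1) → PowerSeries k}
    (hG : ∀ i, IsTaylor P t (φ i) (G i)) : hcolAt P H φ = fun j => kRes P ∘ gcol G j := by
  funext j i
  cases j with
  | zero =>
    show evalP P (φ i) = kRes P (coeff 0 (G i))
    rw [PowerSeries.coeff_zero_eq_constantCoeff_apply]
    exact evalP_of_sub (hG i).val_sub_cc
  | succ j => exact evalP_hasseD hK ht hH (hG i) j

omit [IsAlgClosed k] hK in
theorem gcol_top (hφ : LinearIndependent k φ) {G : Fin (n + 1) → PowerSeries k}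
    (hG : ∀ i, IsTaylor P t (φ i) (G i)) : ∃ M, spn (gcol G) M = ⊤ := by
  obtain ⟨M, hM⟩ := (monotone_stabilizes_iff_noetherian (R := k) (M := Fin (n + 1) → k)).2 inferInstance
    ⟨fun m => spn (gcol G) m, fun a b => spn_mono _⟩
  refine ⟨M, ?_⟩
  have hall : ∀ j, gcol G j ∈ spn (gcol G) M := fun j => by
    rcases le_or_gt M j with h | h
    · have e : spn (gcol G) M = spn (gcol G) (j + 1) := hM (j + 1) (by omega)
      rw [e]; exact mem_spn (Nat.lt_succ_self j)
    · exact mem_spn h
  by_contra hne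
  obtain ⟨f, hf0, hf⟩ := Submodule.exists_le_ker_of_lt_top _ (lt_top_iff_ne_top.2 hne)
  refine hf0 ((Pi.basisFun k (Fin (n + 1))).ext fun i => ?_)
  rw [LinearMap.zero_apply, Pi.basisFun_apply]
  refine congrFun (taylor_li ht hφ hG (c := fun i => f (Pi.single i 1)) fun j => ?_) i
  have := LinearMap.mem_ker.1 (hf (hall (j + 1)))
  rw [pi_eq_sum_univ' (gcol G (j + 1)), map_sum] at this
  rw [← this]
  exact Finset.sum_congr rfl fun i _ => by
    rw [map_smul, smul_eq_mul, mul_comm]
    rfl

/-- A basis adapted to the orders at `P`. -/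
theorem exists_adapted (hφ : LinearIndependent k φ) (hint : ∀ i, P.1 (φ i) ≤ 1)
    (hH : LocRes.IsHasseFamily t H) (hJ : IsOrders (ResidueField P.O) (hcolAt P H φ) J) :
    (∀ l, 0 < J l) ∧ ∃ (A : Matrix (Fin (n + 1)) (Fin (n + 1)) k) (φ' : Fin (n + 1) → K)
      (G' : Fin (n + 1) → PowerSeries k), IsUnit A.det ∧
      (∀ r, φ' r = ∑ i, algebraMap k K (A r i) * φ i) ∧
      Submodule.span k (Set.range φ') = Submodule.span k (Set.range φ) ∧
      ∀ r, IsTaylor P t (φ' r) (G' r) ∧ (∀ j < jw J r, coeff j (G' r) = 0) ∧ coeff (jw J r) (G' r) = 1 := by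
  choose G hG using fun i => exists_isTaylor hK ht (hint i)
  have hJg : IsOrders k (gcol G) J := by
    rw [hcolAt_eq hK ht hH hG] at hJ
    exact (isOrders_map (kRes P) (kRes_surjective hK P) (gcol G) J).1 hJ
  refine ⟨fun l => Nat.pos_of_ne_zero fun h => ?_, ?_⟩
  · exact (hJg.2 0).1 ⟨l, h⟩ (show gcol G 0 ∈ spn (gcol G) 1 from mem_spn Nat.zero_lt_one)
  obtain ⟨M, hM⟩ := gcol_top ht hφ hG
  set B := colMat (gcol G) J
  have hB : IsUnit B.det := isUnit_iff_ne_zero.2 (IsOrders.det_ne_zero hJg hM)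
  set A := B⁻¹
  have hAB : A * B = 1 := Matrix.nonsing_inv_mul B hB
  have hBA : B * A = 1 := Matrix.mul_nonsing_inv B hB
  refine ⟨A, fun r => ∑ i, algebraMap k K (A r i) * φ i, fun r => ∑ i, PowerSeries.C (A r i) * G i,
    isUnit_nonsing_inv_det B hB, fun r => rfl, ?_, fun r => ⟨IsTaylor.sum ht _ _ _ _ fun i _ => hG i, ?_⟩⟩
  · apply le_antisymm <;> rw [Submodule.span_le] <;> rintro _ ⟨i, rfl⟩
    · refine sum_mem fun r _ => ?_
      rw [← Algebra.smul_def]
      exact Submodule.smul_mem _ _ (Submodule.subset_span ⟨r, rfl⟩)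
    · have e : φ i = ∑ r, B i r • ∑ l, algebraMap k K (A r l) * φ l := by
        simp only [Finset.smul_sum]
        rw [Finset.sum_comm]
        have : ∀ l, ∑ r, B i r • (algebraMap k K (A r l) * φ l) = algebraMap k K ((B * A) i l) * φ l := fun l => by
          rw [Matrix.mul_apply, map_sum, Finset.sum_mul]
          exact Finset.sum_congr rfl fun r _ => by rw [Algebra.smul_def, map_mul]; ring
        simp only [this, hBA, Matrix.one_apply, apply_ite (algebraMap k K), map_one, map_zero, ite_mul, one_mul,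
          zero_mul, Finset.sum_ite_eq, Finset.mem_univ, if_true]
      rw [e]
      exact sum_mem fun r _ => Submodule.smul_mem _ _ (Submodule.subset_span ⟨r, rfl⟩)
  have hcoeff : ∀ j, coeff j (∑ i, PowerSeries.C (A r i) * G i) = (A *ᵥ gcol G (j + 1)) r := fun j => by
    rw [map_sum]
    exact Finset.sum_congr rfl fun i _ => PowerSeries.coeff_C_mul _ _ _
  have hdelta : ∀ i, (A *ᵥ gcol G (eIdx J i)) r = if r = i then 1 else 0 := fun i => by
    rw [← Matrix.one_apply (i := r) (j := i), ← hAB]; rfl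
  constructor
  · intro j hj
    rw [hcoeff]
    have hmem := IsOrders.spn_le hJg (j + 2) (mem_spn (c := gcol G) (Nat.lt_succ_self (j + 1)))
    generalize gcol G (j + 1) = v at hmem ⊢
    induction hmem using Submodule.span_induction with
    | mem x hx =>
      obtain ⟨⟨i, hi⟩, rfl⟩ := hx
      rw [hdelta, if_neg]
      rintro rfl
      cases r using Fin.cases with
      | zero => rw [jw_zero] at hj; omega
      | succ l => rw [eIdx_succ] at hi; rw [jw_succ] at hj; omega
    | zero => rw [Matrix.mulVec_zero, Pi.zero_apply]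
    | add x y _ _ hx hy => rw [Matrix.mulVec_add, Pi.add_apply, hx, hy, add_zero]
    | smul a x _ hx => rw [Matrix.mulVec_smul, Pi.smul_apply, hx, smul_zero]
  · cases r using Fin.cases with
    | zero =>
      have h10 : gcol G 1 = gcol G (eIdx J 0) := rfl
      rw [hcoeff, jw_zero, h10, hdelta, if_pos rfl]
    | succ l =>
      have := hdelta l.succ
      rw [if_pos rfl, eIdx_succ] at this
      rw [hcoeff, jw_succ, this]

/-- The orders at `P` are the orders of the functions in the span. -/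
theorem exists_adapted_orders (hφ : LinearIndependent k φ) (hint : ∀ i, P.1 (φ i) ≤ 1)
    (hH : LocRes.IsHasseFamily t H) (hJ : IsOrders (ResidueField P.O) (hcolAt P H φ) J) :
    (∃ φ' : Fin (n + 1) → K,
      Submodule.span k (Set.range φ') = Submodule.span k (Set.range φ) ∧
      P.1 (φ' 0) = 1 ∧ evalP P (φ' 0) = 1 ∧
      ∀ l : Fin n, P.1 (φ' l.succ) = exp (-(J l : ℤ)) ∧ evalP P (φ' l.succ / t ^ J l) = 1) ∧
    ∀ j : ℕ, (j = 0 ∨ j ∈ Set.range J) ↔
      ∃ f ∈ Submodule.span k (Set.range φ), P.1 f = exp (-(j : ℤ)) := by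
  classical
  obtain ⟨hpos, A, φ', G', -, -, hspan, hG'⟩ := exists_adapted hK ht hφ hint hH hJ
  have hval : ∀ r, P.1 (φ' r) = exp (-(jw J r : ℤ)) := fun r =>
    (hG' r).1.val_eq_of_lead ht (hG' r).2.1 (by rw [(hG' r).2.2]; exact one_ne_zero)
  have hev : ∀ r, evalP P (φ' r / t ^ jw J r) = 1 := fun r => by
    have := (hG' r).1.val_sub_lead ht (hG' r).2.1
    rw [(hG' r).2.2] at this
    exact (evalP_of_sub this).trans (map_one _)
  have hmono := jw_strictMono hJ.1 hpos
  refine ⟨⟨φ', hspan, ?_, ?_, fun l => ⟨hval l.succ, hev l.succ⟩⟩, fun j => ⟨?_, ?_⟩⟩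
  · have := hval 0
    rwa [jw_zero, Nat.cast_zero, neg_zero, exp_zero] at this
  · have := hev 0
    rwa [jw_zero, pow_zero, div_one] at this
  · intro hj
    obtain ⟨r, rfl⟩ : ∃ r, jw J r = j := by
      rcases hj with rfl | ⟨l, rfl⟩
      exacts [⟨0, rfl⟩, ⟨l.succ, rfl⟩]
    exact ⟨φ' r, hspan ▸ Submodule.subset_span ⟨r, rfl⟩, hval r⟩
  · rintro ⟨f, hf, hfv⟩
    rw [← hspan] at hf
    obtain ⟨c, hc⟩ := (Submodule.mem_span_range_iff_exists_fun k).1 hf
    have hne : (Finset.univ.filter fun r => c r ≠ 0).Nonempty := by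
      by_contra he
      have : f = 0 := by
        rw [← hc]
        refine Finset.sum_eq_zero fun r _ => ?_
        have : c r = 0 := by_contra fun h => he ⟨r, Finset.mem_filter.2 ⟨Finset.mem_univ r, h⟩⟩
        rw [this, zero_smul]
      rw [this, map_zero] at hfv
      exact exp_ne_zero hfv.symm
    set r0 := (Finset.univ.filter fun r => c r ≠ 0).min' hne with hr0
    have hc0 : c r0 ≠ 0 := (Finset.mem_filter.1 (Finset.min'_mem _ hne)).2
    have hsmall : ∀ r, r < r0 → c r = 0 := fun r hr => by_contra fun h =>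
      absurd (Finset.min'_le _ r (Finset.mem_filter.2 ⟨Finset.mem_univ r, h⟩)) (not_le.2 hr)
    have hT := IsTaylor.sum ht Finset.univ c φ' G' fun r _ => (hG' r).1
    have hfeq : ∑ r, algebraMap k K (c r) * φ' r = f := by
      rw [← hc]; exact Finset.sum_congr rfl fun r _ => (Algebra.smul_def _ _).symm
    rw [hfeq] at hT
    have hzero : ∀ (r : Fin (n + 1)) (i : ℕ), i ≤ jw J r0 → (i < jw J r0 ∨ r ≠ r0) →
        coeff i (PowerSeries.C (c r) * G' r) = 0 := fun r i hi hor => by
      rw [PowerSeries.coeff_C_mul]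
      rcases lt_trichotomy r r0 with h | h | h
      · rw [hsmall r h, zero_mul]
      · have hlt := hor.resolve_right (not_not_intro h)
        rw [(hG' r).2.1 i (h ▸ hlt), mul_zero]
      · rw [(hG' r).2.1 i (hi.trans_lt (hmono h)), mul_zero]
    have hv := hT.val_eq_of_lead ht (w := jw J r0)
      (fun i hi => by rw [map_sum]; exact Finset.sum_eq_zero fun r _ => hzero r i hi.le (Or.inl hi))
      (by rw [map_sum, Finset.sum_eq_single r0 (fun r _ hr => hzero r _ le_rfl (Or.inr hr)) (fun h => absurd (Finset.mem_univ _) h),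
            PowerSeries.coeff_C_mul, (hG' r0).2.2, mul_one]; exact hc0)
    rw [hv, exp_inj, neg_inj, Nat.cast_inj] at hfv
    subst hfv
    cases r0 using Fin.cases with
    | zero => exact Or.inl rfl
    | succ l => exact Or.inr ⟨l, rfl⟩

end Adapted

/-! ### Binomial columns -/

/-- A leading column followed by the binomial columns `(w_r choose j)`. -/
def bincol (ρ : Fin (n + 1) → k) (w : Fin (n + 1) → ℕ) : ℕ → Fin (n + 1) → k
  | 0 => ρ
  | j + 1 => fun r => ((w r).choose j : k)

omit [IsAlgClosed k] in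
theorem det_bincol {ρ : Fin (n + 1) → k} {J I : Fin n → ℕ} (hρ : ρ 0 = 1)
    (h : (∀ l, 0 < I l) ∨ ∀ l : Fin n, ρ l.succ = 0) :
    (colMat (bincol ρ (jw J)) I).det = (binomMat k J I).det := by
  rcases h with h | h
  · rw [Matrix.det_succ_row_zero, Fin.sum_univ_succ, Finset.sum_eq_zero, add_zero]
    · rw [Fin.succAbove_zero]
      simp only [Fin.val_zero, pow_zero, one_mul]
      show ρ 0 * _ = _
      rw [hρ, one_mul]
      rfl
    · intro j _
      show _ * ((jw J 0).choose (I j) : k) * _ = _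
      rw [jw_zero, Nat.choose_eq_zero_of_lt (h j), Nat.cast_zero, mul_zero, zero_mul]
  · rw [Matrix.det_succ_column_zero, Fin.sum_univ_succ, Finset.sum_eq_zero, add_zero]
    · rw [Fin.succAbove_zero]
      simp only [Fin.val_zero, pow_zero, one_mul]
      show ρ 0 * _ = _
      rw [hρ, one_mul]
      rfl
    · intro j _
      show _ * ρ j.succ * _ = _
      rw [h j, mul_zero, zero_mul]

section Wronskian

variable {τ : K →ₐ[k] K} {φ : Fin (n + 1) → K} {H : K →ₐ[k] PowerSeries K} {J : Fin n → ℕ} {I : Fin n → ℕ}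
include hK ht

/-- The order of a Wronskian determinant at a fixed point. -/
theorem val_det_wrMat (hτ : IsFixedPt τ P) (hφ : LinearIndependent k φ) (hint : ∀ i, P.1 (φ i) ≤ 1)
    (hH : LocRes.IsHasseFamily t H) (hJ : IsOrders (ResidueField P.O) (hcolAt P H φ) J) :
    P.1 (wrMat τ H φ I).det ≤ exp (-(∑ l, ((J l : ℤ) - I l))) ∧
    (((∀ l, 0 < I l) ∨ IsStrongFixedPt τ P) →
      (P.1 (wrMat τ H φ I).det = exp (-(∑ l, ((J l : ℤ) - I l))) ↔ (binomMat k J I).det ≠ 0)) := by
  obtain ⟨hpos, A, φ', G', hA, hφ', -, hG'⟩ := exists_adapted hK ht hφ hint hH hJ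
  set M := wrMat τ H φ' I with hM
  have hdet : P.1 M.det = P.1 (wrMat τ H φ I).det := by
    have : M = A.map (algebraMap k K) * wrMat τ H φ I := by
      ext r c
      rw [Matrix.mul_apply]
      cases c using Fin.cases with
      | zero => simp [hM, wrMat, hφ']
      | succ l => simp [hM, wrMat, hφ', LocRes.hasseD_apply, PowerSeries.algebraMap_apply, PowerSeries.coeff_C_mul]
    rw [this, Matrix.det_mul, map_mul, show (A.map (algebraMap k K)).det = algebraMap k K A.det from
      ((algebraMap k K).map_det A).symm, val_algebraMap P hA.ne_zero, one_mul]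
  have ht0 : t ≠ 0 := ne_zero_of_val P ht
  set w := jw J
  set ic : Fin (n + 1) → ℕ := jw I
  set N : Matrix (Fin (n + 1)) (Fin (n + 1)) K :=
    Matrix.of fun r c => t ^ ic c * ((t ^ w r)⁻¹ * M r c) with hN
  -- residues of the leading column
  have hlead : ∀ r, P.1 (τ (φ' r) / t ^ w r) ≤ 1 := fun r => by
    obtain ⟨h1, h2, h3⟩ := hG' r
    have hz : P.1 (φ' r) ≤ exp (-(w r : ℤ)) := (h1.val_eq_of_lead ht h2 (by rw [h3]; exact one_ne_zero)).le
    have := fixed_val_le hK ht hτ (a := 1) ((lt_one_iff_le P).1 (hτ t (by rw [ht, ← exp_zero, exp_lt_exp]; omega))) hz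
    rw [one_mul] at this
    rw [map_div₀, val_pow_param ht]
    exact div_le_one_of_le₀ this zero_le
  choose ρ hρ using fun r => exists_const hK P (hlead r)
  have hρ0 : ρ 0 = 1 := by
    obtain ⟨h1, h2, h3⟩ := hG' 0
    have h4 := h1.val_sub_lead ht h2
    rw [h3, show w 0 = 0 from rfl, pow_zero, div_one] at h4
    have h5 := hρ 0
    rw [show w 0 = 0 from rfl, pow_zero, div_one] at h5
    exact const_unique P h5 (fixed_sub hτ h4)
  have hρs : IsStrongFixedPt τ P → ∀ l : Fin n, ρ l.succ = 0 := fun hs l => by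
    refine const_unique P (hρ l.succ) ?_
    rw [map_zero, sub_zero, map_div₀, val_pow_param ht, div_lt_one₀ exp_pos]
    obtain ⟨h1, h2, h3⟩ := hG' l.succ
    have hz : P.1 (φ' l.succ) ≤ exp (-(w l.succ : ℤ)) := (h1.val_eq_of_lead ht h2 (by rw [h3]; exact one_ne_zero)).le
    refine (fixed_val_le hK ht hτ (a := 2) (hs t (by rw [ht, ← exp_zero, exp_lt_exp]; omega)) hz).trans_lt ?_
    rw [exp_lt_exp]
    have : 0 < w l.succ := hpos l
    omega
  set B := colMat (bincol ρ w) I with hB
  have hentry : ∀ r c, P.1 (N r c - algebraMap k K (B r c)) < 1 := by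
    intro r c
    cases c using Fin.cases with
    | zero =>
      show P.1 (t ^ 0 * ((t ^ w r)⁻¹ * τ (φ' r)) - algebraMap k K (ρ r)) < 1
      rw [pow_zero, one_mul, mul_comm, ← div_eq_mul_inv]
      exact hρ r
    | succ l =>
      show P.1 (t ^ I l * ((t ^ w r)⁻¹ * LocRes.hasseD H (I l) (φ' r)) - algebraMap k K ((w r).choose (I l) : k)) < 1
      obtain ⟨h1, h2, h3⟩ := hG' r
      have hT := isTaylor_hasseD hK ht hH h1 (I l)
      rcases le_or_gt (I l) (w r) with hle | hlt
      · have h4 := hT.val_sub_lead ht (w := w r - I l) fun j hj => by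
          rw [coeff_hasseP, h2 (j + I l) (by omega), mul_zero]
        rw [coeff_hasseP, Nat.sub_add_cancel hle, h3, mul_one] at h4
        have e : t ^ I l * ((t ^ w r)⁻¹ * LocRes.hasseD H (I l) (φ' r)) =
            LocRes.hasseD H (I l) (φ' r) / t ^ (w r - I l) := by
          rw [pow_sub₀ t ht0 hle]; field_simp
        rw [e]; exact h4
      · rw [Nat.choose_eq_zero_of_lt hlt, Nat.cast_zero, map_zero, sub_zero, map_mul, map_mul, map_inv₀,
          val_pow_param ht, val_pow_param ht, ← exp_neg, ← mul_assoc, ← exp_add]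
        refine (mul_le_mul' le_rfl (val_hasseD_le hK ht hH h1.val_le _)).trans_lt ?_
        rw [mul_one, ← exp_zero, exp_lt_exp]
        omega
  have hres := val_det_sub N B hentry
  have hNdet : P.1 M.det = P.1 N.det * exp (-(∑ l, ((J l : ℤ) - I l))) := by
    have e2 : N.det = (Matrix.of fun r c => t ^ ic c * (Matrix.of fun r c => (t ^ w r)⁻¹ * M r c) r c).det := rfl
    rw [e2, Matrix.det_mul_row, Matrix.det_mul_column, map_mul, map_mul, map_prod, map_prod]
    simp only [map_inv₀, val_pow_param ht, ← exp_neg, prod_exp]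
    rw [mul_comm (exp _) (exp _ * P.1 M.det), mul_comm (exp _) (P.1 M.det), mul_assoc, mul_assoc, ← exp_add,
      ← exp_add]
    have e : ∀ X : Fin n → ℕ, ∑ r, (jw X r : ℤ) = ∑ l, (X l : ℤ) := fun X => by
      rw [Fin.sum_univ_succ, jw_zero]; simp [jw_succ]
    have : (∑ i, - -(w i : ℤ)) + ((∑ j, -(ic j : ℤ)) + -(∑ l, ((J l : ℤ) - I l))) = 0 := by
      simp only [neg_neg, Finset.sum_neg_distrib, w, ic, e, Finset.sum_sub_distrib]; ring
    rw [this, exp_zero, mul_one]
  rw [← hdet, hNdet]
  refine ⟨mul_le_of_le_one_left' (val_le_of_sub hres), fun hcase => ?_⟩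
  rw [mul_eq_right₀ exp_ne_zero, ← det_bincol hρ0 (hcase.imp id hρs), ← hB]
  constructor
  · intro h1 h0
    rw [h0, map_zero, sub_zero, h1] at hres
    exact lt_irrefl _ hres
  · exact val_eq_one_of_const hres

/-- The orders at a strong fixed point bound the `τ`-orders. -/
theorem orders_le_of_strong (hτ : IsStrongFixedPt τ P) (hn : 0 < n) (hφ : LinearIndependent k φ)
    (hint : ∀ i, P.1 (φ i) ≤ 1) (hH : LocRes.IsHasseFamily t H) {J J' : Fin n → ℕ}
    (hJ : IsOrders K (hcol τ H φ) J) (hJ' : IsOrders (ResidueField P.O) (hcolAt P H φ) J') (l : Fin n) :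
    J l + J' ⟨0, hn⟩ ≤ J' l := by
  have hfix : IsFixedPt τ P := fun z hz => (hτ z hz).trans_lt (by rw [← exp_zero, exp_lt_exp]; omega)
  have hpos := (exists_adapted hK ht hφ hint hH hJ').1
  set j0 := J' ⟨0, hn⟩ with hj0
  have hle0 : ∀ l, j0 ≤ J' l := fun l => hJ'.1.monotone (Fin.mk_le_of_le_val (Nat.zero_le _))
  set a : Fin n → ℕ := fun l => J' l - j0 with ha
  have hamono : StrictMono a := fun x y h => by
    have := hJ'.1 h; have := hle0 x; simp only [ha]; omega
  set e0 : Fin (n + 1) → k := fun r => if r = 0 then 1 else 0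
  set c := bincol e0 (jw J') with hc
  set c' := bincol e0 (jw a) with hc'
  have htri : ∀ j, c j - (1 : ℕ → k) j • c' j ∈ spn c' j := by
    intro j
    cases j with
    | zero => simp [hc, hc', bincol]
    | succ i =>
      have : c (i + 1) - (1 : ℕ → k) (i + 1) • c' (i + 1) =
          (((0 : ℕ).choose i : k) - ∑ b ∈ Finset.range (i + 1), ((j0.choose (i - b) * (0 : ℕ).choose b : ℕ) : k)) • c' 0 +
            ∑ b ∈ Finset.range i, (j0.choose (i - b) : k) • c' (b + 1) := by
        funext r
        simp only [Pi.one_apply, one_smul, Pi.sub_apply, Pi.add_apply, Pi.smul_apply, Finset.sum_apply, smul_eq_mul]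
        show ((jw J' r).choose i : k) - ((jw a r).choose i : k) = _ * e0 r + ∑ b ∈ _, _ * ((jw a r).choose b : k)
        cases r using Fin.cases with
        | zero =>
          simp only [jw_zero, e0, if_true, mul_one, Finset.sum_range_succ _ i, Nat.sub_self, Nat.choose_zero_right,
            Nat.cast_mul]
          ring
        | succ l =>
          simp only [e0, if_neg (Fin.succ_ne_zero l), mul_zero, zero_add, jw_succ]
          rw [show J' l = a l + j0 by have := hle0 l; simp only [ha]; omega, Nat.add_choose_eq,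
            Finset.Nat.sum_antidiagonal_eq_sum_range_succ_mk, Finset.sum_range_succ, Nat.sub_self,
            Nat.choose_zero_right, mul_one, Nat.cast_add, add_sub_cancel_right, Nat.cast_sum]
          exact Finset.sum_congr rfl fun b _ => by rw [Nat.cast_mul, mul_comm]
      rw [this]
      exact add_mem (Submodule.smul_mem _ _ (mem_spn (Nat.succ_pos i)))
        (sum_mem fun b hb => Submodule.smul_mem _ _ (mem_spn (by have := Finset.mem_range.1 hb; omega)))
  have hda : (colMat c' a).det = 1 := by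
    rw [det_bincol (by simp [e0]) (Or.inr fun l => if_neg (Fin.succ_ne_zero l)),
      Matrix.det_of_isLowerTriangular]
    · simp [binomMat]
    · intro r s h
      show ((a r).choose (a s) : k) = 0
      rw [Nat.choose_eq_zero_of_lt (hamono (OrderDual.toDual_lt_toDual.1 h)), Nat.cast_zero]
  obtain ⟨M, hM⟩ : ∃ M, spn c' M = ⊤ := by
    refine ⟨(Finset.univ.sup a) + 2, eq_top_iff.2 ?_⟩
    have hli : LinearIndependent k (colMat c' a).col :=
      Matrix.linearIndependent_cols_iff_isUnit.2 ((Matrix.isUnit_iff_isUnit_det _).2 (by rw [hda]; exact isUnit_one))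
    rw [← hli.span_eq_top_of_card_eq_finrank' (by simp)]
    refine Submodule.span_le.2 ?_
    rintro _ ⟨i, rfl⟩
    refine mem_spn (c := c') ?_
    cases i using Fin.cases with
    | zero => rw [eIdx_zero]; omega
    | succ i => rw [eIdx_succ]; have := Finset.le_sup (f := a) (Finset.mem_univ i); omega
  have hM' : spn c M = ⊤ := (spn_congr (fun _ => one_ne_zero) htri M).trans hM
  have hc0 : c' 0 ≠ 0 := fun h => one_ne_zero (congrFun h 0)
  obtain ⟨J0, hJ0⟩ := exists_isOrders hc0 hM
  have h1 : J0 l ≤ a l := IsOrders.le_of_det hJ0 hamono (by rw [hda]; exact one_ne_zero) l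
  have hJ0c := (isOrders_congr (fun _ => one_ne_zero) htri J0).2 hJ0
  have hb : (binomMat k J' J0).det ≠ 0 := by
    rw [← det_bincol (ρ := e0) (by simp [e0]) (Or.inr fun l => if_neg (Fin.succ_ne_zero l))]
    exact IsOrders.det_ne_zero hJ0c hM'
  have hw := ((val_det_wrMat hK ht (I := J0) hfix hφ hint hH hJ').2 (Or.inr hτ)).2 hb
  have h2 : J l ≤ J0 l := by
    rw [hcol_eq] at hJ
    refine IsOrders.le_of_det hJ hJ0.1 (fun h => ?_) l
    rw [wrMat_eq, h, map_zero] at hw
    exact exp_ne_zero hw.symm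
  simp only [ha] at h1
  have := hle0 l
  omega

end Wronskian

end Groth.Agent.FunFld
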