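import Groth.Agent.FunFld.Wr.DiffLocal
import Groth.Agent.FunFld.Wr.Basis
import Groth.Agent.FunFld.Wr.Local
import Mathlib.LinearAlgebra.Basis.SMul

/-! The divisor of `ds` has degree `2g - 2`. -/

namespace Groth.Agent.FunFld

open _root_.FunFld WithZero IsLocalRing Finset Polynomial
open scoped LaurentSeries

variable {k K : Type*} [Field k] [Field K] [Algebra k K]

theorem val_aeval_le_deg {R : Place k K} {z : K} {p : ℕ} (hz : R.1 z ≤ exp (p : ℤ)) {q : k[X]} {n : ℕ}
    (hq : ∀ j, q.coeff j ≠ 0 → j ≤ n) : R.1 (aeval z q) ≤ exp ((n * p : ℕ) : ℤ) := by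
  rw [aeval_eq_sum_range]
  refine Valuation.map_sum_le _ fun j _ => ?_
  rcases eq_or_ne (q.coeff j) 0 with h | h
  · rw [h, zero_smul, map_zero]; exact zero_le
  refine (val_smul_le R _ _).trans ?_
  rw [map_pow]
  refine (pow_le_pow_left' hz j).trans ?_
  rw [← exp_nsmul, nsmul_eq_mul, exp_le_exp]
  exact_mod_cast Nat.mul_le_mul_right p (hq j h)

theorem val_aeval_eq_deg {R : Place k K} {z : K} (hz : R.1 z = exp 1) {q : k[X]} (hq : q ≠ 0) :
    R.1 (aeval z q) = exp (q.natDegree : ℤ) := by
  have hlead : R.1 (aeval z (monomial q.natDegree q.leadingCoeff)) = exp (q.natDegree : ℤ) := by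
    rw [aeval_monomial, map_mul, val_algebraMap R (leadingCoeff_ne_zero.2 hq), one_mul, map_pow, hz, ← exp_nsmul,
      nsmul_eq_mul, mul_one]
  have hlow : R.1 (aeval z q.eraseLead) < exp (q.natDegree : ℤ) := by
    rcases Nat.eq_zero_or_pos q.natDegree with h0 | hpos
    · have he : q.eraseLead = 0 := eraseLead_natDegree_lt_or_eraseLead_eq_zero q |>.resolve_left (by omega)
      rw [he, map_zero, map_zero]; exact exp_pos
    · refine (val_aeval_le_deg (p := 1) hz.le (n := q.natDegree - 1) fun j hj => ?_).trans_lt ?_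
      · have h1 := le_natDegree_of_ne_zero hj
        have h2 := eraseLead_natDegree_le q
        omega
      · rw [exp_lt_exp]; omega
  conv_lhs => rw [← eraseLead_add_monomial_natDegree_leadingCoeff q]
  rw [map_add, Valuation.map_add_eq_of_lt_right _ (by rwa [hlead]), hlead]

variable [IsAlgClosed k] (hK : IsFunctionField k K) {s : K}
include hK

/-- Coordinates with respect to a graded basis, with controlled denominators. -/
theorem exists_coords {d : ℕ} {b : Fin d → K} {a : Fin d → ℕ}
    (hb : ∀ n : ℕ, L (n • poles k s) = Submodule.span k {x | ∃ i j, j + a i ≤ n ∧ x = s ^ j * b i}) (f : K) :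
    ∃ (q : k[X]) (p : Fin d → k[X]) (m : ℕ), q ≠ 0 ∧ aeval s q * f = ∑ i, aeval s (p i) * b i ∧
      (∀ i j, (p i).coeff j ≠ 0 → j + a i ≤ m) ∧
      (∀ c : k, (∀ R : Place k K, R.1 (s - algebraMap k K c) < 1 → R.1 f ≤ 1) → q.eval c ≠ 0) ∧
      ((∀ R : Place k K, 1 < R.1 s → R.1 f ≤ 1) → m = q.natDegree) := by
  classical
  have hfin : {R : Place k K | 1 < R.1 f}.Finite := (finite_support hK f).subset fun R hR => by
    show R.ord f ≠ 0
    intro h
    rcases eq_or_ne f 0 with rfl | hf0
    · simp at hR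
    rw [Set.mem_setOf_eq, val_eq_exp R hf0, h, neg_zero, exp_zero] at hR
    exact lt_irrefl _ hR
  set bad := hfin.toFinset.filter fun R => R.1 s ≤ 1 with hbad
  choose! cR hcR using fun (R : Place k K) (h : R.1 s ≤ 1) => exists_const hK R h
  set q : k[X] := ∏ R ∈ bad, (X - C (cR R)) ^ (-R.ord f).toNat with hq
  set M := ∑ R ∈ hfin.toFinset, (-R.ord f).toNat with hM
  set m := if (∀ R : Place k K, 1 < R.1 s → R.1 f ≤ 1) then q.natDegree else q.natDegree + M with hm
  have hmq : q.natDegree ≤ m := by rw [hm]; split_ifs <;> omega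
  have hmem : aeval s q * f ∈ L (m • poles k s) := by
    intro R
    rw [map_mul, nsmul_poles_apply hK]
    rcases le_or_gt (R.1 s) 1 with hs | hs
    · have hb0 : max (-R.ord s) 0 = 0 := by
        rcases eq_or_ne s 0 with rfl | hs0
        · simp [ord_zero]
        · have := (ord_nonneg_iff R hs0).2 hs; omega
      rw [hb0, mul_zero, exp_zero]
      rcases le_or_gt (R.1 f) 1 with hf | hf
      · exact mul_le_one' (val_aeval_le R hs q) hf
      · have hR : R ∈ bad := by rw [hbad, Finset.mem_filter, Set.Finite.mem_toFinset]; exact ⟨hf, hs⟩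
        have hf0 : f ≠ 0 := fun h => by rw [h, map_zero] at hf; exact not_lt_zero hf
        rw [hq, map_prod, ← Finset.mul_prod_erase _ _ hR, map_mul, map_pow]
        have h1 : R.1 (aeval s (X - C (cR R))) ^ (-R.ord f).toNat * R.1 f ≤ 1 := by
          rw [map_sub, aeval_X, aeval_C]
          refine (mul_le_mul' (pow_le_pow_left' ((lt_one_iff_le R).1 (hcR R hs)) _) le_rfl).trans ?_
          rw [val_eq_exp R hf0, ← exp_nsmul, ← exp_add, ← exp_zero, exp_le_exp, nsmul_eq_mul]
          have : 0 < -R.ord f := by rw [val_eq_exp R hf0, ← exp_zero, exp_lt_exp] at hf; omega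
          omega
        rw [map_pow, mul_right_comm]
        refine mul_le_one' h1 ?_
        rw [map_prod]
        exact Finset.prod_le_one' fun R' _ => val_aeval_le R hs _
    · have hs0 : s ≠ 0 := fun h => by rw [h, map_zero] at hs; exact not_lt_zero hs
      have hs' := hs
      rw [val_eq_exp R hs0, ← exp_zero, exp_lt_exp] at hs
      obtain ⟨π, hπ⟩ : ∃ π : ℕ, -R.ord s = π := ⟨(-R.ord s).toNat, by omega⟩
      rw [hπ, max_eq_left (by omega)]
      have h1 : R.1 (aeval s q) ≤ exp ((q.natDegree * π : ℕ) : ℤ) :=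
        val_aeval_le_deg (by rw [val_eq_exp R hs0, hπ]) fun j hj => le_natDegree_of_ne_zero hj
      rcases le_or_gt (R.1 f) 1 with hf | hf
      · refine (mul_le_mul' h1 hf).trans ?_
        rw [mul_one, exp_le_exp]
        exact_mod_cast Nat.mul_le_mul_right π hmq
      · have hmM : m = q.natDegree + M := by
          rw [hm, if_neg fun h => not_le.2 hf (h R hs')]
        have hf0 : f ≠ 0 := fun h => by rw [h, map_zero] at hf; exact not_lt_zero hf
        have hMle : (-R.ord f).toNat ≤ M := Finset.single_le_sum (f := fun R : Place k K => (-R.ord f).toNat)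
          (fun _ _ => Nat.zero_le _) (hfin.mem_toFinset.2 hf)
        refine (mul_le_mul' h1 le_rfl).trans ?_
        rw [val_eq_exp R hf0, ← exp_add, exp_le_exp, hmM]
        push_cast
        have : (1 : ℤ) ≤ π := by omega
        nlinarith [Int.self_le_toNat (-R.ord f), (by exact_mod_cast hMle : (((-R.ord f).toNat : ℕ) : ℤ) ≤ M)]
  have hp : ∃ p : Fin d → k[X], aeval s q * f = ∑ i, aeval s (p i) * b i ∧
      ∀ i j, (p i).coeff j ≠ 0 → j + a i ≤ m := by
    rw [hb] at hmem
    generalize aeval s q * f = g at hmem ⊢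
    induction hmem using Submodule.span_induction with
    | mem y hy =>
      obtain ⟨i, j, hij, rfl⟩ := hy
      refine ⟨Pi.single i (X ^ j), ?_, fun i' j' h => ?_⟩
      · rw [Finset.sum_eq_single i (fun i' _ h => by rw [Pi.single_eq_of_ne h, map_zero, zero_mul])
          (fun h => absurd (Finset.mem_univ i) h), Pi.single_eq_same, map_pow, aeval_X]
      · rcases eq_or_ne i' i with rfl | hne
        · rw [Pi.single_eq_same, coeff_X_pow] at h
          split_ifs at h with hj
          · omega
          · exact absurd rfl h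
        · rw [Pi.single_eq_of_ne hne, coeff_zero] at h; exact absurd rfl h
    | zero => exact ⟨0, by simp, fun i j h => by simp at h⟩
    | add y z _ _ hy hz =>
      obtain ⟨p, hp1, hp2⟩ := hy
      obtain ⟨p', hp1', hp2'⟩ := hz
      refine ⟨p + p', ?_, fun i j h => ?_⟩
      · rw [hp1, hp1', ← Finset.sum_add_distrib]
        exact Finset.sum_congr rfl fun i _ => by rw [Pi.add_apply, map_add, add_mul]
      · rcases eq_or_ne ((p i).coeff j) 0 with h0 | h0
        · refine hp2' i j fun h0' => h ?_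
          rw [Pi.add_apply, coeff_add, h0, h0', add_zero]
        · exact hp2 i j h0
    | smul r y _ hy =>
      obtain ⟨p, hp1, hp2⟩ := hy
      refine ⟨r • p, ?_, fun i j h => hp2 i j fun h0 => h ?_⟩
      · rw [hp1, Finset.smul_sum]
        exact Finset.sum_congr rfl fun i _ => by rw [Pi.smul_apply, map_smul, smul_mul_assoc]
      · rw [Pi.smul_apply, coeff_smul, h0, smul_zero]
  obtain ⟨p, hp1, hp2⟩ := hp
  refine ⟨q, p, m, Finset.prod_ne_zero_iff.2 fun R _ => pow_ne_zero _ (X_sub_C_ne_zero _), hp1, hp2, fun c hc => ?_,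
    fun h => if_pos h⟩
  rw [hq, eval_prod, Finset.prod_ne_zero_iff]
  intro R hR
  rw [hbad, Finset.mem_filter, Set.Finite.mem_toFinset, Set.mem_setOf_eq] at hR
  rw [eval_pow, eval_sub, eval_X, eval_C]
  refine pow_ne_zero _ (sub_ne_zero.2 fun h => ?_)
  exact absurd (hc R (h ▸ hcR R hR.2)) (not_le.2 hR.1)

/-- `div (ds)` has finite support and degree `2g - 2`. -/
theorem divDiff_facts {H : K →ₐ[k] PowerSeries K} (hH : LocRes.IsHasseFamily s H)
    (Φ : Place k K → (K →ₐ[k] LaurentSeries k)) (hΦ : ∀ P : Place k K, LocRes.IsExpansionAt P.1 (Φ P)) :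
    (∀ P, divDiff Φ 1 s P = LocRes.ordDiff (Φ P) 1 s) ∧
      (divDiff Φ 1 s).deg = 2 * (genus k K : ℤ) - 2 := by
  classical
  obtain ⟨hs, hsep⟩ := separable_of_hasse hK hH
  have := finite_adjoin hK hs
  set K0 := IntermediateField.adjoin k ({s} : Set K)
  set s0 : K0 := ⟨s, IntermediateField.mem_adjoin_simple_self k s⟩ with hs0def
  have hgen : IntermediateField.adjoin k ({s0} : Set K0) = ⊤ := by
    apply IntermediateField.lift_injective K0
    rw [IntermediateField.lift_adjoin_simple, IntermediateField.lift_top]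
  have htr0 : Transcendental k s0 := fun h => hs (by simpa using h.algHom K0.val)
  have hK0 : IsFunctionField k K0 := by
    refine ⟨⟨s0, htr0, ?_⟩, fun y hy => ?_⟩
    · rw [hgen]
      exact Module.Finite.of_surjective (Algebra.linearMap (⊤ : IntermediateField k K0) K0) fun y => ⟨⟨y, trivial⟩, rfl⟩
    · obtain ⟨c, hc⟩ := hK.2 (y : K) (by simpa using hy.algHom K0.val)
      exact ⟨c, Subtype.ext hc⟩
  obtain ⟨-, -, Pinf, -, hinf, hother⟩ := rational_props hK0 hgen
  have hs00 : s0 ≠ 0 := ne_zero_of_tr htr0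
  have hvinf : Pinf.1 s0 = exp 1 := by rw [val_eq_exp Pinf hs00, hinf, neg_neg]
  have hfinite : ∀ P : Place k K0, P ≠ Pinf → ∃ c : k, P.1 (s0 - algebraMap k K0 c) = exp (-1) ∧
      IntermediateField.adjoin k ({s0 - algebraMap k K0 c} : Set K0) = ⊤ ∧
      ∀ R : Place k K0, R.1 (s0 - algebraMap k K0 c) < 1 → R = P := by
    intro P hP
    have h1 : P.1 s0 ≤ 1 := (ord_nonneg_iff P hs00).1 (hother P hP)
    obtain ⟨c, hc⟩ := exists_const hK0 P h1
    have hgc : IntermediateField.adjoin k ({s0 - algebraMap k K0 c} : Set K0) = ⊤ := by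
      rw [eq_top_iff, ← hgen, IntermediateField.adjoin_simple_le_iff]
      have := add_mem (IntermediateField.mem_adjoin_simple_self k (s0 - algebraMap k K0 c))
        (IntermediateField.algebraMap_mem _ c)
      rwa [sub_add_cancel] at this
    have hu : IntermediateField.adjoin k ({(s0 - algebraMap k K0 c)⁻¹} : Set K0) = ⊤ := by
      rw [eq_top_iff, ← hgc, IntermediateField.adjoin_simple_le_iff]
      have := inv_mem (IntermediateField.mem_adjoin_simple_self k (s0 - algebraMap k K0 c)⁻¹)
      rwa [inv_inv] at this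
    obtain ⟨-, -, P1, -, h2, h3⟩ := rational_props hK0 hu
    have hne : s0 - algebraMap k K0 c ≠ 0 := fun h => htr0 (by
      rw [sub_eq_zero] at h; rw [h]; exact isAlgebraic_algebraMap c)
    have hP1 : ∀ R : Place k K0, R.1 (s0 - algebraMap k K0 c) < 1 → R = P1 := fun R hR => by
      by_contra hne'
      have := h3 R hne'
      rw [ord_inv] at this
      have := (ord_pos_iff R hne).2 hR
      omega
    have hPP := hP1 P hc
    refine ⟨c, ?_, hgc, fun R hR => (hP1 R hR).trans hPP.symm⟩
    rw [val_eq_exp P hne, hPP]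
    rw [ord_inv] at h2
    rw [show P1.ord (s0 - algebraMap k K0 c) = 1 by omega]
  set d := Module.finrank K0 K with hd
  obtain ⟨b, a, hsum, hb⟩ := exists_graded_basis hK hs
  have hcoord := exists_coords hK hb
  have hq0 : ∀ q : k[X], q ≠ 0 → aeval s0 q ≠ 0 := fun q hq h => htr0 ⟨q, hq, h⟩
  have hcast : ∀ q : k[X], algebraMap K0 K (aeval s0 q) = aeval s q := fun q =>
    (aeval_algebraMap_apply K s0 q).symm
  have hrep : ∀ (f : K) (q : k[X]) (p : Fin d → k[X]), q ≠ 0 → aeval s q * f = ∑ i, aeval s (p i) * b i →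
      f = ∑ i, (aeval s0 (p i) / aeval s0 q) • b i := fun f q p hq h => by
    have hne : aeval s q ≠ 0 := fun h' => hs ⟨q, hq, h'⟩
    calc f = (aeval s q)⁻¹ * (aeval s q * f) := by rw [inv_mul_cancel_left₀ hne]
      _ = _ := by
        rw [h, Finset.mul_sum]
        refine Finset.sum_congr rfl fun i _ => ?_
        rw [Algebra.smul_def, map_div₀, hcast, hcast]; ring
  have hspan : ⊤ ≤ Submodule.span K0 (Set.range b) := fun f _ => by
    obtain ⟨q, p, m, hq, h, -⟩ := hcoord f
    rw [hrep f q p hq h]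
    exact sum_mem fun i _ => Submodule.smul_mem _ _ (Submodule.subset_span ⟨i, rfl⟩)
  let B : Module.Basis (Fin d) K0 K := basisOfTopLeSpanOfCardEqFinrank b hspan (Fintype.card_fin _)
  have hB : ∀ i, B i = b i := fun i => by simp [B]
  have hrepr : ∀ (f : K) (q : k[X]) (p : Fin d → k[X]), q ≠ 0 → aeval s q * f = ∑ i, aeval s (p i) * b i →
      ∀ i, B.repr f i = aeval s0 (p i) / aeval s0 q := fun f q p hq h i => by
    have := hrep f q p hq h
    simp only [← hB] at this
    conv_lhs => rw [this]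
    rw [B.repr_sum_self]
  have hbL : ∀ i, b i ∈ L (a i • poles k s) := fun i => by
    rw [hb]; exact Submodule.subset_span ⟨i, 0, by omega, by rw [pow_zero, one_mul]⟩
  have hscast : algebraMap K0 K s0 = s := rfl
  -- finite places
  have hfinord : ∀ P : Place k K0, P ≠ Pinf →
      P.ord (Algebra.discr K0 B) = ∑ Q ∈ placesOver hK0 K P, LocRes.ordDiff (Φ Q) 1 s := by
    intro P hP
    obtain ⟨c, hc, hgc, huniq⟩ := hfinite P hP
    have hPs : P.1 s0 ≤ 1 := (ord_nonneg_iff P hs00).1 (hother P hP)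
    rw [ord_discr_eq hK0 hK hc hgc hd.symm B (fun i Q hQ => ?_) (fun z hz i => ?_) Φ hΦ]
    · refine Finset.sum_congr rfl fun Q _ => ?_
      obtain ⟨t, ht⟩ := exists_val Q (-1)
      obtain ⟨Ht, hHt⟩ := exists_hasse_at hK ht
      rw [ordDiff_eq hK ht hHt (hΦ Q), ordDiff_eq hK ht hHt (hΦ Q), map_sub, hscast, ← IsScalarTower.algebraMap_apply,
        ← hasseDer_apply hHt, map_sub, Derivation.map_algebraMap, sub_zero, hasseDer_apply]
    · have hQs : Q.1 s ≤ 1 := (val_le_one_iff ((mem_placesOver hK0).1 hQ) s0).2 hPs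
      rw [hB]
      refine (hbL i Q).trans ?_
      rw [nsmul_poles_apply hK]
      have : max (-Q.ord s) 0 = 0 := by
        have := (ord_nonneg_iff Q (ne_zero_of_tr hs)).2 hQs; omega
      rw [this, mul_zero, exp_zero]
    · obtain ⟨q, p, m, hq, hf, -, hqc, -⟩ := hcoord z
      have hqc' : q.eval c ≠ 0 := hqc c fun R hR => by
        obtain ⟨P', hP'⟩ := exists_below (K := K0) R
        have hlt : P'.1 (s0 - algebraMap k K0 c) < 1 := (val_lt_one_iff hP' _).1 (by
          rw [map_sub, hscast, ← IsScalarTower.algebraMap_apply]; exact hR)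
        exact hz R ((mem_placesOver hK0).2 (huniq P' hlt ▸ hP'))
      rw [hrepr z q p hq hf i, map_div₀,
        val_eq_one_of_const (val_aeval_sub_lt (by rw [hc, ← exp_zero, exp_lt_exp]; omega) q) hqc', div_one]
      exact val_aeval_le P hPs _
  -- the infinite place
  have hu : Pinf.1 s0⁻¹ = exp (-1) := by rw [map_inv₀, hvinf, ← exp_neg]
  have hgu : IntermediateField.adjoin k ({s0⁻¹} : Set K0) = ⊤ := by
    rw [eq_top_iff, ← hgen, IntermediateField.adjoin_simple_le_iff]
    have := inv_mem (IntermediateField.mem_adjoin_simple_self k s0⁻¹)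
    rwa [inv_inv] at this
  have hw : ∀ i, IsUnit (s0⁻¹ ^ a i) := fun i => IsUnit.pow _ (inv_ne_zero hs00).isUnit
  let B' := B.isUnitSMul hw
  have hB' : ∀ i, B' i = algebraMap K0 K (s0⁻¹ ^ a i) * b i := fun i => by
    rw [Module.Basis.isUnitSMul_apply, hB, Algebra.smul_def]
  have hinford : (∑ Q ∈ placesOver hK0 K Pinf, LocRes.ordDiff (Φ Q) 1 s) =
      Pinf.ord (Algebra.discr K0 B) + 2 * (∑ i, (a i : ℤ)) - 2 * d := by
    have hdisc : Algebra.discr K0 B' = (∏ i, s0⁻¹ ^ a i) ^ 2 * Algebra.discr K0 B := by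
      rw [← Matrix.det_diagonal (d := fun i => s0⁻¹ ^ a i), ← Algebra.discr_of_matrix_vecMul]
      congr 1
      funext j
      rw [Matrix.diagonal_map (map_zero _)]
      show B' j = _
      rw [Matrix.vecMul_diagonal, hB', hB, mul_comm]
    have hord := ord_discr_eq hK0 hK hu hgu hd.symm B' (fun i Q hQ => ?_) (fun z hz i => ?_) Φ hΦ
    · rw [Place.ord, hdisc, map_mul, map_pow, map_prod] at hord
      simp only [map_pow, map_inv₀, hvinf, ← exp_neg, ← exp_nsmul, prod_exp] at hord
      rw [WithZero.log_mul exp_ne_zero (by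
        rw [Ne, map_eq_zero]; exact Algebra.discr_not_zero_of_basis K0 B), WithZero.log_exp] at hord
      have hterm : ∀ Q ∈ placesOver hK0 K Pinf,
          LocRes.ordDiff (Φ Q) 1 s = LocRes.ordDiff (Φ Q) 1 (algebraMap K0 K s0⁻¹) - 2 * (ramIdx Q Pinf : ℤ) := by
        intro Q hQ
        obtain ⟨t, ht⟩ := exists_val Q (-1)
        obtain ⟨Ht, hHt⟩ := exists_hasse_at hK ht
        have hDs : LocRes.hasseD Ht 1 s ≠ 0 := hasseD_one_ne_zero hK hH hHt
        rw [ordDiff_eq hK ht hHt (hΦ Q), ordDiff_eq hK ht hHt (hΦ Q), one_mul, one_mul, map_inv₀, hscast,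
          ← hasseDer_apply hHt s⁻¹, Derivation.leibniz_inv, hasseDer_apply, smul_eq_mul,
          ord_mul Q (neg_ne_zero.2 (pow_ne_zero _ (inv_ne_zero (ne_zero_of_tr hs)))) hDs]
        have h1 : Q.ord (-(s⁻¹ ^ 2)) = 2 * (ramIdx Q Pinf : ℤ) := by
          have h0 : Q.1 s = exp (ramIdx Q Pinf : ℤ) := by
            rw [← hscast, isOverWith_of_isOver ((mem_placesOver hK0).1 hQ) s0, hvinf, ← exp_nsmul, nsmul_eq_mul, mul_one]
          rw [Place.ord, Valuation.map_neg, map_pow, map_inv₀, h0, ← exp_neg, ← exp_nsmul, WithZero.log_exp]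
          simp
        omega
      have he : ∑ Q ∈ placesOver hK0 K Pinf, (ramIdx Q Pinf : ℤ) = d := by
        have h := sum_ramIdx_mul_deg (K' := K) hK0 Pinf
        simp only [deg_eq_one hK, deg_eq_one hK0, mul_one] at h
        exact_mod_cast h
      rw [Finset.sum_congr rfl hterm, Finset.sum_sub_distrib, ← Finset.mul_sum, he]
      simp only [map_inv₀]
      rw [← hord, Place.ord]
      simp only [nsmul_eq_mul, Finset.mul_sum, mul_neg, mul_one, Finset.sum_neg_distrib]
      push_cast
      simp only [← Finset.mul_sum]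
      ring
    · rw [hB', map_mul, isOverWith_of_isOver ((mem_placesOver hK0).1 hQ), map_pow, hu]
      refine (mul_le_mul' le_rfl (hbL i Q)).trans ?_
      have h0 : Q.1 s = exp (ramIdx Q Pinf : ℤ) := by
        rw [← hscast, isOverWith_of_isOver ((mem_placesOver hK0).1 hQ) s0, hvinf, ← exp_nsmul, nsmul_eq_mul, mul_one]
      rw [nsmul_poles_apply hK, ord_eq_of_val Q h0, neg_neg, max_eq_left (by positivity), ← exp_nsmul, ← exp_nsmul,
        ← exp_add, ← exp_zero, exp_le_exp]
      simp only [nsmul_eq_mul]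
      nlinarith
    · obtain ⟨q, p, m, hq, hf, hdeg, -, hm⟩ := hcoord z
      have hm' : m = q.natDegree := hm fun R hR => by
        obtain ⟨P', hP'⟩ := exists_below (K := K0) R
        have : P' = Pinf := by
          by_contra hne
          have h1 := (ord_nonneg_iff P' hs00).1 (hother P' hne)
          exact not_le.2 hR ((val_le_one_iff hP' s0).2 h1)
        exact hz R ((mem_placesOver hK0).2 (this ▸ hP'))
      rw [Module.Basis.repr_isUnitSMul, hrepr z q p hq hf i, Units.smul_def, Units.val_inv_eq_inv_val,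
        IsUnit.unit_spec, smul_eq_mul, map_mul, map_inv₀, map_pow, hu, map_div₀, val_aeval_eq_deg hvinf hq,
        ← exp_nsmul, ← exp_neg]
      rcases eq_or_ne (p i) 0 with h0 | h0
      · rw [h0, map_zero, map_zero, zero_div, mul_zero]; exact zero_le
      · rw [val_aeval_eq_deg hvinf h0, div_eq_mul_inv, ← exp_neg, ← exp_add, ← exp_add, ← exp_zero, exp_le_exp]
        have h5 := hdeg i (p i).natDegree (by rwa [coeff_natDegree, Ne, leadingCoeff_eq_zero])
        simp only [nsmul_eq_mul]
        omega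
  -- assemble
  have hdisc0 : Algebra.discr K0 B ≠ 0 := Algebra.discr_not_zero_of_basis K0 B
  set T := insert Pinf (div k (Algebra.discr K0 B)).support with hT
  set U := T.biUnion fun P => placesOver hK0 K P with hU
  have hvanish : ∀ Q : Place k K, Q ∉ U → LocRes.ordDiff (Φ Q) 1 s = 0 := by
    intro Q hQ
    obtain ⟨P, hP⟩ := exists_below (K := K0) Q
    have hPT : P ∉ T := fun h => hQ (Finset.mem_biUnion.2 ⟨P, h, (mem_placesOver hK0).2 hP⟩)
    rw [hT, Finset.mem_insert, not_or, Finsupp.notMem_support_iff, div_apply hK0] at hPT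
    have h := hfinord P hPT.1
    rw [hPT.2] at h
    refine (Finset.sum_eq_zero_iff_of_nonneg fun R hR => ?_).1 h.symm Q ((mem_placesOver hK0).2 hP)
    obtain ⟨t, ht⟩ := exists_val R (-1)
    obtain ⟨Ht, hHt⟩ := exists_hasse_at hK ht
    have hRs : R.1 s ≤ 1 :=
      (val_le_one_iff ((mem_placesOver hK0).1 hR) s0).2 ((ord_nonneg_iff P hs00).1 (hother P hPT.1))
    rw [ordDiff_eq hK ht hHt (hΦ R), one_mul, ord_nonneg_iff R (hasseD_one_ne_zero hK hH hHt)]
    exact val_hasseD_le hK ht hHt hRs 1
  have hfin : (Function.support fun Q : Place k K => LocRes.ordDiff (Φ Q) 1 s).Finite :=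
    U.finite_toSet.subset fun Q hQ => by_contra fun h => hQ (hvanish Q h)
  have happ : ∀ P, divDiff Φ 1 s P = LocRes.ordDiff (Φ P) 1 s := fun P => by rw [divDiff, dif_pos hfin]; rfl
  refine ⟨happ, ?_⟩
  rw [Divisor.deg, Finsupp.sum_of_support_subset (s := U) _ (fun Q hQ => by_contra fun h => by
      rw [Finsupp.mem_support_iff, happ] at hQ; exact hQ (hvanish Q h)) _ (by simp),
    Finset.sum_congr rfl fun Q _ => show divDiff Φ 1 s Q * (Q.deg : ℤ) = LocRes.ordDiff (Φ Q) 1 s by
      rw [happ, deg_eq_one hK, Nat.cast_one, mul_one],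
    hU, Finset.sum_biUnion fun P _ P' _ hne => Finset.disjoint_left.2 fun Q h h' => hne ?_]
  · have hdeg := deg_div hK0 (Algebra.discr K0 B)
    rw [Divisor.deg, Finsupp.sum_of_support_subset (s := T) _ (Finset.subset_insert _ _) _ (by simp),
      Finset.sum_congr rfl fun P _ => show div k (Algebra.discr K0 B) P * (P.deg : ℤ) = P.ord (Algebra.discr K0 B) by
        rw [div_apply hK0, deg_eq_one hK0, Nat.cast_one, mul_one],
      hT, Finset.sum_insert_of_eq_zero_if_notMem] at hdeg
    · rw [hT, ← Finset.add_sum_erase _ _ (Finset.mem_insert_self _ _), hinford,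
        Finset.sum_congr rfl fun P hP => (hfinord P (Finset.ne_of_mem_erase hP)).symm, hsum]
      have e : Pinf.ord (Algebra.discr K0 B) + ∑ P ∈ (insert Pinf (div k (Algebra.discr K0 B)).support).erase Pinf,
          P.ord (Algebra.discr K0 B) = 0 := by
        rw [Finset.add_sum_erase _ (fun P : Place k K0 => P.ord (Algebra.discr K0 B)) (Finset.mem_insert_self _ _),
          Finset.sum_insert_of_eq_zero_if_notMem]
        · exact hdeg
        · intro h; rwa [Finsupp.notMem_support_iff, div_apply hK0] at h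
      linarith
    · intro h; rwa [Finsupp.notMem_support_iff, div_apply hK0] at h
  · exact (IsOverWith.unique (isOverWith_of_isOver ((mem_placesOver hK0).1 h))
      (isOverWith_of_isOver ((mem_placesOver hK0).1 h'))).1

end Groth.Agent.FunFld
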