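import Groth.Agent.FunFld.Curve
import Groth.Prelude.Def_LocRes
import Mathlib.RingTheory.PowerSeries.Inverse
import Mathlib.RingTheory.PowerSeries.Trunc

/-! Laurent expansions at the places of a function field over an algebraically closed field. -/

namespace Groth.Agent.FunFld

open _root_.FunFld WithZero IsLocalRing Finset
open scoped LaurentSeries
open PowerSeries (coeff constantCoeff trunc)

variable {k K : Type*} [Field k] [Field K] [Algebra k K]

/-- `G` is the Taylor series of `z` at `P` in the parameter `t`. -/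
def IsTaylor (P : Place k K) (t z : K) (G : PowerSeries k) : Prop :=
  ∀ N : ℕ, P.1 (z - Polynomial.aeval t (trunc N G)) ≤ exp (-(N : ℤ))

variable {P : Place k K} {t : K}

theorem val_pow_param (ht : P.1 t = exp (-1)) (N : ℕ) : P.1 (t ^ N) = exp (-(N : ℤ)) := by
  rw [map_pow, ht, ← exp_nsmul, nsmul_eq_mul]; simp

theorem val_param_le (ht : P.1 t = exp (-1)) : P.1 t ≤ 1 := by
  rw [ht, ← exp_zero, exp_le_exp]; omega

theorem val_aeval_le_of_coeff (ht : P.1 t = exp (-1)) {p : Polynomial k} {N : ℕ}
    (h : ∀ i < N, p.coeff i = 0) : P.1 (Polynomial.aeval t p) ≤ exp (-(N : ℤ)) := by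
  rw [Polynomial.aeval_eq_sum_range]
  refine Valuation.map_sum_le P.1 fun i _ => ?_
  rcases Nat.lt_or_ge i N with hi | hi
  · rw [h i hi, zero_smul, map_zero]; exact zero_le
  · refine (val_smul_le P _ _).trans ?_
    rw [val_pow_param ht, exp_le_exp]; omega

theorem val_trunc_le (ht : P.1 t = exp (-1)) (G : PowerSeries k) (N : ℕ) :
    P.1 (Polynomial.aeval t (trunc N G)) ≤ 1 :=
  val_aeval_le P (val_param_le ht) _

theorem IsTaylor.val_le {z : K} {G : PowerSeries k} (h : IsTaylor P t z G) : P.1 z ≤ 1 := by
  have := h 0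
  rw [PowerSeries.trunc_zero', map_zero, sub_zero, Nat.cast_zero, neg_zero, exp_zero] at this
  exact this

theorem IsTaylor.add {z z' : K} {G G' : PowerSeries k} (h : IsTaylor P t z G) (h' : IsTaylor P t z' G') :
    IsTaylor P t (z + z') (G + G') := fun N => by
  rw [map_add, map_add, add_sub_add_comm]
  exact (P.1.map_add _ _).trans (max_le (h N) (h' N))

theorem IsTaylor.mul (ht : P.1 t = exp (-1)) {z z' : K} {G G' : PowerSeries k} (h : IsTaylor P t z G)
    (h' : IsTaylor P t z' G') : IsTaylor P t (z * z') (G * G') := fun N => by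
  set a := Polynomial.aeval t (trunc N G)
  set b := Polynomial.aeval t (trunc N G')
  have e : z * z' - Polynomial.aeval t (trunc N (G * G')) = (z - a) * z' + a * (z' - b) +
      Polynomial.aeval t (trunc N G * trunc N G' - trunc N (G * G')) := by
    simp only [a, b, map_sub, map_mul]
    ring
  rw [e]
  refine (P.1.map_add _ _).trans (max_le ((P.1.map_add _ _).trans (max_le ?_ ?_)) ?_)
  · rw [map_mul]; exact (mul_le_mul' (h N) h'.val_le).trans_eq (mul_one _)
  · rw [map_mul]; exact (mul_le_mul' (val_trunc_le ht G N) (h' N)).trans_eq (one_mul _)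
  · refine val_aeval_le_of_coeff ht fun i hi => ?_
    rw [Polynomial.coeff_sub, sub_eq_zero]
    have e1 := congrArg (fun p : Polynomial k => p.coeff i) (PowerSeries.trunc_trunc_mul_trunc (n := N) G G')
    simp only [PowerSeries.coeff_trunc, hi, if_true] at e1
    rw [PowerSeries.coeff_trunc, if_pos hi, ← e1, ← Polynomial.coe_mul, Polynomial.coeff_coe]

theorem isTaylor_C (ht : P.1 t = exp (-1)) (c : k) : IsTaylor P t (algebraMap k K c) (PowerSeries.C c) := fun N => by
  cases N with
  | zero =>
    rw [PowerSeries.trunc_zero', map_zero, sub_zero, Nat.cast_zero, neg_zero, exp_zero]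
    exact P.2.1 c
  | succ n => rw [PowerSeries.trunc_C, Polynomial.aeval_C, sub_self, map_zero]; exact zero_le

theorem isTaylor_param (ht : P.1 t = exp (-1)) : IsTaylor P t t PowerSeries.X := fun N => by
  match N with
  | 0 =>
    rw [PowerSeries.trunc_zero', map_zero, sub_zero, Nat.cast_zero, neg_zero, exp_zero]
    exact val_param_le ht
  | 1 =>
    have : trunc 1 (PowerSeries.X : PowerSeries k) = 0 := by
      ext i
      rw [PowerSeries.coeff_trunc, Polynomial.coeff_zero]
      split_ifs with hi
      · rw [PowerSeries.coeff_X, if_neg (by omega)]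
      · rfl
    rw [this, map_zero, sub_zero, ht]; rfl
  | n + 2 => rw [PowerSeries.trunc_X, Polynomial.aeval_X, sub_self, map_zero]; exact zero_le

theorem IsTaylor.unique (ht : P.1 t = exp (-1)) {z : K} {G G' : PowerSeries k} (h : IsTaylor P t z G)
    (h' : IsTaylor P t z G') : G = G' := by
  ext n
  induction n using Nat.strong_induction_on with
  | _ n ih =>
    by_contra hne
    have h1 : P.1 (Polynomial.aeval t (trunc (n + 1) G - trunc (n + 1) G')) ≤ exp (-((n + 1 : ℕ) : ℤ)) := by
      rw [map_sub, show Polynomial.aeval t (trunc (n + 1) G) - Polynomial.aeval t (trunc (n + 1) G') =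
        (z - Polynomial.aeval t (trunc (n + 1) G')) - (z - Polynomial.aeval t (trunc (n + 1) G)) by ring]
      exact (P.1.map_sub _ _).trans (max_le (h' _) (h _))
    have h2 : trunc (n + 1) G - trunc (n + 1) G' = Polynomial.monomial n (coeff n G - coeff n G') := by
      ext i
      rw [Polynomial.coeff_sub, PowerSeries.coeff_trunc, PowerSeries.coeff_trunc, Polynomial.coeff_monomial]
      rcases lt_trichotomy i n with hi | rfl | hi
      · rw [if_pos (by omega), if_pos (by omega), if_neg (by omega), ih i hi, sub_self]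
      · rw [if_pos (by omega), if_pos (by omega), if_pos rfl]
      · rw [if_neg (by omega), if_neg (by omega), if_neg (by omega), sub_self]
    rw [h2, Polynomial.aeval_monomial, map_mul, val_algebraMap P (sub_ne_zero.2 hne), one_mul,
      val_pow_param ht, exp_le_exp] at h1
    omega

theorem IsTaylor.eq_zero {z : K} (h : IsTaylor P t z 0) : z = 0 := by
  by_contra hz
  have := h ((P.ord z).toNat + 1)
  rw [map_zero, map_zero, sub_zero, val_eq_exp P hz, exp_le_exp] at this
  omega

variable [IsAlgClosed k]

theorem exists_isTaylor (hK : IsFunctionField k K) (ht : P.1 t = exp (-1)) {z : K} (hz : P.1 z ≤ 1) :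
    ∃ G : PowerSeries k, IsTaylor P t z G := by
  have ht0 := ne_zero_of_val P ht
  have step : ∀ w : {w : K // P.1 w ≤ 1}, ∃ p : k × {w : K // P.1 w ≤ 1},
      (w : K) = algebraMap k K p.1 + t * (p.2 : K) := by
    intro w
    obtain ⟨c, hc⟩ := exists_const hK P w.2
    refine ⟨(c, ⟨((w : K) - algebraMap k K c) / t, ?_⟩), ?_⟩
    · rw [map_div₀, ht]
      exact div_le_one_of_le₀ ((lt_one_iff_le P).1 hc) zero_le
    · simp only
      rw [mul_div_cancel₀ _ ht0]; ring
  choose f hf using step
  let w : ℕ → {w : K // P.1 w ≤ 1} := fun n => n.rec ⟨z, hz⟩ fun _ v => (f v).2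
  refine ⟨PowerSeries.mk fun n => (f (w n)).1, fun N => ?_⟩
  have key : ∀ N, z - Polynomial.aeval t (trunc N (PowerSeries.mk fun n => (f (w n)).1)) = t ^ N * (w N).1 := by
    intro N
    induction N with
    | zero => rw [PowerSeries.trunc_zero', map_zero, sub_zero, pow_zero, one_mul]; rfl
    | succ n ih =>
      rw [PowerSeries.trunc_succ, map_add, ← sub_sub, ih, Polynomial.aeval_monomial, PowerSeries.coeff_mk,
        pow_succ]
      have := hf (w n)
      show _ = t ^ n * t * (f (w n)).2.1
      linear_combination (t ^ n) * this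
  rw [key, map_mul, val_pow_param ht]
  exact mul_le_of_le_one_right' (w N).2

section

variable (hK : IsFunctionField k K) (ht : P.1 t = exp (-1))

/-- The Taylor map of the valuation ring. -/
noncomputable def taylorAt : P.O →+* LaurentSeries k where
  toFun z := ((exists_isTaylor hK ht z.2).choose : PowerSeries k)
  map_one' := by
    rw [(exists_isTaylor hK ht (1 : P.O).2).choose_spec.unique ht (G' := 1) (by
      simpa using isTaylor_C ht (1 : k)), PowerSeries.coe_one]
  map_mul' a b := by
    rw [(exists_isTaylor hK ht (a * b).2).choose_spec.unique ht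
      ((exists_isTaylor hK ht a.2).choose_spec.mul ht (exists_isTaylor hK ht b.2).choose_spec), PowerSeries.coe_mul]
  map_zero' := by
    rw [(exists_isTaylor hK ht (0 : P.O).2).choose_spec.unique ht (G' := 0) (by
      simpa using isTaylor_C ht (0 : k)), PowerSeries.coe_zero]
  map_add' a b := by
    rw [(exists_isTaylor hK ht (a + b).2).choose_spec.unique ht
      ((exists_isTaylor hK ht a.2).choose_spec.add (exists_isTaylor hK ht b.2).choose_spec), PowerSeries.coe_add]

theorem taylorAt_apply {z : K} (hz : P.1 z ≤ 1) {G : PowerSeries k} (h : IsTaylor P t z G) :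
    taylorAt hK ht ⟨z, hz⟩ = (G : LaurentSeries k) :=
  congrArg (fun G : PowerSeries k => (G : LaurentSeries k)) ((exists_isTaylor hK ht hz).choose_spec.unique ht h)

theorem taylorAt_injective : Function.Injective (taylorAt hK ht) := by
  rw [injective_iff_map_eq_zero]
  intro z hz
  have h0 : (exists_isTaylor hK ht z.2).choose = 0 := by
    apply HahnSeries.ofPowerSeries_injective (Γ := ℤ) (R := k)
    rw [map_zero]; exact hz
  exact Subtype.ext (IsTaylor.eq_zero (t := t) (h0 ▸ (exists_isTaylor hK ht z.2).choose_spec))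

/-- The expansion at `P` in the parameter `t`. -/
noncomputable def expand : K →ₐ[k] LaurentSeries k :=
  { IsFractionRing.lift (A := P.O) (K := K) (taylorAt_injective hK ht) with
    commutes' := fun c => by
      show IsFractionRing.lift (taylorAt_injective hK ht) (algebraMap k K c) = _
      rw [show algebraMap k K c = algebraMap P.O K ⟨algebraMap k K c, P.2.1 c⟩ from rfl,
        IsFractionRing.lift_algebraMap, taylorAt_apply hK ht _ (isTaylor_C ht c), PowerSeries.coe_C,
        LocRes.algebraMap_eq_C] }

theorem expand_of_taylor {z : K} {G : PowerSeries k} (h : IsTaylor P t z G) :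
    expand hK ht z = (G : LaurentSeries k) := by
  show IsFractionRing.lift (taylorAt_injective hK ht) z = _
  rw [show z = algebraMap P.O K ⟨z, h.val_le⟩ from rfl, IsFractionRing.lift_algebraMap]
  exact taylorAt_apply hK ht _ h

theorem expand_param : expand hK ht t = HahnSeries.single 1 1 := by
  rw [expand_of_taylor hK ht (isTaylor_param ht), PowerSeries.coe_X]

theorem valuation_coe_le_one (G : PowerSeries k) : Valued.v (G : LaurentSeries k) ≤ (1 : WithZero (Multiplicative ℤ)) :=
  (LaurentSeries.val_le_one_iff_eq_coe k _).2 ⟨G, rfl⟩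

theorem valuation_expand_unit {u : K} (hu : P.1 u = 1) : Valued.v (expand hK ht u) = (1 : WithZero (Multiplicative ℤ)) := by
  obtain ⟨G, hG⟩ := exists_isTaylor hK ht hu.le
  obtain ⟨G', hG'⟩ := exists_isTaylor hK ht (show P.1 u⁻¹ ≤ 1 by rw [map_inv₀, hu, inv_one])
  have hu0 : u ≠ 0 := fun e => by simp [e] at hu
  have h1 : Valued.v (expand hK ht u) * Valued.v (expand hK ht u⁻¹) = (1 : WithZero (Multiplicative ℤ)) := by
    rw [← map_mul, ← map_mul, mul_inv_cancel₀ hu0, map_one, map_one]
  refine le_antisymm (by rw [expand_of_taylor hK ht hG]; exact valuation_coe_le_one G) ?_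
  rw [← h1, expand_of_taylor hK ht hG']
  exact mul_le_of_le_one_right' (valuation_coe_le_one G')

theorem valuation_expand (f : K) : Valued.v (expand hK ht f) = P.1 f := by
  rcases eq_or_ne f 0 with rfl | hf
  · simp
  have ht0 := ne_zero_of_val P ht
  set m := P.ord f
  have hu : P.1 (f / t ^ m) = 1 := by
    rw [map_div₀, map_zpow₀, ht, ← exp_zsmul, val_eq_exp P hf, smul_eq_mul, mul_neg, mul_one, div_self exp_ne_zero]
  conv_lhs => rw [← div_mul_cancel₀ f (zpow_ne_zero m ht0)]
  rw [map_mul, map_mul, valuation_expand_unit hK ht hu, one_mul, map_zpow₀, expand_param, map_zpow₀,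
    LaurentSeries.valuation_single_zpow, ← exp_zsmul, val_eq_exp P hf]
  simp [m]

theorem isExpansionAt_expand : LocRes.IsExpansionAt P.1 (expand hK ht) := by
  refine ⟨valuation_expand hK ht, fun a => ⟨algebraMap k K a, P.2.1 a, ?_⟩, t, ht⟩
  rw [AlgHom.commutes, LocRes.algebraMap_eq_C]
  simp

end

theorem exists_expansion (hK : IsFunctionField k K) :
    ∃ Φ : Place k K → (K →ₐ[k] LaurentSeries k), ∀ P, LocRes.IsExpansionAt P.1 (Φ P) := by
  choose t ht using fun P : Place k K => exists_val P (-1)
  exact ⟨fun P => expand hK (ht P), fun P => isExpansionAt_expand hK (ht P)⟩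

end Groth.Agent.FunFld
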