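import Groth.Agent.FunFld.Wr.Expansion
import Mathlib.Algebra.Polynomial.HasseDeriv
import Mathlib.Algebra.Polynomial.Identities
import Mathlib.RingTheory.Henselian
import Mathlib.RingTheory.AdicCompletion.Completeness
import Mathlib.FieldTheory.PurelyInseparable.Basic
import Mathlib.FieldTheory.Perfect
import Mathlib.RingTheory.PowerSeries.Substitution

/-! Total Hasse derivatives of function fields: Taylor maps, uniqueness, existence, separating elements. -/

namespace Groth.Agent.FunFld

open _root_.FunFld WithZero IsLocalRing Finset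
open scoped LaurentSeries
open PowerSeries (coeff constantCoeff trunc)

section Taylor

variable {F : Type*} [Field F]

/-- Hasse derivative of a power series. -/
noncomputable def hasseP (n : ℕ) (G : PowerSeries F) : PowerSeries F :=
  PowerSeries.mk fun m => ((m + n).choose n : F) * coeff (m + n) G

theorem coeff_hasseP (n m : ℕ) (G : PowerSeries F) :
    coeff m (hasseP n G) = ((m + n).choose n : F) * coeff (m + n) G := PowerSeries.coeff_mk _ _

theorem hasseP_zero (G : PowerSeries F) : hasseP 0 G = G := by
  ext m; simp [coeff_hasseP]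

theorem hasseP_one (n : ℕ) : hasseP n (1 : PowerSeries F) = if n = 0 then 1 else 0 := by
  split_ifs with h
  · rw [h, hasseP_zero]
  · ext m
    rw [coeff_hasseP, PowerSeries.coeff_one, if_neg (by omega), mul_zero, map_zero]

theorem hasseP_mul (n : ℕ) (G G' : PowerSeries F) :
    hasseP n (G * G') = ∑ ij ∈ antidiagonal n, hasseP ij.1 G * hasseP ij.2 G' := by
  ext m
  have hg : ∀ (H : PowerSeries F) (a : ℕ), a ≤ m + n → (trunc (m + n + 1) H).coeff a = coeff a H := fun H a ha => by
    rw [PowerSeries.coeff_trunc, if_pos (by omega)]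
  have hl : coeff m (hasseP n (G * G')) =
      (Polynomial.hasseDeriv n (trunc (m + n + 1) G * trunc (m + n + 1) G')).coeff m := by
    rw [coeff_hasseP, Polynomial.hasseDeriv_coeff]
    congr 1
    rw [PowerSeries.coeff_mul, Polynomial.coeff_mul]
    refine sum_congr rfl fun ab hab => ?_
    have : ab.1 + ab.2 = m + n := by simpa using hab
    rw [hg G ab.1 (by omega), hg G' ab.2 (by omega)]
  rw [hl, Polynomial.hasseDeriv_mul, Polynomial.finsetSum_coeff, map_sum]
  refine sum_congr rfl fun ij hij => ?_
  rw [PowerSeries.coeff_mul, Polynomial.coeff_mul]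
  refine sum_congr rfl fun ab hab => ?_
  have h1 : ij.1 + ij.2 = n := by simpa using hij
  have h2 : ab.1 + ab.2 = m := by simpa using hab
  rw [coeff_hasseP, coeff_hasseP, Polynomial.hasseDeriv_coeff, Polynomial.hasseDeriv_coeff,
    hg G _ (by omega), hg G' _ (by omega)]

/-- `G ↦ G(X + T)`. -/
noncomputable def taylorP : PowerSeries F →+* PowerSeries F⸨X⸩ where
  toFun G := PowerSeries.mk fun n => (hasseP n G : F⸨X⸩)
  map_one' := by
    ext n : 1
    rw [PowerSeries.coeff_mk, hasseP_one, PowerSeries.coeff_one]
    split_ifs <;> simp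
  map_mul' a b := by
    ext n : 1
    rw [PowerSeries.coeff_mk, hasseP_mul, map_sum, PowerSeries.coeff_mul]
    exact sum_congr rfl fun ij _ => by rw [map_mul, PowerSeries.coeff_mk, PowerSeries.coeff_mk]
  map_zero' := by
    ext n : 1
    rw [PowerSeries.coeff_mk, show hasseP n (0 : PowerSeries F) = 0 by ext m; simp [coeff_hasseP]]
    simp
  map_add' a b := by
    ext n : 1
    rw [map_add, PowerSeries.coeff_mk, PowerSeries.coeff_mk, PowerSeries.coeff_mk, ← map_add]
    congr 1
    ext m
    simp [coeff_hasseP, mul_add]

theorem coeff_taylorP (n : ℕ) (G : PowerSeries F) : coeff n (taylorP G) = (hasseP n G : F⸨X⸩) :=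
  by simp [taylorP, PowerSeries.coeff_mk]

theorem isUnit_taylorP (G : nonZeroDivisors (PowerSeries F)) : IsUnit (taylorP (G : PowerSeries F)) := by
  rw [PowerSeries.isUnit_iff_constantCoeff, ← PowerSeries.coeff_zero_eq_constantCoeff_apply, coeff_taylorP,
    hasseP_zero, isUnit_iff_ne_zero]
  intro h
  exact nonZeroDivisors.coe_ne_zero G (HahnSeries.ofPowerSeries_injective (h.trans (map_zero _).symm))

/-- `f ↦ f(X + T)` on Laurent series. -/
noncomputable def taylorL : F⸨X⸩ →+* PowerSeries F⸨X⸩ :=
  IsLocalization.lift (M := nonZeroDivisors (PowerSeries F)) (g := taylorP) isUnit_taylorP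

theorem taylorL_coe (G : PowerSeries F) : taylorL (G : F⸨X⸩) = taylorP G :=
  IsLocalization.lift_eq isUnit_taylorP G

theorem constantCoeff_taylorL (f : F⸨X⸩) : constantCoeff (taylorL f) = f := by
  have h : (constantCoeff (R := F⸨X⸩)).comp taylorL = RingHom.id _ :=
    IsLocalization.ringHom_ext (nonZeroDivisors (PowerSeries F)) (RingHom.ext fun G => by
      show constantCoeff (taylorL (G : F⸨X⸩)) = (G : F⸨X⸩)
      rw [taylorL_coe, ← PowerSeries.coeff_zero_eq_constantCoeff_apply, coeff_taylorP, hasseP_zero])
  exact congrFun (congrArg DFunLike.coe h) f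

theorem taylorL_C (c : F) : taylorL (HahnSeries.C c : F⸨X⸩) = PowerSeries.C (HahnSeries.C c : F⸨X⸩) := by
  rw [← PowerSeries.coe_C, taylorL_coe]
  ext n : 1
  rw [coeff_taylorP, PowerSeries.coeff_C]
  rcases n with _ | n
  · rw [hasseP_zero, if_pos rfl]
  · rw [if_neg (by omega), show hasseP (n + 1) (PowerSeries.C c) = 0 by
      ext m; rw [coeff_hasseP, PowerSeries.coeff_C, if_neg (by omega), mul_zero, map_zero]]
    simp

theorem taylorL_single : taylorL (HahnSeries.single 1 1 : F⸨X⸩) =
    PowerSeries.C (HahnSeries.single 1 1 : F⸨X⸩) + PowerSeries.X := by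
  rw [← PowerSeries.coe_X, taylorL_coe]
  ext n : 1
  rw [coeff_taylorP, map_add, PowerSeries.coeff_C, PowerSeries.coeff_X]
  rcases n with _ | _ | n
  · rw [hasseP_zero, if_pos rfl, if_neg (by omega), add_zero]
  · rw [if_neg (by omega), if_pos rfl, zero_add, show hasseP 1 (PowerSeries.X : PowerSeries F) = 1 by
      ext m
      rw [coeff_hasseP, PowerSeries.coeff_X, PowerSeries.coeff_one]
      rcases m with _ | m <;> simp]
    simp
  · rw [if_neg (by omega), if_neg (by omega), add_zero, show hasseP (n + 1 + 1) (PowerSeries.X : PowerSeries F) = 0 by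
      ext m; rw [coeff_hasseP, PowerSeries.coeff_X, if_neg (by omega), mul_zero, map_zero]]
    simp

/-- The first Taylor coefficient is the derivative. -/
theorem coeff_one_taylorL (f : F⸨X⸩) : coeff 1 (taylorL f) = LocRes.D F f := by
  have hP : ∀ G : PowerSeries F, coeff 1 (taylorL (G : F⸨X⸩)) = LocRes.D F (G : F⸨X⸩) := fun G => by
    rw [taylorL_coe, coeff_taylorP, LocRes.D_coe]
    congr 1
    ext m
    rw [coeff_hasseP, PowerSeries.coeff_derivative, Nat.choose_one_right]
    push_cast; ring
  obtain ⟨⟨G, H, hH⟩, e⟩ := IsLocalization.surj (nonZeroDivisors (PowerSeries F)) f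
  change f * (H : F⸨X⸩) = (G : F⸨X⸩) at e
  have h1 := congrArg (fun w => coeff 1 (taylorL w)) e
  have h2 := congrArg (LocRes.D F) e
  simp only [map_mul, PowerSeries.coeff_mul, Finset.Nat.sum_antidiagonal_eq_sum_range_succ_mk, sum_range_succ,
    sum_range_zero, zero_add, Nat.sub_zero, Nat.sub_self, PowerSeries.coeff_zero_eq_constantCoeff_apply,
    constantCoeff_taylorL, hP] at h1
  rw [Derivation.leibniz, smul_eq_mul, smul_eq_mul] at h2
  have hH0 : (H : F⸨X⸩) ≠ 0 := fun h =>
    nonZeroDivisors.ne_zero hH (HahnSeries.ofPowerSeries_injective (h.trans (map_zero _).symm))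
  refine mul_right_cancel₀ hH0 ?_
  linear_combination h1 - h2

/-- For an integral series the Taylor coefficients are the Hasse derivatives. -/
theorem hasseDeriv_coe (n : ℕ) (G : PowerSeries F) :
    LaurentSeries.hasseDeriv F n (G : F⸨X⸩) = (hasseP n G : F⸨X⸩) := by
  ext i
  rw [LaurentSeries.hasseDeriv_coeff, PowerSeries.coeff_coe, PowerSeries.coeff_coe]
  rcases le_or_gt 0 i with hi | hi
  · lift i to ℕ using hi
    rw [if_neg (by omega), if_neg (by omega), coeff_hasseP, ← Nat.cast_add, Ring.choose_natCast,
      Int.natAbs_natCast, Int.natAbs_natCast, zsmul_eq_mul, Int.cast_natCast]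
  · rw [if_pos hi]
    split_ifs with h
    · rw [smul_zero]
    · obtain ⟨a, ha⟩ := Int.eq_ofNat_of_zero_le (show 0 ≤ i + n by omega)
      rw [ha, Ring.choose_natCast, Nat.choose_eq_zero_of_lt (by omega), Nat.cast_zero, zero_smul]

end Taylor

variable {k K : Type*} [Field k] [Field K] [Algebra k K]

theorem cc_map {A B : Type*} [CommRing A] [CommRing B] (f : A →+* B) (G : PowerSeries A) :
    constantCoeff (PowerSeries.map f G) = f (constantCoeff G) := by
  rw [← PowerSeries.coeff_zero_eq_constantCoeff_apply, PowerSeries.coeff_map, PowerSeries.coeff_zero_eq_constantCoeff_apply]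

section Uniqueness

variable {R : Type*} [Field R]

theorem root_unique (q : Polynomial (PowerSeries R)) {a b : PowerSeries R} (ha : q.eval a = 0)
    (hb : q.eval b = 0) (hcc : constantCoeff a = constantCoeff b)
    (hd : constantCoeff (q.derivative.eval b) ≠ 0) : a = b := by
  obtain ⟨c, hc⟩ := Polynomial.binomExpansion q b (a - b)
  rw [add_sub_cancel, ha, hb, zero_add] at hc
  have hu : IsUnit (q.derivative.eval b + c * (a - b)) := by
    rw [PowerSeries.isUnit_iff_constantCoeff, map_add, map_mul, map_sub, hcc, sub_self, mul_zero, add_zero,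
      isUnit_iff_ne_zero]
    exact hd
  have h0 : (q.derivative.eval b + c * (a - b)) * (a - b) = 0 := by linear_combination -hc
  exact sub_eq_zero.1 (hu.mul_right_eq_zero.1 h0)

theorem agree_of_separable (A B : K →+* PowerSeries R) {E : IntermediateField k K}
    (hE : ∀ y ∈ E, A y = B y) (hcc : ∀ y, constantCoeff (A y) = constantCoeff (B y)) {y : K}
    (hy : IsSeparable E y) : A y = B y := by
  let p := minpoly E y
  have hAB : A.comp (algebraMap E K) = B.comp (algebraMap E K) := RingHom.ext fun e => hE _ e.2
  have hroot : ∀ C : K →+* PowerSeries R, (p.map (C.comp (algebraMap E K))).eval (C y) = 0 := fun C => by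
    rw [Polynomial.eval_map, ← Polynomial.hom_eval₂, ← Polynomial.aeval_def, minpoly.aeval, map_zero]
  refine root_unique (p.map (A.comp (algebraMap E K))) (hroot A) (hAB ▸ hroot B) (hcc y) ?_
  rw [Polynomial.derivative_map, Polynomial.eval_map, Polynomial.hom_eval₂, ← hcc y]
  have h := Polynomial.hom_eval₂ p.derivative (algebraMap E K) ((constantCoeff (R := R)).comp A) y
  rw [RingHom.comp_assoc] at h
  rw [← RingHom.comp_apply (constantCoeff (R := R)) A y, ← h]
  exact (map_ne_zero _).2 (hy.aeval_derivative_ne_zero (minpoly.aeval E y))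

theorem hom_eq_of_agree (A B : K →+* PowerSeries R) (E : IntermediateField k K) [Algebra.IsSeparable E K]
    (hE : ∀ y ∈ E, A y = B y) (hcc : ∀ y, constantCoeff (A y) = constantCoeff (B y)) : A = B :=
  RingHom.ext fun y => agree_of_separable A B hE hcc (Algebra.IsSeparable.isSeparable E y)

theorem adjoin_agree (A B : K →+* PowerSeries R) {s : K}
    (hk : ∀ c : k, A (algebraMap k K c) = B (algebraMap k K c)) (hs : A s = B s) :
    ∀ y ∈ IntermediateField.adjoin k ({s} : Set K), A y = B y := by
  intro y hy
  induction hy using IntermediateField.adjoin_induction with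
  | mem z hz => rw [Set.mem_singleton_iff.1 hz, hs]
  | algebraMap c => exact hk c
  | add a b _ _ ha hb => rw [map_add, map_add, ha, hb]
  | inv a _ ha =>
    rcases eq_or_ne a 0 with rfl | ha0
    · simp
    have hu : IsUnit (A a) := (Ne.isUnit ha0).map A
    refine hu.mul_left_cancel ?_
    rw [← map_mul, mul_inv_cancel₀ ha0, map_one, ha, ← map_mul, mul_inv_cancel₀ ha0, map_one]
  | mul a b _ _ ha hb => rw [map_mul, map_mul, ha, hb]

/-- Agreement only needs an algebraic extension: purely inseparable parts cause no ambiguity. -/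
theorem hom_ext_alg (A B : K →+* PowerSeries R) {s : K}
    [FiniteDimensional (IntermediateField.adjoin k ({s} : Set K)) K]
    (hk : ∀ c : k, A (algebraMap k K c) = B (algebraMap k K c)) (hs : A s = B s)
    (hcc : ∀ y, constantCoeff (A y) = constantCoeff (B y)) : A = B := by
  set L := IntermediateField.adjoin k ({s} : Set K)
  obtain ⟨q, hq⟩ := ExpChar.exists L
  have : ExpChar R q := expChar_of_injective_ringHom
    (((constantCoeff (R := R)).comp A).comp (algebraMap L K)).injective q
  have : ExpChar (PowerSeries R) q := expChar_of_injective_ringHom PowerSeries.C_injective q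
  have : ExpChar (separableClosure L K) q := expChar_of_injective_algebraMap (algebraMap L (separableClosure L K)).injective q
  ext1 y
  obtain ⟨n, ⟨e, he⟩, hn⟩ : ∃ n, y ^ q ^ n ∈ (algebraMap (separableClosure L K) K).range ∧ True := by
    obtain ⟨n, hn⟩ := IsPurelyInseparable.pow_mem (separableClosure L K) q y
    exact ⟨n, hn, trivial⟩
  have h1 : A (y ^ q ^ n) = B (y ^ q ^ n) := by
    rw [← he]
    exact agree_of_separable A B (adjoin_agree A B hk hs) hcc (mem_separableClosure_iff.1 e.2)
  rw [map_pow, map_pow, ← iterateFrobenius_def, ← iterateFrobenius_def] at h1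
  exact iterateFrobenius_inj (PowerSeries R) q n h1

theorem hom_ext_sep (A B : K →+* PowerSeries R) {s : K}
    [Algebra.IsSeparable (IntermediateField.adjoin k ({s} : Set K)) K]
    (hk : ∀ c : k, A (algebraMap k K c) = B (algebraMap k K c)) (hs : A s = B s)
    (hcc : ∀ y, constantCoeff (A y) = constantCoeff (B y)) : A = B :=
  hom_eq_of_agree A B (IntermediateField.adjoin k ({s} : Set K)) (adjoin_agree A B hk hs) hcc

end Uniqueness

section Separating

variable [IsAlgClosed k] (hK : IsFunctionField k K)
include hK

theorem separable_of_not_pow {s : K} (hs : Transcendental k s)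
    (hp : ∀ p : ℕ, p.Prime → CharP k p → ∀ z : K, z ^ p ≠ s) :
    Algebra.IsSeparable (IntermediateField.adjoin k ({s} : Set K)) K := by
  have hfin := finite_adjoin hK hs
  set L := IntermediateField.adjoin k ({s} : Set K) with hL
  obtain ⟨p, hchar⟩ := CharP.exists k
  rcases CharP.char_is_prime_or_zero k p with hpp | rfl
  swap
  · have : CharZero k := CharP.charP_to_charZero k
    have : CharZero L := charZero_of_injective_algebraMap (algebraMap k L).injective
    infer_instance
  have : Fact p.Prime := ⟨hpp⟩
  have : CharP K p := charP_of_injective_algebraMap (algebraMap k K).injective p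
  have : ExpChar K p := ExpChar.prime hpp
  have : CharP L p := charP_of_injective_algebraMap (algebraMap k L).injective p
  have : ExpChar L p := ExpChar.prime hpp
  let Kp : IntermediateField k K :=
    { (frobenius K p).fieldRange with
      algebraMap_mem' := fun c => by
        obtain ⟨d, hd⟩ := IsAlgClosed.exists_pow_nat_eq c hpp.pos
        exact ⟨algebraMap k K d, by rw [frobenius_def, ← map_pow, hd]⟩ }
  have hKp : ∀ z : K, z ^ p ∈ Kp := fun z => ⟨z, rfl⟩
  have hsKp : s ∉ Kp := by
    rintro ⟨z, hz⟩
    exact hp p hpp hchar z hz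
  -- the image of `k(s)` under Frobenius
  have hsp : Transcendental k (s ^ p) := hs.pow hpp.pos
  set Lp := IntermediateField.adjoin k ({s ^ p} : Set K) with hLp
  have hLpKp : Lp ≤ Kp := by
    rw [hLp, IntermediateField.adjoin_le_iff, Set.singleton_subset_iff]; exact hKp s
  have hfinp := finite_adjoin hK hsp
  have hLimg : ∀ z ∈ L, z ^ p ∈ Lp := by
    intro z hz
    induction hz using IntermediateField.adjoin_induction with
    | mem w hw => rw [Set.mem_singleton_iff.1 hw]; exact IntermediateField.mem_adjoin_simple_self k _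
    | algebraMap c => rw [← map_pow]; exact IntermediateField.algebraMap_mem _ _
    | add a b _ _ ha hb => rw [add_pow_char]; exact add_mem ha hb
    | inv a _ ha => rw [inv_pow]; exact inv_mem ha
    | mul a b _ _ ha hb => rw [mul_pow]; exact mul_mem ha hb
  have hLsurj : ∀ w ∈ Lp, ∃ z ∈ L, z ^ p = w := by
    intro w hw
    induction hw using IntermediateField.adjoin_induction with
    | mem w hw => exact ⟨s, IntermediateField.mem_adjoin_simple_self k s, (Set.mem_singleton_iff.1 hw).symm⟩
    | algebraMap c =>
      obtain ⟨d, hd⟩ := IsAlgClosed.exists_pow_nat_eq c hpp.pos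
      exact ⟨algebraMap k K d, IntermediateField.algebraMap_mem _ _, by rw [← map_pow, hd]⟩
    | add a b _ _ ha hb =>
      obtain ⟨a', ha1, rfl⟩ := ha; obtain ⟨b', hb1, rfl⟩ := hb
      exact ⟨a' + b', add_mem ha1 hb1, add_pow_char _ _ _⟩
    | inv a _ ha => obtain ⟨a', ha1, rfl⟩ := ha; exact ⟨a'⁻¹, inv_mem ha1, inv_pow _ _⟩
    | mul a b _ _ ha hb =>
      obtain ⟨a', ha1, rfl⟩ := ha; obtain ⟨b', hb1, rfl⟩ := hb
      exact ⟨a' * b', mul_mem ha1 hb1, mul_pow _ _ _⟩
  let _ : Algebra Lp Kp := (IntermediateField.inclusion hLpKp).toRingHom.toAlgebra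
  have : IsScalarTower Lp Kp K := IsScalarTower.of_algebraMap_eq fun _ => rfl
  let i : L →+* Lp := ((frobenius K p).comp L.val.toRingHom).codRestrict Lp fun z => hLimg z z.2
  let j : K →+* Kp := (frobenius K p).codRestrict Kp fun z => hKp z
  have hi : Function.Bijective i := ⟨i.injective, fun w => by
    obtain ⟨z, hz, e⟩ := hLsurj w w.2
    exact ⟨⟨z, hz⟩, Subtype.ext e⟩⟩
  have hj : Function.Bijective j := ⟨j.injective, fun w => by
    obtain ⟨z, hz⟩ := w.2
    exact ⟨z, Subtype.ext hz⟩⟩
  have e1 : Module.finrank L K = Module.finrank Lp Kp :=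
    Algebra.finrank_eq_of_equiv_equiv (RingEquiv.ofBijective i hi) (RingEquiv.ofBijective j hj)
      (RingHom.ext fun z => Subtype.ext rfl)
  have e2 : (Module.finrank Lp K : ℤ) = p * Module.finrank L K := by
    have h : poles k (s ^ p) = p • poles k s := Finsupp.ext fun R => by
      rw [poles_apply hK, ord_pow, nsmul_poles_apply hK, mul_max_of_nonneg _ _ (Int.natCast_nonneg p), mul_neg, mul_zero]
    rw [← deg_poles hK hsp, h, deg_nsmul, deg_poles hK hs]
  have hrank : Module.finrank Kp K = p := by
    have h := Module.finrank_mul_finrank Lp Kp K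
    rw [← e1] at h
    have hpos : 0 < Module.finrank L K := Module.finrank_pos
    have e2' : Module.finrank Lp K = Module.finrank L K * p := by rw [mul_comm]; exact_mod_cast e2
    rw [e2'] at h
    exact Nat.eq_of_mul_eq_mul_left hpos h
  have : FiniteDimensional Kp K := FiniteDimensional.of_finrank_pos (hrank ▸ hpp.pos)
  have htop : IntermediateField.adjoin Kp ({s} : Set K) = ⊤ := by
    have hdvd : Module.finrank Kp (IntermediateField.adjoin Kp ({s} : Set K)) ∣ p :=
      ⟨Module.finrank (IntermediateField.adjoin Kp ({s} : Set K)) K, by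
        rw [Module.finrank_mul_finrank, hrank]⟩
    rcases (Nat.dvd_prime hpp).1 hdvd with h | h
    · rw [IntermediateField.finrank_eq_one_iff] at h
      obtain ⟨w, hw⟩ := IntermediateField.mem_bot.1
        (h ▸ IntermediateField.mem_adjoin_simple_self Kp s : s ∈ (⊥ : IntermediateField Kp K))
      exact absurd (hw ▸ w.2) hsKp
    · exact IntermediateField.eq_of_le_of_finrank_eq le_top (by rw [h, IntermediateField.finrank_top', hrank])
  -- `K = k(K^(p^e), s)`
  have hFe : ∀ e : ℕ, IntermediateField.adjoin k (Set.range (fun z : K => z ^ p ^ e) ∪ {s}) = ⊤ := by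
    intro e
    induction e with
    | zero =>
      refine top_le_iff.1 fun z _ => IntermediateField.subset_adjoin _ _ (Or.inl ⟨z, ?_⟩)
      show z ^ p ^ 0 = z
      rw [pow_zero, pow_one]
    | succ e ih =>
      set G := IntermediateField.adjoin k (Set.range (fun z : K => z ^ p ^ (e + 1)) ∪ {s}) with hG
      have hpow : ∀ z : K, z ^ p ∈ G := by
        intro z
        have hz : z ∈ IntermediateField.adjoin k (Set.range (fun z : K => z ^ p ^ e) ∪ {s}) := by
          rw [ih]; exact IntermediateField.mem_top
        induction hz using IntermediateField.adjoin_induction with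
        | mem w hw =>
          rcases hw with ⟨u, rfl⟩ | hw
          · refine IntermediateField.subset_adjoin _ _ (Or.inl ⟨u, ?_⟩)
            show u ^ p ^ (e + 1) = (u ^ p ^ e) ^ p
            rw [← pow_mul, pow_succ]
          · rw [Set.mem_singleton_iff.1 hw]
            exact pow_mem (IntermediateField.subset_adjoin k (Set.range (fun z : K => z ^ p ^ (e + 1)) ∪ {s}) (Or.inr (Set.mem_singleton s))) _
        | algebraMap c => rw [← map_pow]; exact IntermediateField.algebraMap_mem _ _
        | add a b _ _ ha hb => rw [add_pow_char]; exact add_mem ha hb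
        | inv a _ ha => rw [inv_pow]; exact inv_mem ha
        | mul a b _ _ ha hb => rw [mul_pow]; exact mul_mem ha hb
      suffices key : ∀ z ∈ IntermediateField.adjoin Kp ({s} : Set K), z ∈ G from
        top_le_iff.1 fun z _ => key z (by rw [htop]; exact IntermediateField.mem_top)
      intro z hz
      induction hz using IntermediateField.adjoin_induction with
      | mem w hw => exact IntermediateField.subset_adjoin _ _ (Or.inr hw)
      | algebraMap c =>
        obtain ⟨u, hu⟩ := c.2
        show (c : K) ∈ G
        rw [← hu, frobenius_def]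
        exact hpow u
      | add a b _ _ ha hb => exact add_mem ha hb
      | inv a _ ha => exact inv_mem ha
      | mul a b _ _ ha hb => exact mul_mem ha hb
  set E := separableClosure L K
  have hpi : IsPurelyInseparable E K := inferInstance
  suffices hE : E = ⊤ by
    exact (separableClosure.eq_top_iff L K).1 hE
  let b := Module.finBasis L K
  choose e he using fun i => IsPurelyInseparable.pow_mem E p (b i)
  set M := ∑ i, e i
  have hbM : ∀ i, b i ^ p ^ M ∈ E := fun i => by
    obtain ⟨w, hw⟩ := he i
    rw [show M = e i + (M - e i) from (Nat.add_sub_cancel' (Finset.single_le_sum (fun _ _ => Nat.zero_le _)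
      (Finset.mem_univ i))).symm, pow_add, pow_mul, ← hw]
    exact pow_mem w.2 _
  have hall : ∀ z : K, z ^ p ^ M ∈ E := fun z => by
    rw [← b.sum_repr z, sum_pow_char_pow]
    refine sum_mem fun i _ => ?_
    rw [Algebra.smul_def, mul_pow]
    exact mul_mem (pow_mem (E.algebraMap_mem _) _) (hbM i)
  refine top_le_iff.1 fun z _ => ?_
  have hz : z ∈ IntermediateField.adjoin k (Set.range (fun z : K => z ^ p ^ M) ∪ {s}) := by
    rw [hFe]; exact IntermediateField.mem_top
  have hle : IntermediateField.adjoin k (Set.range (fun z : K => z ^ p ^ M) ∪ {s}) ≤ E.restrictScalars k := by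
    rw [IntermediateField.adjoin_le_iff]
    rintro w (⟨u, rfl⟩ | hw)
    · exact hall u
    · rw [Set.mem_singleton_iff.1 hw]
      exact E.algebraMap_mem ⟨s, IntermediateField.mem_adjoin_simple_self k s⟩
  exact hle hz

theorem separable_of_hasse {s : K} {H : K →ₐ[k] PowerSeries K} (hH : LocRes.IsHasseFamily s H) :
    Transcendental k s ∧ Algebra.IsSeparable (IntermediateField.adjoin k ({s} : Set K)) K := by
  have h1 : coeff 1 (H s) = 1 := by
    rw [hH.1, map_add, PowerSeries.coeff_C, PowerSeries.coeff_X, if_neg (by omega), if_pos rfl, zero_add]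
  have htr : Transcendental k s := transcendental_of_not_mem hK fun ⟨c, hc⟩ => by
    rw [← hc, AlgHom.commutes, PowerSeries.algebraMap_apply, PowerSeries.coeff_C, if_neg (by omega)] at h1
    exact zero_ne_one h1
  refine ⟨htr, separable_of_not_pow hK htr fun p hp hc z hz => ?_⟩
  have : CharP K p := charP_of_injective_algebraMap (algebraMap k K).injective p
  have h2 := PowerSeries.coeff_derivative (H z ^ p) 0
  rw [PowerSeries.derivative_pow, show H z ^ p = H s by rw [← map_pow, hz], zero_add, h1] at h2
  rw [show ((p : ℕ) : PowerSeries K) = PowerSeries.C ((p : ℕ) : K) from (map_natCast (PowerSeries.C (R := K)) p).symm,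
    CharP.cast_eq_zero, map_zero, zero_mul, zero_mul, map_zero] at h2
  simp at h2

theorem separable_of_val {P : Place k K} {t : K} (ht : P.1 t = exp (-1)) :
    Transcendental k t ∧ Algebra.IsSeparable (IntermediateField.adjoin k ({t} : Set K)) K := by
  have hord : P.ord t = 1 := by rw [ord_eq_of_val P ht]; rfl
  have htr : Transcendental k t := mem_range_of_ord hK (P := P) (by rw [hord]; exact one_ne_zero)
  refine ⟨htr, separable_of_not_pow hK htr fun p hp _ z hz => ?_⟩
  rw [← hz, ord_pow] at hord
  have h1 : (p : ℤ) ∣ 1 := ⟨_, hord.symm⟩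
  have := hp.one_lt
  have := Int.le_of_dvd one_pos h1
  omega

end Separating

/-! ### Compatibility and existence -/

theorem hasse_compat {F : Type*} [Field F] [Algebra k F] (φ : K →ₐ[k] F⸨X⸩) {t : K}
    (hφt : φ t = HahnSeries.single 1 1) [FiniteDimensional (IntermediateField.adjoin k ({t} : Set K)) K]
    {H : K →ₐ[k] PowerSeries K} (hH : LocRes.IsHasseFamily t H) (y : K) :
    PowerSeries.map φ.toRingHom (H y) = taylorL (φ y) := by
  have h : (PowerSeries.map φ.toRingHom).comp H.toRingHom = taylorL.comp φ.toRingHom := by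
    refine hom_ext_alg (k := k) _ _ (s := t) (fun c => ?_) ?_ fun z => ?_
    · show PowerSeries.map φ.toRingHom (H (algebraMap k K c)) = taylorL (φ (algebraMap k K c))
      rw [AlgHom.commutes, PowerSeries.algebraMap_apply, PowerSeries.map_C, LocRes.map_algebraMap, taylorL_C]
      congr 1
      exact LocRes.map_algebraMap φ c
    · show PowerSeries.map φ.toRingHom (H t) = taylorL (φ t)
      rw [hH.1, map_add, PowerSeries.map_C, PowerSeries.map_X, hφt, taylorL_single]
      congr 2
    · show constantCoeff (PowerSeries.map φ.toRingHom (H z)) = constantCoeff (taylorL (φ z))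
      rw [constantCoeff_taylorL, cc_map, hH.2]
      rfl
  exact congrFun (congrArg DFunLike.coe h) y

theorem hasseD_expand {F : Type*} [Field F] [Algebra k F] (φ : K →ₐ[k] F⸨X⸩) {t : K}
    (hφt : φ t = HahnSeries.single 1 1) [FiniteDimensional (IntermediateField.adjoin k ({t} : Set K)) K]
    {H : K →ₐ[k] PowerSeries K} (hH : LocRes.IsHasseFamily t H) (j : ℕ) (y : K) :
    φ (LocRes.hasseD H j y) = coeff j (taylorL (φ y)) := by
  rw [← hasse_compat φ hφt hH y, PowerSeries.coeff_map]
  rfl

/-- A field with a formal expansion has Hasse derivatives with respect to a separating parameter. -/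
theorem exists_hasse {F : Type*} [Field F] [Algebra k F] (φ : K →ₐ[k] F⸨X⸩) {t : K}
    (hφt : φ t = HahnSeries.single 1 1) [Algebra.IsSeparable (IntermediateField.adjoin k ({t} : Set K)) K] :
    ∃ H : K →ₐ[k] PowerSeries K, LocRes.IsHasseFamily t H := by
  set μ := PowerSeries.map φ.toRingHom with hμdef
  have hμ : Function.Injective μ := fun a b h => PowerSeries.ext fun n =>
    φ.toRingHom.injective (by have := congrArg (coeff n) h; rwa [PowerSeries.coeff_map, PowerSeries.coeff_map] at this)
  have hcc : ∀ (y : K) (G : PowerSeries K), μ G = taylorL (φ y) → constantCoeff G = y := fun y G h => by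
    have := congrArg constantCoeff h
    rw [constantCoeff_taylorL, cc_map] at this
    exact φ.toRingHom.injective this
  let S : IntermediateField k K :=
    { carrier := {y | ∃ G, μ G = taylorL (φ y)}
      mul_mem' := by
        rintro a b ⟨G, hG⟩ ⟨G', hG'⟩
        exact ⟨G * G', by rw [map_mul, hG, hG', map_mul, map_mul]⟩
      add_mem' := by
        rintro a b ⟨G, hG⟩ ⟨G', hG'⟩
        exact ⟨G + G', by rw [map_add, hG, hG', map_add, map_add]⟩
      algebraMap_mem' := fun c => ⟨PowerSeries.C (algebraMap k K c), by
        rw [PowerSeries.map_C, LocRes.map_algebraMap, taylorL_C]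
        congr 1
        exact LocRes.map_algebraMap φ c⟩
      inv_mem' := by
        rintro a ⟨G, hG⟩
        rcases eq_or_ne a 0 with rfl | ha
        · exact ⟨0, by rw [inv_zero, map_zero, map_zero, map_zero]⟩
        have hu : IsUnit G := by
          rw [PowerSeries.isUnit_iff_constantCoeff, hcc a G hG, isUnit_iff_ne_zero]; exact ha
        obtain ⟨u, rfl⟩ := hu
        refine ⟨(u⁻¹ : (PowerSeries K)ˣ), ?_⟩
        have h1 : IsUnit (taylorL (φ a)) := (Ne.isUnit ha).map (taylorL.comp φ.toRingHom)
        refine h1.mul_left_cancel ?_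
        rw [← map_mul taylorL, ← map_mul φ, mul_inv_cancel₀ ha, map_one, map_one, ← hG, ← map_mul,
          Units.mul_inv, map_one] }
  have htS : t ∈ S := ⟨PowerSeries.C t + PowerSeries.X, by
    rw [map_add, PowerSeries.map_C, PowerSeries.map_X, hφt, taylorL_single]
    congr 2⟩
  have hLS : IntermediateField.adjoin k ({t} : Set K) ≤ S := by
    rw [IntermediateField.adjoin_le_iff, Set.singleton_subset_iff]; exact htS
  let _ : Algebra (IntermediateField.adjoin k ({t} : Set K)) S := (IntermediateField.inclusion hLS).toRingHom.toAlgebra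
  have : IsScalarTower (IntermediateField.adjoin k ({t} : Set K)) S K := IsScalarTower.of_algebraMap_eq fun _ => rfl
  have : Algebra.IsSeparable S K := Algebra.isSeparable_tower_top_of_isSeparable (IntermediateField.adjoin k ({t} : Set K)) S K
  choose G hG using fun y : S => (y.2 : ∃ G, μ G = taylorL (φ y))
  let h : S →+* PowerSeries K :=
    { toFun := G
      map_one' := hμ (by
        rw [hG, map_one]
        show taylorL (φ ((1 : S) : K)) = 1
        rw [OneMemClass.coe_one, map_one, map_one])
      map_mul' := fun a b => hμ (by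
        rw [hG, map_mul, hG, hG]
        show taylorL (φ ((a * b : S) : K)) = _
        rw [MulMemClass.coe_mul, map_mul, map_mul])
      map_zero' := hμ (by
        rw [hG, map_zero]
        show taylorL (φ ((0 : S) : K)) = 0
        rw [ZeroMemClass.coe_zero, map_zero, map_zero])
      map_add' := fun a b => hμ (by
        rw [hG, map_add, hG, hG]
        show taylorL (φ ((a + b : S) : K)) = _
        rw [AddMemClass.coe_add, map_add, map_add]) }
  have hall : ∀ y : K, y ∈ S := by
    intro y
    set p := minpoly S y
    have hp : p.Monic := minpoly.monic (Algebra.IsSeparable.isSeparable S y).isIntegral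
    set q := p.map h with hq
    have hcomp : (constantCoeff (R := K)).comp h = algebraMap S K := RingHom.ext fun a => hcc _ _ (hG a)
    have h0 : constantCoeff (q.eval (PowerSeries.C y)) = 0 := by
      rw [hq, Polynomial.eval_map, Polynomial.hom_eval₂, hcomp, PowerSeries.constantCoeff_C, ← Polynomial.aeval_def,
        minpoly.aeval]
    have h1 : IsUnit (q.derivative.eval (PowerSeries.C y)) := by
      rw [PowerSeries.isUnit_iff_constantCoeff, hq, Polynomial.derivative_map, Polynomial.eval_map,
        Polynomial.hom_eval₂, hcomp, PowerSeries.constantCoeff_C, ← Polynomial.aeval_def, isUnit_iff_ne_zero]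
      exact (Algebra.IsSeparable.isSeparable S y).aeval_derivative_ne_zero (minpoly.aeval S y)
    have hI : ∀ G : PowerSeries K, G ∈ Ideal.span ({PowerSeries.X} : Set (PowerSeries K)) ↔ constantCoeff G = 0 :=
      fun G => by rw [Ideal.mem_span_singleton, PowerSeries.X_dvd_iff]
    obtain ⟨a, ha, ha'⟩ := HenselianRing.is_henselian (I := Ideal.span ({PowerSeries.X} : Set (PowerSeries K)))
      q (hp.map h) (PowerSeries.C y) ((hI _).2 h0) (h1.map _)
    rw [hI, map_sub, PowerSeries.constantCoeff_C, sub_eq_zero] at ha'
    refine ⟨a, ?_⟩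
    have hmap : μ.comp h = (taylorL.comp φ.toRingHom).comp (algebraMap S K) := RingHom.ext fun z => hG z
    refine root_unique (q.map μ) ?_ ?_ ?_ ?_
    · rw [Polynomial.eval_map, Polynomial.eval₂_at_apply, show q.eval a = 0 from ha, map_zero]
    · rw [hq, Polynomial.map_map, hmap, Polynomial.eval_map]
      show Polynomial.eval₂ _ ((taylorL.comp φ.toRingHom) y) p = 0
      rw [← Polynomial.hom_eval₂, ← Polynomial.aeval_def, minpoly.aeval, map_zero]
    · rw [constantCoeff_taylorL, cc_map, ha']; rfl
    · rw [hq, Polynomial.map_map, hmap, Polynomial.derivative_map, Polynomial.eval_map]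
      show constantCoeff (Polynomial.eval₂ _ ((taylorL.comp φ.toRingHom) y) p.derivative) ≠ 0
      rw [← Polynomial.hom_eval₂]
      show constantCoeff (taylorL (φ _)) ≠ 0
      rw [constantCoeff_taylorL]
      exact (map_ne_zero φ).2 ((Algebra.IsSeparable.isSeparable S y).aeval_derivative_ne_zero (minpoly.aeval S y))
  refine ⟨{ h.comp ((RingHom.id K).codRestrict S hall) with commutes' := fun c => hμ ?_ }, hμ ?_, fun y => hcc y _ (hG ⟨y, hall y⟩)⟩
  · refine (hG ⟨algebraMap k K c, hall _⟩).trans ?_
    rw [PowerSeries.algebraMap_apply, PowerSeries.map_C, LocRes.map_algebraMap, taylorL_C]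
    congr 1
    exact (LocRes.map_algebraMap φ c).symm
  · refine (hG ⟨t, hall t⟩).trans ?_
    rw [map_add, PowerSeries.map_C, PowerSeries.map_X, hφt, taylorL_single]
    congr 2
    exact hφt.symm

section AtPlace

variable [IsAlgClosed k] (hK : IsFunctionField k K) {P : Place k K} {t : K} (ht : P.1 t = exp (-1))
include hK ht

theorem exists_hasse_at : ∃ H : K →ₐ[k] PowerSeries K, LocRes.IsHasseFamily t H := by
  have := (separable_of_val hK ht).2
  exact exists_hasse (expand hK ht) (expand_param hK ht)

theorem expand_hasseD {H : K →ₐ[k] PowerSeries K} (hH : LocRes.IsHasseFamily t H) {y : K} {G : PowerSeries k}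
    (hG : IsTaylor P t y G) (j : ℕ) :
    expand hK ht (LocRes.hasseD H j y) = (hasseP j G : k⸨X⸩) := by
  have := finite_adjoin hK (separable_of_val hK ht).1
  rw [hasseD_expand (expand hK ht) (expand_param hK ht) hH, expand_of_taylor hK ht hG, taylorL_coe, coeff_taylorP]

theorem val_hasseD_le {H : K →ₐ[k] PowerSeries K} (hH : LocRes.IsHasseFamily t H) {y : K} (hy : P.1 y ≤ 1) (j : ℕ) :
    P.1 (LocRes.hasseD H j y) ≤ 1 := by
  obtain ⟨G, hG⟩ := exists_isTaylor hK ht hy
  rw [← valuation_expand hK ht, expand_hasseD hK ht hH hG]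
  exact valuation_coe_le_one _

end AtPlace

end Groth.Agent.FunFld
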