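import Groth.Agent.FunFld.Wr.Hasse
import Groth.Prelude.Def_W4bk4goldsch45p2
import Mathlib.LinearAlgebra.Matrix.Block
import Mathlib.LinearAlgebra.Dual.Lemmas
import Mathlib.LinearAlgebra.LinearIndependent.Lemmas
import Mathlib.LinearAlgebra.Dimension.OrzechProperty
import Mathlib.LinearAlgebra.Matrix.Dual

/-! Order sequences of columns of Hasse derivatives. -/

namespace Groth.Agent.FunFld

open _root_.FunFld WithZero IsLocalRing Finset
open scoped LaurentSeries
open PowerSeries (coeff constantCoeff trunc)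

/-! ### Jumps of a sequence of vectors -/

section Jumps

variable {R : Type*} [Field R] {n : ℕ} {c c' : ℕ → Fin (n + 1) → R}

/-- Span of the vectors before `m`. -/
def spn (c : ℕ → Fin (n + 1) → R) (m : ℕ) : Submodule R (Fin (n + 1) → R) :=
  Submodule.span R (c '' Set.Iio m)

theorem spn_zero (c : ℕ → Fin (n + 1) → R) : spn c 0 = ⊥ := by simp [spn]

theorem spn_succ (c : ℕ → Fin (n + 1) → R) (m : ℕ) :
    spn c (m + 1) = Submodule.span R {c m} ⊔ spn c m := by
  rw [spn, spn, show Set.Iio (m + 1) = insert m (Set.Iio m) by ext; simp, Set.image_insert_eq,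
    Submodule.span_insert]

theorem spn_mono (c : ℕ → Fin (n + 1) → R) {m m' : ℕ} (h : m ≤ m') : spn c m ≤ spn c m' :=
  Submodule.span_mono (Set.image_mono (Set.Iio_subset_Iio h))

theorem mem_spn {m j : ℕ} (h : j < m) : c j ∈ spn c m := Submodule.subset_span ⟨j, h, rfl⟩

theorem isJump_iff (c : ℕ → Fin (n + 1) → R) (j : ℕ) : IsJump R c j ↔ c j ∉ spn c j := Iff.rfl

open scoped Classical in
theorem finrank_spn (c : ℕ → Fin (n + 1) → R) (m : ℕ) :
    Module.finrank R (spn c m) = ((Finset.range m).filter (IsJump R c)).card := by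
  induction m with
  | zero => rw [spn_zero, finrank_bot]; simp
  | succ m ih =>
    rw [Finset.range_add_one, Finset.filter_insert]
    by_cases h : IsJump R c m
    · rw [if_pos h, Finset.card_insert_of_notMem (by simp), ← ih]
      have hlt : spn c m < spn c (m + 1) :=
        lt_of_le_of_ne (spn_mono c (Nat.le_succ m)) fun e => h (e.symm ▸ mem_spn (Nat.lt_succ_self m) : c m ∈ spn c m)
      have h1 := Submodule.finrank_lt_finrank_of_lt hlt
      have h2 : Module.finrank R (spn c (m + 1)) ≤ Module.finrank R (spn c m) + 1 := by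
        rw [spn_succ]
        refine le_trans (Submodule.finrank_add_le_finrank_add_finrank _ _) ?_
        have : Module.finrank R (Submodule.span R ({c m} : Set (Fin (n + 1) → R))) ≤ 1 :=
          (finrank_span_le_card _).trans (by simp)
        omega
      omega
    · rw [if_neg h, ← ih]
      have e : spn c (m + 1) = spn c m := by
        rw [spn_succ, sup_eq_right, Submodule.span_singleton_le_iff_mem]
        exact not_not.1 h
      rw [e]

theorem exists_isOrders (h0 : c 0 ≠ 0) {M : ℕ} (htop : spn c M = ⊤) : ∃ J : Fin n → ℕ, IsOrders R c J := by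
  classical
  set S := (Finset.range M).filter (IsJump R c) with hS
  have hcard : S.card = n + 1 := by
    rw [hS, ← finrank_spn, htop, finrank_top, Module.finrank_fin_fun]
  have hlt : ∀ j, IsJump R c j → j < M := fun j hj => by
    by_contra hle
    refine hj (spn_mono c (not_lt.1 hle) ?_)
    rw [htop]; exact Submodule.mem_top
  have hmem : ∀ j, j ∈ S ↔ IsJump R c j := fun j => by
    rw [hS, Finset.mem_filter, Finset.mem_range]; exact ⟨fun h => h.2, fun h => ⟨hlt j h, h⟩⟩
  have h0S : 0 ∈ S := (hmem 0).2 fun h => h0 (by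
    change c 0 ∈ spn c 0 at h
    rwa [spn_zero, Submodule.mem_bot] at h)
  set T := (S.erase 0).image (fun j => j - 1) with hT
  have hTcard : T.card = n := by
    rw [hT, Finset.card_image_of_injOn, Finset.card_erase_of_mem h0S, hcard, Nat.add_sub_cancel]
    intro a ha b hb hab
    rw [Finset.mem_coe, Finset.mem_erase] at ha hb
    have : a - 1 = b - 1 := hab
    omega
  refine ⟨T.orderEmbOfFin hTcard, (T.orderEmbOfFin hTcard).strictMono, fun j => ?_⟩
  rw [Finset.range_orderEmbOfFin, Finset.mem_coe, hT, Finset.mem_image]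
  constructor
  · rintro ⟨a, ha, rfl⟩
    rw [Finset.mem_erase, hmem] at ha
    rw [show a - 1 + 1 = a by omega]; exact ha.2
  · intro h
    exact ⟨j + 1, Finset.mem_erase.2 ⟨by omega, (hmem _).2 h⟩, by omega⟩

/-- Column indices attached to an index sequence. -/
def eIdx (I : Fin n → ℕ) (l : Fin (n + 1)) : ℕ := Fin.cases (motive := fun _ => ℕ) 0 (fun l => I l + 1) l

theorem eIdx_zero (I : Fin n → ℕ) : eIdx I 0 = 0 := rfl

theorem eIdx_succ (I : Fin n → ℕ) (l : Fin n) : eIdx I l.succ = I l + 1 := rfl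

theorem eIdx_strictMono {I : Fin n → ℕ} (hI : StrictMono I) : StrictMono (eIdx I) := by
  intro i j h
  cases j using Fin.cases with
  | zero => exact absurd h (Fin.not_lt_zero i)
  | succ j =>
    cases i using Fin.cases with
    | zero => simp [eIdx]
    | succ i => simpa [eIdx] using hI (Fin.succ_lt_succ_iff.1 h)

/-- The square matrix of chosen columns. -/
def colMat (c : ℕ → Fin (n + 1) → R) (I : Fin n → ℕ) : Matrix (Fin (n + 1)) (Fin (n + 1)) R :=
  Matrix.of fun i l => c (eIdx I l) i

theorem IsOrders.jump_iff {J : Fin n → ℕ} (hJ : IsOrders R c J) {j : ℕ} (hj : IsJump R c j) :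
    ∃ l, eIdx J l = j := by
  rcases j with _ | j
  · exact ⟨0, rfl⟩
  · obtain ⟨l, hl⟩ := (hJ.2 j).2 hj
    exact ⟨l.succ, by rw [eIdx_succ, hl]⟩

theorem IsOrders.spn_le {J : Fin n → ℕ} (hJ : IsOrders R c J) (m : ℕ) :
    spn c m ≤ Submodule.span R (Set.range fun i : {i // eIdx J i < m} => c (eIdx J i.1)) := by
  induction m with
  | zero => rw [spn_zero]; exact bot_le
  | succ m ih =>
    have hmono : Submodule.span R (Set.range fun i : {i // eIdx J i < m} => c (eIdx J i.1)) ≤
        Submodule.span R (Set.range fun i : {i // eIdx J i < m + 1} => c (eIdx J i.1)) := by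
      refine Submodule.span_mono ?_
      rintro _ ⟨i, rfl⟩
      exact ⟨⟨i.1, i.2.trans (Nat.lt_succ_self m)⟩, rfl⟩
    rw [spn_succ]
    refine sup_le ?_ (ih.trans hmono)
    rw [Submodule.span_singleton_le_iff_mem]
    by_cases hj : IsJump R c m
    · obtain ⟨l, hl⟩ := IsOrders.jump_iff hJ hj
      exact Submodule.subset_span ⟨⟨l, by omega⟩, by simp [hl]⟩
    · exact hmono (ih (not_not.1 hj))

theorem IsOrders.det_ne_zero {J : Fin n → ℕ} (hJ : IsOrders R c J) {M : ℕ} (htop : spn c M = ⊤) :
    (colMat c J).det ≠ 0 := by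
  have h : Submodule.span R (Set.range fun l => c (eIdx J l)) = ⊤ := by
    rw [eq_top_iff, ← htop]
    refine (IsOrders.spn_le hJ M).trans (Submodule.span_mono ?_)
    rintro _ ⟨i, rfl⟩
    exact ⟨i.1, rfl⟩
  have hli : LinearIndependent R (colMat c J).col :=
    linearIndependent_of_top_le_span_of_card_eq_finrank h.ge (by simp)
  rw [← isUnit_iff_ne_zero, ← Matrix.isUnit_iff_isUnit_det]
  exact Matrix.linearIndependent_cols_iff_isUnit.1 hli

theorem IsOrders.le_of_det {J J' : Fin n → ℕ} (hJ : IsOrders R c J) (hJ' : StrictMono J')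
    (hdet : (colMat c J').det ≠ 0) (l : Fin n) : J l ≤ J' l := by
  classical
  by_contra hlt
  push Not at hlt
  have hli : LinearIndependent R (colMat c J').col := by
    rw [Matrix.linearIndependent_cols_iff_isUnit, Matrix.isUnit_iff_isUnit_det, isUnit_iff_ne_zero]; exact hdet
  set s : Finset (Fin (n + 1)) := Finset.Iic l.succ
  have h1 : s.card ≤ Module.finrank R (spn c (J' l + 2)) := by
    have hmem : ∀ i : s, c (eIdx J' i.1) ∈ spn c (J' l + 2) := fun i => mem_spn (by
      have := (eIdx_strictMono hJ').monotone (Finset.mem_Iic.1 i.2)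
      rw [eIdx_succ] at this
      omega)
    have hli' : LinearIndependent R fun i : s => (⟨_, hmem i⟩ : spn c (J' l + 2)) :=
      LinearIndependent.of_comp (spn c (J' l + 2)).subtype (hli.comp (fun i : s => i.1) Subtype.val_injective)
    simpa using hli'.fintype_card_le_finrank
  have h2 : Module.finrank R (spn c (J' l + 2)) ≤ (Finset.Iio l.succ).card := by
    refine (Submodule.finrank_mono (IsOrders.spn_le hJ (J' l + 2))).trans ((finrank_range_le_card _).trans ?_)
    rw [Fintype.card_subtype]
    refine Finset.card_le_card fun i hi => Finset.mem_Iio.2 ?_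
    rw [Finset.mem_filter] at hi
    by_contra hle
    have := (eIdx_strictMono hJ.1).monotone (not_lt.1 hle)
    rw [eIdx_succ] at this
    omega
  rw [Fin.card_Iio] at h2
  rw [Fin.card_Iic] at h1
  omega

/-- A triangular change of columns. -/
theorem spn_congr {a : ℕ → R} (ha : ∀ j, a j ≠ 0) (htri : ∀ j, c' j - a j • c j ∈ spn c j) (m : ℕ) :
    spn c' m = spn c m := by
  induction m with
  | zero => rw [spn_zero, spn_zero]
  | succ m ih =>
    rw [spn_succ, spn_succ, ih]
    apply le_antisymm <;> refine sup_le ?_ le_sup_right <;> rw [Submodule.span_singleton_le_iff_mem]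
    · rw [← sub_add_cancel (c' m) (a m • c m)]
      exact add_mem (Submodule.mem_sup_right (htri m))
        (Submodule.mem_sup_left (Submodule.smul_mem _ _ (Submodule.mem_span_singleton_self _)))
    · rw [← inv_smul_smul₀ (ha m) (c m), show a m • c m = c' m - (c' m - a m • c m) by abel]
      exact Submodule.smul_mem _ _ (sub_mem (Submodule.mem_sup_left (Submodule.mem_span_singleton_self _))
        (Submodule.mem_sup_right (htri m)))

theorem isJump_congr {a : ℕ → R} (ha : ∀ j, a j ≠ 0) (htri : ∀ j, c' j - a j • c j ∈ spn c j) (j : ℕ) :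
    IsJump R c' j ↔ IsJump R c j := by
  rw [isJump_iff, isJump_iff, spn_congr ha htri, not_iff_not,
    show c' j = a j • c j + (c' j - a j • c j) by abel, Submodule.add_mem_iff_left _ (htri j),
    Submodule.smul_mem_iff _ (ha j)]

theorem isOrders_congr {a : ℕ → R} (ha : ∀ j, a j ≠ 0) (htri : ∀ j, c' j - a j • c j ∈ spn c j)
    (J : Fin n → ℕ) : IsOrders R c' J ↔ IsOrders R c J := by
  simp only [IsOrders, isJump_congr ha htri]

theorem det_colMat_congr {a : ℕ → R} (htri : ∀ j, c' j - a j • c j ∈ spn c j)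
    {J : Fin n → ℕ} (hJ : IsOrders R c J) :
    (colMat c' J).det = (a 0 * ∏ l, a (J l + 1)) * (colMat c J).det := by
  classical
  set e := eIdx J
  have hcoef : ∀ l, ∃ t : Fin (n + 1) → R, (∀ i, e l ≤ e i → t i = 0) ∧
      c' (e l) = a (e l) • c (e l) + ∑ i, t i • c (e i) := by
    intro l
    obtain ⟨t, ht⟩ := (Submodule.mem_span_range_iff_exists_fun R).1 (IsOrders.spn_le hJ _ (htri (e l)))
    refine ⟨fun i => if h : e i < e l then t ⟨i, h⟩ else 0, fun i hi => dif_neg (by omega), ?_⟩
    have hs : ∑ i, (if h : e i < e l then t ⟨i, h⟩ else 0) • c (e i) =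
        ∑ i : {i // e i < e l}, t i • c (e i.1) := by
      rw [← Fintype.sum_subtype_add_sum_subtype (fun i => e i < e l),
        Finset.sum_eq_zero (s := (Finset.univ : Finset {i // ¬ e i < e l})) (fun i _ => by
          rw [dif_neg i.2, zero_smul]), add_zero]
      exact Finset.sum_congr rfl fun i _ => by rw [dif_pos i.2]
    rw [hs, ht]; abel
  choose t ht0 hte using hcoef
  let T : Matrix (Fin (n + 1)) (Fin (n + 1)) R :=
    Matrix.of fun i l => (if i = l then a (e l) else 0) + t l i
  have hmul : colMat c' J = colMat c J * T := by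
    ext i l
    rw [Matrix.mul_apply]
    show c' (e l) i = _
    rw [hte l]
    simp only [Pi.add_apply, Pi.smul_apply, Finset.sum_apply, smul_eq_mul, T, Matrix.of_apply, mul_add,
      Finset.sum_add_distrib, mul_ite, mul_zero, Finset.sum_ite_eq', Finset.mem_univ, if_true]
    rw [mul_comm (a (e l))]
    exact congrArg _ (Finset.sum_congr rfl fun x _ => mul_comm _ _)
  have hdet : T.det = a 0 * ∏ l, a (J l + 1) := by
    have hmono : StrictMono e := eIdx_strictMono hJ.1
    rw [Matrix.det_of_isUpperTriangular (fun i l (h : l < i) => by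
      simp [T, ne_of_gt h, ht0 l i (hmono h).le]), Fin.prod_univ_succ]
    simp [T, fun i => ht0 i i le_rfl, e, eIdx_zero, eIdx_succ]
  rw [hmul, Matrix.det_mul, hdet, mul_comm]

/-- Replacing the leading column removes exactly one of the orders. -/
theorem exists_jump_removed {J : Fin n → ℕ} (hJ : IsOrders R c J) (h10 : c 1 = c 0) (h0 : c 0 ≠ 0) {M : ℕ}
    (htop : spn c M = ⊤) (hagree : ∀ j, c' (j + 1) = c (j + 1)) (hv : c' 0 ∉ Submodule.span R {c 0}) :
    ∃ m : Fin n, ∀ j, IsJump R c' (j + 1) ↔ (j = 0 ∨ ∃ l, l ≠ m ∧ J l = j) := by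
  classical
  set d : ℕ → Fin (n + 1) → R := fun j => c (j + 1) with hd
  set v := c' 0 with hv'
  have hsucc : ∀ (e : ℕ → Fin (n + 1) → R) (m : ℕ),
      spn e (m + 1) = Submodule.span R {e 0} ⊔ spn (fun j => e (j + 1)) m := by
    intro e m
    induction m with
    | zero => rw [spn_succ, spn_zero, spn_zero]
    | succ m ih => rw [spn_succ, ih, spn_succ (fun j => e (j + 1)) m]; exact sup_left_comm _ _ _
  have hdc : ∀ m, spn c (m + 2) = spn d (m + 1) := fun m => by
    rw [hsucc c, sup_eq_right, Submodule.span_singleton_le_iff_mem, ← h10]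
    exact mem_spn (c := d) (Nat.succ_pos m)
  have hc' : ∀ m, spn c' (m + 1) = Submodule.span R {v} ⊔ spn d m := fun m => by
    rw [hsucc c', show (fun j => c' (j + 1)) = d from funext hagree]
  have hjd : ∀ j, IsJump R d j ↔ (j = 0 ∨ ∃ l, J l = j) := by
    intro j
    rcases j with _ | j
    · simp only [isJump_iff, spn_zero, Submodule.mem_bot, hd, h10, true_or, iff_true]; exact h0
    · rw [isJump_iff, ← hdc j, show (∃ l, J l = j + 1) ↔ j + 1 ∈ Set.range J from Iff.rfl, hJ.2 (j + 1), isJump_iff]
      simp [hd]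
  have hex : ∃ m, v ∈ spn d m := by
    refine ⟨M + 1, ?_⟩
    rw [← hdc M]
    exact spn_mono c (by omega : M ≤ M + 2) (htop ▸ Submodule.mem_top)
  have hm0 := Nat.find_spec hex
  have hmin : ∀ m, m < Nat.find hex → v ∉ spn d m := fun m hm => Nat.find_min hex hm
  obtain ⟨μ, hμ⟩ : ∃ μ, Nat.find hex = μ + 2 := by
    rcases h : Nat.find hex with _ | _ | μ
    · rw [h, spn_zero, Submodule.mem_bot] at hm0
      exact absurd (hm0 ▸ zero_mem _) hv
    · rw [h, spn_succ, spn_zero, sup_bot_eq] at hm0
      simp only [hd, h10] at hm0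
      exact absurd hm0 hv
    · exact ⟨μ, rfl⟩
  rw [hμ] at hm0 hmin
  have hexch : ∀ j, v ∈ spn d (j + 1) → v ∉ spn d j → d j ∈ Submodule.span R {v} ⊔ spn d j := by
    intro j h1 h2
    rw [spn, show Set.Iio (j + 1) = insert j (Set.Iio j) by ext; simp, Set.image_insert_eq] at h1
    rw [spn] at h2
    rw [spn, ← Submodule.span_insert]
    exact mem_span_insert_exchange h1 h2
  have hjμ : IsJump R d (μ + 1) := fun h => hmin (μ + 1) (by omega) (by
    have h' : d (μ + 1) ∈ spn d (μ + 1) := h
    rw [spn_succ, sup_eq_right.2 ((Submodule.span_singleton_le_iff_mem _ _).2 h')] at hm0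
    exact hm0)
  obtain ⟨m, hm⟩ := ((hjd (μ + 1)).1 hjμ).resolve_left (Nat.succ_ne_zero μ)
  refine ⟨m, fun j => ?_⟩
  rw [isJump_iff, hc', hagree j, show c (j + 1) = d j from rfl]
  have hiff : d j ∉ Submodule.span R {v} ⊔ spn d j ↔ IsJump R d j ∧ j ≠ μ + 1 := by
    rw [isJump_iff]
    refine ⟨fun h => ⟨fun h' => h (Submodule.mem_sup_right h'), fun e => h (e ▸ hexch (μ + 1) hm0 (hmin _ (by omega)))⟩,
      fun ⟨h1, h2⟩ h3 => ?_⟩
    rcases lt_or_gt_of_ne h2 with hlt | hgt
    · rw [spn, ← Submodule.span_insert] at h3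
      have := mem_span_insert_exchange h3 h1
      refine hmin (j + 1) (by omega) ?_
      rwa [spn, show Set.Iio (j + 1) = insert j (Set.Iio j) by ext; simp, Set.image_insert_eq]
    · rw [sup_eq_right.2 ((Submodule.span_singleton_le_iff_mem _ _).2 (spn_mono d (by omega : μ + 2 ≤ j) hm0))] at h3
      exact h1 h3
  rw [hiff, hjd]
  constructor
  · rintro ⟨rfl | ⟨l, hl⟩, h2⟩
    · exact Or.inl rfl
    · exact Or.inr ⟨l, fun e => h2 (by rw [← hl, e, hm]), hl⟩
  · rintro (rfl | ⟨l, hl, hlj⟩)
    · exact ⟨Or.inl rfl, by omega⟩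
    · exact ⟨Or.inr ⟨l, hlj⟩, fun e => hl (hJ.1.injective (by rw [hlj, e, hm]))⟩

end Jumps

/-! ### Columns of Hasse derivatives -/

variable {k K : Type*} [Field k] [Field K] [Algebra k K] {n : ℕ}

/-- A leading column `u` followed by the columns of Hasse derivatives. -/
noncomputable def col (u : Fin (n + 1) → K) (H : K →ₐ[k] PowerSeries K) (φ : Fin (n + 1) → K) :
    ℕ → Fin (n + 1) → K
  | 0 => u
  | j + 1 => fun i => LocRes.hasseD H j (φ i)

theorem hcol_eq (τ : K →ₐ[k] K) (H : K →ₐ[k] PowerSeries K) (φ : Fin (n + 1) → K) :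
    hcol τ H φ = col (τ ∘ φ) H φ := by
  funext j; cases j <;> rfl

theorem wrMat_eq (τ : K →ₐ[k] K) (H : K →ₐ[k] PowerSeries K) (φ : Fin (n + 1) → K) (I : Fin n → ℕ) :
    wrMat τ H φ I = colMat (col (τ ∘ φ) H φ) I := by
  ext i l
  cases l using Fin.cases <;> rfl

/-- Leibniz: multiplying the functions by `y`. -/
theorem col_smul_tri {s : K} {H : K →ₐ[k] PowerSeries K} (hH : LocRes.IsHasseFamily s H) (u : Fin (n + 1) → K)
    (φ : Fin (n + 1) → K) (z y : K) (j : ℕ) :
    col (z • u) H (y • φ) j - (if j = 0 then z else y) • col u H φ j ∈ spn (col u H φ) j := by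
  cases j with
  | zero => rw [if_pos rfl]; simp [col]
  | succ j =>
    rw [if_neg (Nat.succ_ne_zero j)]
    have h0 : coeff 0 (H y) = y := by
      rw [PowerSeries.coeff_zero_eq_constantCoeff_apply]; exact hH.2 y
    have : col (z • u) H (y • φ) (j + 1) - y • col u H φ (j + 1) =
        ∑ b ∈ Finset.range j, coeff (j - b) (H y) • col u H φ (b + 1) := by
      funext i
      simp only [col, Pi.sub_apply, Pi.smul_apply, Finset.sum_apply, smul_eq_mul, LocRes.hasseD_apply, map_mul]
      rw [mul_comm (H y) (H (φ i)), PowerSeries.coeff_mul,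
        Finset.Nat.sum_antidiagonal_eq_sum_range_succ_mk, Finset.sum_range_succ, Nat.sub_self, h0,
        mul_comm _ y, add_sub_cancel_right]
      exact Finset.sum_congr rfl fun b _ => mul_comm _ _
    rw [this]
    exact sum_mem fun b hb => Submodule.smul_mem _ _ (mem_spn (by have := Finset.mem_range.1 hb; omega))

variable [IsAlgClosed k] (hK : IsFunctionField k K)
include hK

/-- Composition of Taylor expansions. -/
theorem hasse_comp {s t : K} {Hs Ht : K →ₐ[k] PowerSeries K} (hHs : LocRes.IsHasseFamily s Hs)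
    (hHt : LocRes.IsHasseFamily t Ht) (y : K) : Ht y = (Hs y).subst (Ht s - PowerSeries.C s) := by
  have := (separable_of_hasse hK hHs).2
  set w := Ht s - PowerSeries.C s with hw
  have hw0 : constantCoeff w = 0 := by rw [hw, map_sub, hHt.2, PowerSeries.constantCoeff_C, sub_self]
  have hsub := PowerSeries.HasSubst.of_constantCoeff_zero' hw0
  have h : Ht.toRingHom = (PowerSeries.substAlgHom (R := K) hsub).toRingHom.comp Hs.toRingHom := by
    refine hom_ext_sep (k := k) _ _ (s := s) (fun c => ?_) ?_ fun y => ?_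
    · show Ht (algebraMap k K c) = PowerSeries.substAlgHom hsub (Hs (algebraMap k K c))
      rw [AlgHom.commutes, AlgHom.commutes, PowerSeries.algebraMap_apply, PowerSeries.coe_substAlgHom,
        PowerSeries.subst_C]
      rfl
    · show Ht s = PowerSeries.substAlgHom hsub (Hs s)
      rw [hHs.1, PowerSeries.coe_substAlgHom, PowerSeries.subst_add hsub, PowerSeries.subst_C,
        PowerSeries.subst_X hsub, hw]
      exact (add_sub_cancel (PowerSeries.C s) (Ht s)).symm
    · show constantCoeff (Ht y) = constantCoeff (PowerSeries.substAlgHom hsub (Hs y))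
      rw [hHt.2, PowerSeries.coe_substAlgHom, ← PowerSeries.coeff_zero_eq_constantCoeff_apply,
        PowerSeries.coeff_subst' hsub]
      rw [finsum_eq_single _ 0 fun d hd => ?_]
      · simp only [pow_zero, PowerSeries.coeff_zero_eq_constantCoeff_apply, map_one, smul_eq_mul, mul_one, hHs.2]
      · rw [PowerSeries.coeff_zero_eq_constantCoeff_apply (φ := w ^ d), map_pow, hw0, zero_pow hd, smul_zero]
  rw [← PowerSeries.coe_substAlgHom hsub]
  exact congrFun (congrArg DFunLike.coe h) y

/-- Changing the separating element. -/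
theorem col_change_tri {s t : K} {Hs Ht : K →ₐ[k] PowerSeries K} (hHs : LocRes.IsHasseFamily s Hs)
    (hHt : LocRes.IsHasseFamily t Ht) (u φ : Fin (n + 1) → K) (j : ℕ) :
    col u Ht φ j - (if j = 0 then 1 else LocRes.hasseD Ht 1 s ^ (j - 1)) • col u Hs φ j ∈ spn (col u Hs φ) j := by
  cases j with
  | zero => rw [if_pos rfl]; simp [col]
  | succ j =>
    rw [if_neg (Nat.succ_ne_zero j), Nat.add_sub_cancel]
    set w := Ht s - PowerSeries.C s with hw
    have hw0 : constantCoeff w = 0 := by rw [hw, map_sub, hHt.2, PowerSeries.constantCoeff_C, sub_self]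
    have hsub := PowerSeries.HasSubst.of_constantCoeff_zero' hw0
    have hcomp : ∀ y, Ht y = (Hs y).subst w := hasse_comp hK hHs hHt
    have hdvd : PowerSeries.X ∣ w := PowerSeries.X_dvd_iff.2 hw0
    have hzero : ∀ d, j < d → coeff j (w ^ d) = 0 := fun d hd => by
      obtain ⟨v, hv⟩ := hdvd
      rw [hv, mul_pow, PowerSeries.coeff_X_pow_mul', if_neg (by omega)]
    have hdiag : coeff j (w ^ j) = LocRes.hasseD Ht 1 s ^ j := by
      obtain ⟨v, hv⟩ := hdvd
      have hv1 : LocRes.hasseD Ht 1 s = constantCoeff v := by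
        have := congrArg (coeff 1) hv
        rw [hw, map_sub, PowerSeries.coeff_C, if_neg (by omega), sub_zero] at this
        rw [LocRes.hasseD_apply, this, PowerSeries.coeff_succ_X_mul, PowerSeries.coeff_zero_eq_constantCoeff_apply]
      rw [hv, mul_pow, PowerSeries.coeff_X_pow_mul', if_pos le_rfl, Nat.sub_self,
        PowerSeries.coeff_zero_eq_constantCoeff_apply, map_pow, hv1]
    have : col u Ht φ (j + 1) - LocRes.hasseD Ht 1 s ^ j • col u Hs φ (j + 1) =
        ∑ b ∈ Finset.range j, coeff j (w ^ b) • col u Hs φ (b + 1) := by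
      funext i
      simp only [col, Pi.sub_apply, Pi.smul_apply, Finset.sum_apply, smul_eq_mul]
      rw [LocRes.hasseD_apply (H := Ht), hcomp, PowerSeries.coeff_subst' hsub,
        finsum_eq_sum_of_support_subset _ (s := Finset.range (j + 1)) (fun d hd => by
          rw [Finset.coe_range, Set.mem_Iio]
          by_contra hlt
          exact hd (by show _ • _ = 0; rw [hzero d (by omega), smul_zero])),
        Finset.sum_range_succ, hdiag, smul_eq_mul, mul_comm (LocRes.hasseD Ht 1 s ^ j), LocRes.hasseD_apply (H := Hs),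
        add_sub_cancel_right]
      exact Finset.sum_congr rfl fun b _ => by rw [smul_eq_mul, mul_comm]; rfl
    rw [this]
    exact sum_mem fun b hb => Submodule.smul_mem _ _ (mem_spn (by have := Finset.mem_range.1 hb; omega))

/-- The chain rule. -/
theorem hasseD_one_comp {s t : K} {Hs Ht : K →ₐ[k] PowerSeries K} (hHs : LocRes.IsHasseFamily s Hs)
    (hHt : LocRes.IsHasseFamily t Ht) (y : K) :
    LocRes.hasseD Ht 1 y = LocRes.hasseD Hs 1 y * LocRes.hasseD Ht 1 s := by
  set w := Ht s - PowerSeries.C s with hw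
  have hw0 : constantCoeff w = 0 := by rw [hw, map_sub, hHt.2, PowerSeries.constantCoeff_C, sub_self]
  have hsub := PowerSeries.HasSubst.of_constantCoeff_zero' hw0
  have hw1 : coeff 1 w = LocRes.hasseD Ht 1 s := by
    rw [hw, map_sub, PowerSeries.coeff_C, if_neg one_ne_zero, sub_zero, LocRes.hasseD_apply]
  rw [LocRes.hasseD_apply, hasse_comp hK hHs hHt y, ← hw, PowerSeries.coeff_subst' hsub,
    finsum_eq_single _ 1 fun d hd => ?_]
  · rw [pow_one, hw1, smul_eq_mul, LocRes.hasseD_apply (H := Hs)]
  · rcases d with _ | _ | d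
    · rw [pow_zero, PowerSeries.coeff_one, if_neg one_ne_zero, smul_zero]
    · exact absurd rfl hd
    · obtain ⟨v, hv⟩ := PowerSeries.X_dvd_iff.2 hw0
      rw [hv, mul_pow, PowerSeries.coeff_X_pow_mul', if_neg (by omega), smul_zero]

theorem hasseD_one_ne_zero {s t : K} {Hs Ht : K →ₐ[k] PowerSeries K} (hHs : LocRes.IsHasseFamily s Hs)
    (hHt : LocRes.IsHasseFamily t Ht) : LocRes.hasseD Ht 1 s ≠ 0 := by
  intro h
  have h1 := hasseD_one_comp hK hHs hHt t
  rw [h, mul_zero, LocRes.hasseD_apply, hHt.1, map_add, PowerSeries.coeff_C, PowerSeries.coeff_X, if_neg one_ne_zero,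
    if_pos rfl, zero_add] at h1
  exact one_ne_zero h1

end Groth.Agent.FunFld
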