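import Groth.Agent.FunFld.Wr.Consequences

/-! Weierstrass points: fixed points, strong fixed points, canonical orders. -/

namespace Groth.Agent.FunFld

open _root_.FunFld WithZero IsLocalRing Finset Matrix
open scoped LaurentSeries
open PowerSeries (coeff constantCoeff)

variable {k K : Type*} [Field k] [Field K] [Algebra k K] {n : ℕ} {φ : Fin (n + 1) → K}
  [IsAlgClosed k] (hK : IsFunctionField k K) {P : Place k K} {τ : K →ₐ[k] K}
  {s : K} {H : K →ₐ[k] PowerSeries K} {J : Fin n → ℕ}
  {Φ : Place k K → (K →ₐ[k] LaurentSeries k)} (hΦ : ∀ P : Place k K, LocRes.IsExpansionAt P.1 (Φ P))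
include hK hΦ

/-- Reduction to a normalised map in a local parameter. -/
theorem exists_local_data (hH : LocRes.IsHasseFamily s H) (hφ : LinearIndependent k φ)
    (hJ : IsOrders K (col (τ ∘ φ) H φ) J) (P : Place k K) :
    ∃ (y t : K) (Ht : K →ₐ[k] PowerSeries K) (J' : Fin n → ℕ), y ≠ 0 ∧ P.1 t = exp (-1) ∧
      LocRes.IsHasseFamily t Ht ∧ LinearIndependent k (y • φ) ∧ (∀ i, P.1 ((y • φ) i) ≤ 1) ∧
      (∃ i, P.1 ((y • φ) i) = 1) ∧ IsOrders (ResidueField P.O) (hcolAt P Ht (y • φ)) J' ∧
      IsOrders K (col (τ ∘ (y • φ)) Ht (y • φ)) J ∧ wDiv τ Ht Φ t (y • φ) J = wDiv τ H Φ s φ J := by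
  obtain ⟨y, hy, heff, hint⟩ := exists_normalized hφ P
  obtain ⟨t, ht⟩ := exists_val P (-1)
  obtain ⟨Ht, hHt⟩ := exists_hasse_at hK ht
  have hunit := exists_unit_of_eff heff hint
  obtain ⟨J', hJ'⟩ := exists_orders_at hK ht hHt (li_smul hφ hy) hint hunit
  obtain ⟨h1, h2⟩ := wDiv_smul hK hΦ hH hφ hJ hHt hy
  exact ⟨y, t, Ht, J', hy, ht, hHt, li_smul hφ hy, hint, hunit, hJ', h1, h2⟩

/-- A strong fixed point has weight at least `n`. -/
theorem le_wDiv_strong (hn : 0 < n) (hH : LocRes.IsHasseFamily s H) (hφ : LinearIndependent k φ)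
    (hJ : IsOrders K (col (τ ∘ φ) H φ) J) (hP : IsStrongFixedPt τ P) : (n : ℤ) ≤ wDiv τ H Φ s φ J P := by
  obtain ⟨y, t, Ht, J', hy, ht, hHt, hli, hint, hunit, hJ', hJt, hW⟩ := exists_local_data hK hΦ hH hφ hJ P
  rw [← hW]
  have hfix : IsFixedPt τ P := fun z hz => (hP z hz).trans_lt (by rw [← exp_zero, exp_lt_exp]; omega)
  refine le_trans ?_ (wDiv_local hK ht hHt hΦ hfix hli hint hunit hJt hJ').2.1
  have hpos := (exists_adapted hK ht hli hint hHt hJ').1
  have hle := orders_le_of_strong hK ht hP hn hli hint hHt (by rw [hcol_eq]; exact hJt) hJ'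
  calc (n : ℤ) = ∑ _l : Fin n, (1 : ℤ) := by simp
    _ ≤ _ := Finset.sum_le_sum fun l _ => by have := hle l; have := hpos ⟨0, hn⟩; omega

theorem strong_bound (hτφ : ¬ ∃ y : K, ∀ i, τ (φ i) = y * φ i) (hH : LocRes.IsHasseFamily s H)
    (hφ : LinearIndependent k φ) (hJ : IsOrders K (col (τ ∘ φ) H φ) J) :
    0 < n ∧ {P : Place k K | IsStrongFixedPt τ P}.Finite ∧
      (n : ℤ) * ({P : Place k K | IsStrongFixedPt τ P}.ncard : ℤ) ≤ (wDiv τ H Φ s φ J).deg := by
  have hn : 0 < n := Nat.pos_of_ne_zero fun h => by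
    subst h
    exact hτφ ⟨τ (φ 0) / φ 0, fun i => by rw [show i = 0 from Fin.eq_zero i, div_mul_cancel₀ _ (hφ.ne_zero 0)]⟩
  exact ⟨hn, wDiv_card_bound hK hΦ hH hφ hJ _ (by exact_mod_cast hn) fun P hP => le_wDiv_strong hK hΦ hn hH hφ hJ hP⟩

/-- Fixed points of a nontrivial endomorphism are Weierstrass points. -/
theorem wDiv_pos_fixed (hτφ : ¬ ∃ y : K, ∀ i, τ (φ i) = y * φ i) (hP : IsFixedPt τ P)
    (hH : LocRes.IsHasseFamily s H) (hφ : LinearIndependent k φ) (hJ : IsOrders K (col (τ ∘ φ) H φ) J) :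
    0 < wDiv τ H Φ s φ J P := by
  classical
  obtain ⟨y, t, Ht, J', hy, ht, hHt, hli, hint, hunit, hJ', hJt, hW⟩ := exists_local_data hK hΦ hH hφ hJ P
  rw [← hW]
  refine lt_of_lt_of_le ?_ (wDiv_local hK ht hHt hΦ hP hli hint hunit hJt hJ').2.1
  set ψ := y • φ
  obtain ⟨M, hM⟩ := exists_spn_top hK hli hHt ((AlgHom.id k K) ∘ ψ)
  obtain ⟨i, hi⟩ := hunit
  obtain ⟨j, hj⟩ := exists_isOrders (c := col ((AlgHom.id k K) ∘ ψ) Ht ψ) (fun h => hli.ne_zero i (congrFun h i)) hM
  have hjle := orders_le_local hK ht hHt hli hint hj hJ'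
  have hjpos := pos_of_col_eq hj (col_id_one hHt ψ)
  obtain ⟨m, hm⟩ := exists_jump_removed hj (col_id_one hHt ψ) (fun h => hli.ne_zero i (congrFun h i)) hM
    (c' := col (τ ∘ ψ) Ht ψ) (fun _ => rfl) (fun hmem => by
      obtain ⟨a, ha⟩ := Submodule.mem_span_singleton.1 hmem
      refine hτφ ⟨a * y / τ y, fun i => ?_⟩
      have h1 : a * (y * φ i) = τ (y * φ i) := congrFun ha i
      rw [map_mul] at h1
      have hτy : τ y ≠ 0 := fun h => hy (τ.injective (h.trans (map_zero τ).symm))
      rw [div_mul_eq_mul_div, eq_div_iff hτy]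
      linear_combination -h1)
  have hrange : Finset.univ.image J = insert 0 ((Finset.univ.image j).erase (j m)) := by
    ext x
    have hiff : (∃ l, J l = x) ↔ (x = 0 ∨ ∃ l, l ≠ m ∧ j l = x) := (hJt.2 x).trans (hm x)
    simp only [Finset.mem_image, Finset.mem_univ, true_and, Finset.mem_insert, Finset.mem_erase]
    rw [hiff]
    refine or_congr Iff.rfl ⟨fun ⟨l, hl, hlx⟩ => ⟨fun e => hl (hj.1.injective (hlx.trans e)), l, hlx⟩,
      fun ⟨hne, l, hlx⟩ => ⟨l, fun e => hne (by rw [← hlx, e]), hlx⟩⟩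
  have hsum : (∑ l, J l) + j m = ∑ l, j l := by
    calc (∑ l, J l) + j m = (∑ x ∈ Finset.univ.image J, x) + j m := by
          rw [Finset.sum_image fun a _ b _ h => hJt.1.injective h]
      _ = (∑ x ∈ (Finset.univ.image j).erase (j m), x) + j m := by
          rw [hrange, Finset.sum_insert_of_eq_zero_if_notMem (f := fun x => x) (fun _ => rfl)]
      _ = ∑ x ∈ Finset.univ.image j, x := by
          rw [add_comm, Finset.add_sum_erase _ (fun x : ℕ => x) (Finset.mem_image_of_mem j (Finset.mem_univ m))]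
      _ = ∑ l, j l := Finset.sum_image fun a _ b _ h => hj.1.injective h
  have h1 : ∑ l, j l ≤ ∑ l, J' l := Finset.sum_le_sum fun l _ => hjle l
  have := hjpos m
  rw [Finset.sum_sub_distrib, ← Nat.cast_sum, ← Nat.cast_sum]
  omega

omit hΦ

/-- Nonsingular places have first order one. -/
theorem first_order_one (hn : 0 < n) (hφ : LinearIndependent k φ) (heff : (1 : K) ∈ Submodule.span k (Set.range φ))
    (hint : ∀ i, P.1 (φ i) ≤ 1) (hns : IsNonsingularAt φ P) {t : K} (ht : P.1 t = exp (-1))
    {Ht : K →ₐ[k] PowerSeries K} (hHt : LocRes.IsHasseFamily t Ht) {J' : Fin n → ℕ}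
    (hJ' : IsOrders (ResidueField P.O) (hcolAt P Ht φ) J') : J' ⟨0, hn⟩ = 1 := by
  have hpos := (exists_adapted hK ht hφ hint hHt hJ').1
  by_contra hne
  have h2 : ∀ l, 2 ≤ J' l := fun l => by
    have := hJ'.1.monotone (show (⟨0, hn⟩ : Fin n) ≤ l from Fin.mk_le_of_le_val (Nat.zero_le _))
    have := hpos ⟨0, hn⟩
    omega
  have hlt1 : exp (-2 : ℤ) < (1 : WithZero (Multiplicative ℤ)) := by rw [← exp_zero, exp_lt_exp]; omega
  let A : Subalgebra k K :=
    { carrier := {z | ∃ c : k, P.1 (z - algebraMap k K c) ≤ exp (-2)}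
      mul_mem' := by
        rintro z w ⟨c, hc⟩ ⟨c', hc'⟩
        refine ⟨c * c', ?_⟩
        rw [map_mul, show z * w - algebraMap k K c * algebraMap k K c' =
          (z - algebraMap k K c) * w + algebraMap k K c * (w - algebraMap k K c') by ring]
        refine (P.1.map_add _ _).trans (max_le ?_ ?_)
        · rw [map_mul]; exact (mul_le_mul' hc (val_le_of_sub (hc'.trans_lt hlt1))).trans_eq (mul_one _)
        · rw [map_mul]; exact (mul_le_mul' (P.2.1 _) hc').trans_eq (one_mul _)
      add_mem' := by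
        rintro z w ⟨c, hc⟩ ⟨c', hc'⟩
        refine ⟨c + c', ?_⟩
        rw [map_add, add_sub_add_comm]
        exact (P.1.map_add _ _).trans (max_le hc hc')
      algebraMap_mem' := fun c => ⟨c, by simp⟩ }
  have horders := (exists_adapted_orders hK ht hφ hint hHt hJ').2
  obtain ⟨z, hz, hmax, u, hu, w, hw, hw1, hzw⟩ := hns t (val_param_le ht)
  obtain ⟨i1, hi1⟩ := exists_unit_of_eff heff hint
  have hone : P.1 (φ z) = 1 := by
    refine le_antisymm (hint z) ?_
    exact hi1.symm.trans_le (hmax i1)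
  have hle : Algebra.adjoin k (Set.range fun i => φ i / φ z) ≤ A := by
    rw [Algebra.adjoin_le_iff]
    rintro _ ⟨i, rfl⟩
    obtain ⟨c, hc⟩ := exists_const hK P (show P.1 (φ i / φ z) ≤ 1 by rw [map_div₀, hone, div_one]; exact hint i)
    refine ⟨c, ?_⟩
    show P.1 (φ i / φ z - algebraMap k K c) ≤ exp (-2)
    set g := φ i - c • φ z with hg
    have hgmem : g ∈ Submodule.span k (Set.range φ) :=
      sub_mem (Submodule.subset_span ⟨i, rfl⟩) (Submodule.smul_mem _ _ (Submodule.subset_span ⟨z, rfl⟩))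
    have hgval : P.1 (φ i / φ z - algebraMap k K c) = P.1 g := by
      rw [show φ i / φ z - algebraMap k K c = g / φ z by rw [hg, sub_div, Algebra.smul_def, mul_div_cancel_right₀ _ hz],
        map_div₀, hone, div_one]
    rw [hgval] at hc ⊢
    rcases eq_or_ne g 0 with h0 | h0
    · rw [h0, map_zero]; exact zero_le
    have hpos' : 0 < P.ord g := (ord_pos_iff P h0).2 hc
    obtain ⟨m, hm⟩ : ∃ m : ℕ, P.ord g = m := ⟨(P.ord g).toNat, by omega⟩
    rcases (horders m).2 ⟨g, hgmem, by rw [val_eq_exp P h0, hm]⟩ with h | ⟨l, hl⟩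
    · omega
    · rw [val_eq_exp P h0, exp_le_exp, hm]
      have := h2 l
      omega
  obtain ⟨c, hc⟩ := hle hu
  have hu1 : P.1 u = exp (-1) := by rw [← hzw, map_mul, ht, hw1, mul_one]
  have hc0 : c = 0 := const_unique P (hc.trans_lt hlt1) (by rw [map_zero, sub_zero, hu1, ← exp_zero, exp_lt_exp]; omega)
  rw [hc0, map_zero, sub_zero, hu1, exp_le_exp] at hc
  omega

/-- Canonical orders and gaps. -/
theorem canonical_orders {C : Divisor k K} (hC : IsCanonical k K C) (hφ : LinearIndependent k φ)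
    (hspan : Submodule.span k (Set.range φ) = L C) {y : K} (hy : y ≠ 0)
    (heff : (1 : K) ∈ Submodule.span k (Set.range (y • φ))) (hint : ∀ i, P.1 ((y • φ) i) ≤ 1) {t : K}
    (ht : P.1 t = exp (-1)) {Ht : K →ₐ[k] PowerSeries K} (hHt : LocRes.IsHasseFamily t Ht) {j : ℕ} (hj : 1 ≤ j) :
    IsJump (ResidueField P.O) (hcolAt P Ht (y • φ)) (j + 1) ↔
      L (Finsupp.single P ((j : ℤ) + 1)) = L (Finsupp.single P (j : ℤ)) := by
  obtain ⟨hgC, hdC⟩ := ell_canonical hK hC
  have hgn : genus k K = n + 1 := by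
    rw [← hgC, ell, ← hspan, finrank_span_eq_card hφ, Fintype.card_fin]
  have hP1 := deg_eq_one hK P
  have hell : ∀ m : ℕ, (ell (C - Finsupp.single P (m : ℤ)) : ℤ) =
      genus k K - 1 - m + ell (Finsupp.single P (m : ℤ)) := fun m => by
    have := riemann_roch hK hC (C - Finsupp.single P (m : ℤ))
    rw [deg_sub, deg_single, hP1, hdC, sub_sub_cancel] at this
    push_cast at this
    linarith
  have hell1 : ell (Finsupp.single P ((1 : ℕ) : ℤ)) = 1 := by
    have h1 : (1 : ℕ) ≤ ell (Finsupp.single P ((1 : ℕ) : ℤ)) := by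
      rw [← ell_zero hK]; exact ell_mono hK (by simp)
    refine le_antisymm ?_ h1
    by_contra hlt
    have hne : ¬ L (Finsupp.single P ((1 : ℕ) : ℤ)) ≤ L (0 : Divisor k K) := fun h => by
      have := L_finite hK (0 : Divisor k K)
      have h2 : ell (Finsupp.single P ((1 : ℕ) : ℤ)) ≤ ell (0 : Divisor k K) := Submodule.finrank_mono h
      rw [ell_zero hK] at h2
      omega
    obtain ⟨x, hx, hx'⟩ := SetLike.not_le_iff_exists.1 hne
    have hx0 : x ≠ 0 := fun e => hx' (e ▸ zero_mem _)
    have hR : ∀ R, R ≠ P → 0 ≤ R.ord x := fun R hR => by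
      have := hx R
      rw [le_exp_iff R hx0, Finsupp.single_eq_of_ne hR] at this; omega
    have hord : P.ord x = -1 := by
      have h3 := hx P
      rw [le_exp_iff P hx0, Finsupp.single_eq_same] at h3
      by_contra hne'
      refine hx' fun R => ?_
      rw [le_exp_iff R hx0, Finsupp.coe_zero, Pi.zero_apply]
      rcases eq_or_ne R P with rfl | hne2
      · push_cast at h3; omega
      · have := hR R hne2; omega
    have := (rational_props hK (adjoin_eq_top_of_simple_pole hK hP1 hord hR)).2.1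
    omega
  -- functions of given order in `L C`
  have hex : ∀ m : ℕ, (∃ g ∈ L C, g ≠ 0 ∧ P.ord g = (m : ℤ) - C P) ↔
      ell (Finsupp.single P ((m : ℤ) + 1)) = ell (Finsupp.single P (m : ℤ)) := by
    intro m
    have hle : C - Finsupp.single P ((m : ℤ) + 1) ≤ C - Finsupp.single P (m : ℤ) :=
      sub_le_sub_left (Finsupp.single_mono (by omega)) C
    have key : (∃ g ∈ L C, g ≠ 0 ∧ P.ord g = (m : ℤ) - C P) ↔
        ¬ L (C - Finsupp.single P (m : ℤ)) ≤ L (C - Finsupp.single P ((m : ℤ) + 1)) := by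
      constructor
      · rintro ⟨g, hg, hg0, hord⟩ hall
        have h1 : g ∈ L (C - Finsupp.single P (m : ℤ)) := fun R => by
          rw [le_exp_iff R hg0, Finsupp.sub_apply]
          rcases eq_or_ne R P with rfl | hne
          · rw [Finsupp.single_eq_same, hord]; omega
          · have := hg R
            rw [le_exp_iff R hg0] at this
            rw [Finsupp.single_eq_of_ne hne]; omega
        have := hall h1 P
        rw [le_exp_iff P hg0, Finsupp.sub_apply, Finsupp.single_eq_same, hord] at this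
        omega
      · intro hnle
        obtain ⟨g, hg, hg'⟩ := SetLike.not_le_iff_exists.1 hnle
        have hg0 : g ≠ 0 := fun e => hg' (e ▸ zero_mem _)
        refine ⟨g, L_mono (sub_le_self C (Finsupp.single_nonneg.2 (by omega))) hg, hg0, ?_⟩
        have h1 := hg P
        rw [le_exp_iff P hg0, Finsupp.sub_apply, Finsupp.single_eq_same] at h1
        by_contra hne
        refine hg' fun R => ?_
        have h2 := hg R
        rw [le_exp_iff R hg0, Finsupp.sub_apply] at h2 ⊢
        rcases eq_or_ne R P with rfl | hR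
        · rw [Finsupp.single_eq_same]; omega
        · rw [Finsupp.single_eq_of_ne hR] at h2 ⊢; omega
    rw [key]
    have h1 := hell m
    have h2 := hell (m + 1)
    push_cast at h1 h2
    have hstep := ell_add_single_le hK (Finsupp.single P (m : ℤ)) P
    rw [← Finsupp.single_add] at hstep
    constructor
    · intro hnle
      have h3 : ell (C - Finsupp.single P ((m : ℤ) + 1)) < ell (C - Finsupp.single P (m : ℤ)) := by
        have := L_finite hK (C - Finsupp.single P (m : ℤ))
        exact Submodule.finrank_lt_finrank_of_lt (lt_of_le_not_ge (L_mono hle) hnle)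
      have hsle : (Finsupp.single P (m : ℤ) : Divisor k K) ≤ Finsupp.single P ((m : ℤ) + 1) :=
        Finsupp.single_mono (show (m : ℤ) ≤ (m : ℤ) + 1 by omega)
      have h4 := ell_mono hK hsle
      omega
    · intro h hall
      have := L_finite hK (C - Finsupp.single P ((m : ℤ) + 1))
      have h3 : ell (C - Finsupp.single P (m : ℤ)) ≤ ell (C - Finsupp.single P ((m : ℤ) + 1)) :=
        Submodule.finrank_mono hall
      omega
  -- base point freeness fixes the normalising factor
  have hymem : ∀ g ∈ L C, y * g ∈ Submodule.span k (Set.range (y • φ)) := fun g hg => by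
    rw [← hspan] at hg
    obtain ⟨c, rfl⟩ := (Submodule.mem_span_range_iff_exists_fun k).1 hg
    rw [Finset.mul_sum]
    exact sum_mem fun i _ => by rw [mul_smul_comm]; exact Submodule.smul_mem _ _ (Submodule.subset_span ⟨i, rfl⟩)
  have hmemy : ∀ f ∈ Submodule.span k (Set.range (y • φ)), ∃ g ∈ L C, f = y * g := fun f hf => by
    obtain ⟨c, rfl⟩ := (Submodule.mem_span_range_iff_exists_fun k).1 hf
    refine ⟨∑ i, c i • φ i, hspan ▸ sum_mem fun i _ => Submodule.smul_mem _ _ (Submodule.subset_span ⟨i, rfl⟩), ?_⟩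
    rw [Finset.mul_sum]
    exact Finset.sum_congr rfl fun i _ => by rw [mul_smul_comm]; rfl
  have hspanint : ∀ f ∈ Submodule.span k (Set.range (y • φ)), P.1 f ≤ 1 := fun f hf =>
    (Submodule.span_le (p := intK P)).2 (by rintro _ ⟨i, rfl⟩; exact hint i) hf
  have hyC : P.ord y = C P := by
    obtain ⟨g, hg, hg0, hord⟩ := (hex 0).2 (by
      rw [Nat.cast_zero, Finsupp.single_zero, ell_zero hK, zero_add]; exact hell1)
    have h1 := hspanint _ (hymem g hg)
    rw [← ord_nonneg_iff P (mul_ne_zero hy hg0), ord_mul P hy hg0, hord] at h1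
    obtain ⟨g', hg', he⟩ := hmemy 1 heff
    have hg'0 : g' ≠ 0 := fun e => by rw [e, mul_zero] at he; exact one_ne_zero he
    have h2 := hg' P
    rw [le_exp_iff P hg'0] at h2
    have h3 : P.ord (y * g') = 0 := by rw [← he]; simpa using ord_algebraMap P (1 : k)
    rw [ord_mul P hy hg'0] at h3
    omega
  obtain ⟨J', hJ'⟩ := exists_orders_at hK ht hHt (li_smul hφ hy) hint (exists_unit_of_eff heff hint)
  have horders := (exists_adapted_orders hK ht (li_smul hφ hy) hint hHt hJ').2 j
  rw [← hJ'.2 j, L_eq_iff hK (Finsupp.single_mono (by omega)), ← hex j]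
  constructor
  · intro h
    obtain ⟨f, hf, hfv⟩ := horders.1 (Or.inr h)
    obtain ⟨g, hg, rfl⟩ := hmemy f hf
    have hg0 : g ≠ 0 := right_ne_zero_of_mul (ne_zero_of_val P hfv)
    refine ⟨g, hg, hg0, ?_⟩
    have := ord_eq_of_val P hfv
    rw [ord_mul P hy hg0] at this
    omega
  · rintro ⟨g, hg, hg0, hord⟩
    refine (horders.2 ⟨y * g, hymem g hg, ?_⟩).resolve_left (by omega)
    rw [val_eq_exp P (mul_ne_zero hy hg0), ord_mul P hy hg0, hord]
    congr 1; omega

/-- Classical order sequences. -/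
theorem classical_orders (hH : LocRes.IsHasseFamily s H) (hφ : LinearIndependent k φ)
    (hchar : ringChar k = 0 ∨ (mapDiv k φ).deg < ringChar k) :
    IsOrders K (col ((AlgHom.id k K) ∘ φ) H φ) (fun l : Fin n => (l : ℕ) + 1) ∧
      ∀ (τ : K →ₐ[k] K) (P : Place k K), IsStrongFixedPt τ P → (¬ ∃ y : K, ∀ i, τ (φ i) = y * φ i) →
        IsOrders K (col (τ ∘ φ) H φ) (fun l : Fin n => (l : ℕ)) := by
  -- naturals up to the degree are distinct in `k`
  have hcast : ∀ {a b : ℕ}, (a : ℤ) ≤ (mapDiv k φ).deg → (b : ℤ) ≤ (mapDiv k φ).deg → (a : k) = b → a = b := by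
    intro a b ha hb h
    have : CharP k (ringChar k) := ringChar.charP k
    rcases hchar with h0 | hp
    · rw [h0] at this
      have := CharP.charP_to_charZero k
      exact Nat.cast_injective h
    · exact CharP.natCast_injOn_Iio k (ringChar k) (Set.mem_Iio.2 (by omega)) (Set.mem_Iio.2 (by omega)) h
  have hfact : ∀ a : ℕ, (a : ℤ) ≤ (mapDiv k φ).deg → (a.factorial : k) ≠ 0 := by
    intro a ha
    induction a with
    | zero => simp
    | succ a ih =>
      rw [Nat.factorial_succ, Nat.cast_mul]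
      refine mul_ne_zero (fun h => ?_) (ih (by omega))
      have := hcast (a := a + 1) (b := 0) ha (by omega) (by simpa using h)
      omega
  -- main step
  have main : ∀ (τ : K →ₐ[k] K) (P : Place k K) (I : Fin n → ℕ), StrictMono I → IsFixedPt τ P →
      ((∀ l, 0 < I l) ∨ IsStrongFixedPt τ P) →
      (∀ J' : Fin n → ℕ, StrictMono J' → (∀ l, 0 < J' l) → (∀ l, (J' l : ℤ) ≤ (mapDiv k φ).deg) →
        (binomMat k J' I).det ≠ 0) →
      ∀ J : Fin n → ℕ, IsOrders K (col (τ ∘ φ) H φ) J → ∀ l, J l ≤ I l := by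
    intro τ P I hI hfix hcase hdet J hJ
    obtain ⟨y, hy, heff, hint⟩ := exists_normalized hφ P
    obtain ⟨t, ht⟩ := exists_val P (-1)
    obtain ⟨Ht, hHt⟩ := exists_hasse_at hK ht
    have hli := li_smul hφ hy
    have hunit := exists_unit_of_eff heff hint
    obtain ⟨J', hJ'⟩ := exists_orders_at hK ht hHt hli hint hunit
    have hpos := (exists_adapted hK ht hli hint hHt hJ').1
    have hb := hdet J' hJ'.1 hpos fun l => by
      rw [← deg_mapDiv_smul hK hφ hy]; exact orders_le_deg hK hli hint hunit ht hHt hJ' l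
    have hw := ((val_det_wrMat hK ht (I := I) hfix hli hint hHt hJ').2 hcase).2 hb
    have hJt : IsOrders K (col (τ ∘ (y • φ)) Ht (y • φ)) J := by
      rw [tau_smul]
      exact (isOrders_smul hHt _ _ ((map_ne_zero_iff _ τ.injective).2 hy) hy J).2
        ((isOrders_change hK hH hHt _ _ J).2 hJ)
    intro l
    refine IsOrders.le_of_det hJt hI (fun h => ?_) l
    rw [wrMat_eq, h, map_zero] at hw
    exact exp_ne_zero hw.symm
  have hexJ : ∀ τ : K →ₐ[k] K, ∃ J : Fin n → ℕ, IsOrders K (col (τ ∘ φ) H φ) J := fun τ => by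
    obtain ⟨M, hM⟩ := exists_spn_top hK hφ hH (τ ∘ φ)
    exact exists_isOrders (fun h => (li_tau hφ τ).ne_zero 0 (congrFun h 0)) hM
  have hval : ∀ (J : Fin n → ℕ), StrictMono J → ∀ l : Fin n, (l : ℕ) ≤ J l := fun J hJ => by
    intro ⟨l, hl⟩
    induction l with
    | zero => exact Nat.zero_le _
    | succ l ih =>
      have h1 := hJ (show (⟨l, by omega⟩ : Fin n) < ⟨l + 1, hl⟩ from Nat.lt_succ_self l)
      have h2 := ih (by omega)
      simp only at h2 ⊢
      omega
  constructor
  · obtain ⟨J, hJ⟩ := hexJ (AlgHom.id k K)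
    obtain ⟨P⟩ := exists_place_any hK
    have hle := main (AlgHom.id k K) P (fun l => (l : ℕ) + 1) (fun a b h => by simpa using h) (fun z hz => hz)
      (Or.inl fun l => by omega) (fun J' hJ'm hJ'pos hJ'le => by
        rw [← det_bincol (ρ := fun _ => (1 : k)) rfl (Or.inl fun l => by omega),
          show colMat (bincol (fun _ => (1 : k)) (jw J')) (fun l : Fin n => (l : ℕ) + 1) =
            Matrix.of fun r j : Fin (n + 1) => ((jw J' r).choose (j : ℕ) : k) from ?_]
        · have hdeg : ∀ r, (jw J' r : ℤ) ≤ (mapDiv k φ).deg := fun r => by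
            cases r using Fin.cases with
            | zero =>
              rcases Nat.eq_zero_or_pos n with rfl | hn
              · exact le_trans (by simp [jw]) (deg_nonneg_mapDiv hK hφ)
              · exact le_trans (by simp [jw]) (hJ'le ⟨0, hn⟩)
            | succ l => exact hJ'le l
          refine det_choose_ne_zero _ (fun a b h => (jw_strictMono hJ'm hJ'pos).injective (hcast (hdeg a) (hdeg b) h))
            fun i hi => hfact i ?_
          have h1 : (i : ℤ) ≤ jw J' (Fin.last n) := by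
            rcases Nat.eq_zero_or_pos n with rfl | hn
            · omega
            · rw [show Fin.last n = Fin.succ ⟨n - 1, by omega⟩ from Fin.ext (by simp; omega), jw_succ]
              have := hval J' hJ'm ⟨n - 1, by omega⟩
              have := hJ'pos ⟨0, hn⟩
              have h0 : (n : ℕ) ≤ J' ⟨n - 1, by omega⟩ := by
                have := hval (fun l => J' l - 1) (fun a b h => by
                  have := hJ'm h; have := hJ'pos a; simp only; omega) ⟨n - 1, by omega⟩
                have := hJ'pos ⟨n - 1, by omega⟩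
                simp only at *
                omega
              omega
          exact h1.trans (hdeg _)
        · ext r c
          cases c using Fin.cases with
          | zero => simp [colMat, eIdx_zero, bincol]
          | succ l => simp [colMat, eIdx_succ, bincol])
      J hJ
    have hpos := pos_of_col_eq hJ (col_id_one hH φ)
    have e : J = fun l : Fin n => (l : ℕ) + 1 := funext fun l => le_antisymm (hle l) (by
      have := hval (fun l => J l - 1) (fun a b h => by
        have := hJ.1 h; have := hpos a; simp only; omega) l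
      have := hpos l
      omega)
    exact e ▸ hJ
  · intro τ P hP _
    obtain ⟨J, hJ⟩ := hexJ τ
    have hfix : IsFixedPt τ P := fun z hz => (hP z hz).trans_lt (by rw [← exp_zero, exp_lt_exp]; omega)
    have hle := main τ P (fun l => (l : ℕ)) (fun a b h => h) hfix (Or.inr hP)
      (fun J' hJ'm hJ'pos hJ'le => by
        refine det_choose_ne_zero J' (fun a b h => hJ'm.injective (hcast (hJ'le a) (hJ'le b) h)) fun i hi => hfact i ?_
        have := hval J' hJ'm ⟨i, hi⟩
        have := hJ'le ⟨i, hi⟩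
        simp only at *
        omega)
      J hJ
    have e : J = fun l : Fin n => (l : ℕ) := funext fun l => le_antisymm (hle l) (hval J hJ.1 l)
    exact e ▸ hJ
where
  deg_nonneg_mapDiv {k K : Type _} [Field k] [Field K] [Algebra k K] [IsAlgClosed k] (hK : IsFunctionField k K)
      {n : ℕ} {φ : Fin (n + 1) → K} (hφ : LinearIndependent k φ) : 0 ≤ (mapDiv k φ).deg := by
    rw [← deg_mapDiv_smul hK hφ (inv_ne_zero (hφ.ne_zero 0))]
    refine deg_nonneg fun P => ?_
    have := val_le_exp_mapDiv hK ((φ 0)⁻¹ • φ) P 0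
    rwa [Pi.smul_apply, smul_eq_mul, inv_mul_cancel₀ (hφ.ne_zero 0), map_one, ← exp_zero, exp_le_exp] at this

end Groth.Agent.FunFld
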