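import Groth.Agent.FunFld.Wr.Points

/-! The number of strong fixed points of an endomorphism. -/

namespace Groth.Agent.FunFld

open _root_.FunFld WithZero Finset

variable {k K : Type*} [Field k] [Field K] [Algebra k K] [IsAlgClosed k] (hK : IsFunctionField k K)
include hK

theorem exists_exact_pole (Q : Place k K) {m : ℕ} (hm : 1 ≤ m) (h2 : 2 * genus k K ≤ m) :
    ∃ x : K, x ∈ L (Finsupp.single Q (m : ℤ)) ∧ Module.finrank (IntermediateField.adjoin k ({x} : Set K)) K = m := by
  have hQ := deg_eq_one hK Q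
  have h3 := ell_eq_of_deg_ge hK (D := Finsupp.single Q (m : ℤ)) (by rw [deg_single, hQ]; push_cast; omega)
  have h4 := ell_eq_of_deg_ge hK (D := Finsupp.single Q ((m - 1 : ℕ) : ℤ)) (by rw [deg_single, hQ]; push_cast; omega)
  rw [deg_single, hQ] at h3 h4
  push_cast at h3 h4
  have hne : ¬ L (Finsupp.single Q (m : ℤ)) ≤ L (Finsupp.single Q ((m - 1 : ℕ) : ℤ)) := fun h => by
    have := L_finite hK (Finsupp.single Q ((m - 1 : ℕ) : ℤ))
    have h5 : ell (Finsupp.single Q (m : ℤ)) ≤ ell (Finsupp.single Q ((m - 1 : ℕ) : ℤ)) := Submodule.finrank_mono h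
    omega
  obtain ⟨x, hx, hx'⟩ := SetLike.not_le_iff_exists.1 hne
  have hx0 : x ≠ 0 := fun e => hx' (e ▸ zero_mem _)
  have hoff : ∀ R, R ≠ Q → 0 ≤ R.ord x := fun R hR => by
    have := hx R
    rw [le_exp_iff R hx0, Finsupp.single_eq_of_ne hR] at this
    omega
  have hord : Q.ord x = -(m : ℤ) := by
    have h5 := hx Q
    rw [le_exp_iff Q hx0, Finsupp.single_eq_same] at h5
    by_contra hne'
    refine hx' fun R => ?_
    rw [le_exp_iff R hx0]
    rcases eq_or_ne R Q with rfl | hR
    · rw [Finsupp.single_eq_same]; omega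
    · rw [Finsupp.single_eq_of_ne hR]; have := hoff R hR; omega
  refine ⟨x, hx, ?_⟩
  have hp : poles k x = Finsupp.single Q (m : ℤ) := Finsupp.ext fun R => by
    rw [poles_apply hK]
    rcases eq_or_ne R Q with rfl | hR
    · rw [Finsupp.single_eq_same, hord]; omega
    · rw [Finsupp.single_eq_of_ne hR]; have := hoff R hR; omega
  have := deg_poles hK (x := x) (mem_range_of_ord hK (P := Q) (by omega))
  rw [hp, deg_single, hQ] at this
  omega

/-- Functions with one pole of order at most `2g + 1` generate. -/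
theorem adjoin_L_single_eq_top (Q : Place k K) {N : ℕ} (hN : 2 * genus k K + 1 ≤ N) :
    IntermediateField.adjoin k (L (Finsupp.single Q (N : ℤ)) : Set K) = ⊤ := by
  set F := IntermediateField.adjoin k (L (Finsupp.single Q (N : ℤ)) : Set K)
  have hdvd : ∀ m : ℕ, 1 ≤ m → 2 * genus k K ≤ m → m ≤ N → Module.finrank F K ∣ m := by
    intro m h1 h2 h3
    obtain ⟨x, hx, hr⟩ := exists_exact_pole hK Q h1 h2
    rw [← hr]
    refine IntermediateField.finrank_dvd_of_le_left ?_
    rw [IntermediateField.adjoin_simple_le_iff]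
    exact IntermediateField.subset_adjoin k _ (L_mono (Finsupp.single_mono (by omega)) hx)
  have h1 : Module.finrank F K = 1 := by
    have ha := hdvd (2 * genus k K + 1) (by omega) (by omega) hN
    rcases Nat.eq_zero_or_pos (genus k K) with hg | hg
    · rw [hg] at ha; exact Nat.dvd_one.1 ha
    · have hb := hdvd (2 * genus k K) (by omega) le_rfl (by omega)
      exact Nat.dvd_one.1 ((Nat.dvd_add_right hb).1 ha)
  rw [eq_top_iff]
  intro z _
  obtain ⟨c, hc⟩ := (finrank_eq_one_iff_of_nonzero' (K := F) (1 : K) one_ne_zero).1 h1 z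
  rw [← hc]
  exact mul_mem c.2 (one_mem _)

theorem not_mult_of_span (Q : Place k K) {N m : ℕ} (hN : 2 * genus k K + 1 ≤ N) {φ : Fin (m + 1) → K}
    (hspan : Submodule.span k (Set.range φ) = L (Finsupp.single Q (N : ℤ))) {τ : K →ₐ[k] K}
    (hτ : τ ≠ AlgHom.id k K) : ¬ ∃ y : K, ∀ i, τ (φ i) = y * φ i := by
  rintro ⟨y, hy⟩
  have hall : ∀ z ∈ L (Finsupp.single Q (N : ℤ)), τ z = y * z := fun z hz => by
    rw [← hspan] at hz
    obtain ⟨c, rfl⟩ := (Submodule.mem_span_range_iff_exists_fun k).1 hz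
    rw [map_sum, Finset.mul_sum]
    exact Finset.sum_congr rfl fun i _ => by rw [map_smul, hy, mul_smul_comm]
  have hy1 : y = 1 := by
    have := hall 1 fun R => by
      rw [map_one, ← exp_zero, exp_le_exp]
      rcases eq_or_ne R Q with rfl | hR
      · rw [Finsupp.single_eq_same]; positivity
      · rw [Finsupp.single_eq_of_ne hR]
    rw [map_one, mul_one] at this
    exact this.symm
  refine hτ (AlgHom.ext fun x => ?_)
  have hx : x ∈ IntermediateField.adjoin k (L (Finsupp.single Q (N : ℤ)) : Set K) :=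
    adjoin_L_single_eq_top hK Q hN ▸ IntermediateField.mem_top
  induction hx using IntermediateField.adjoin_induction with
  | mem x hx => rw [hall x hx, hy1, one_mul]; rfl
  | algebraMap x => simp
  | add x y _ _ hx hy => simp [hx, hy]
  | inv x _ hx => simp [hx]
  | mul x y _ _ hx hy => simp [hx, hy]

omit hK in
theorem strictMono_gap {n : ℕ} {J : Fin n → ℕ} (hJ : StrictMono J) :
    ∀ (d : ℕ) (l l' : Fin n), (l : ℕ) + d = l' → J l + d ≤ J l' := by
  intro d
  induction d with
  | zero => intro l l' h; rw [Fin.ext (by omega : (l : ℕ) = l')]; rfl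
  | succ d ih =>
    intro l l' h
    have h1 := ih l ⟨l' - 1, by omega⟩ (by simp only; omega)
    have h2 := hJ (show (⟨l' - 1, by omega⟩ : Fin n) < l' from Fin.lt_def.2 (by simp only; omega))
    omega

/-- The bound on the number of strong fixed points. -/
theorem strong_fixed_bound (τ : K →ₐ[k] K) {n : ℕ} (hn : genus k K < n) :
    {P : Place k K | IsStrongFixedPt τ P}.Finite ∧
    (n : ℤ) * ({P : Place k K | IsStrongFixedPt τ P}.ncard : ℤ) ≤
      n + n * Module.finrank τ.fieldRange K + (n * n + Module.finrank τ.fieldRange K) * genus k K +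
        2 * (genus k K : ℤ) ^ 2 * ((genus k K : ℤ) - 1) := by
  classical
  set g := genus k K with hg
  set d := Module.finrank τ.fieldRange K
  set S := {P : Place k K | IsStrongFixedPt τ P}
  have hrhs : 0 ≤ (n : ℤ) + n * d + (n * n + d) * g + 2 * (g : ℤ) ^ 2 * ((g : ℤ) - 1) := by
    rcases Nat.eq_zero_or_pos g with h | h
    · rw [h]; push_cast; positivity
    · have : (1 : ℤ) ≤ g := by exact_mod_cast h
      have : (0 : ℤ) ≤ (g : ℤ) - 1 := by omega
      positivity
  by_cases hτ : τ = AlgHom.id k K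
  · have hS : S = ∅ := Set.eq_empty_of_forall_notMem fun P hP => by
      obtain ⟨t, ht⟩ := exists_val P (-1)
      have := (hP : IsStrongFixedPt τ P) t (by rw [ht, ← exp_zero, exp_lt_exp]; omega)
      rw [hτ, AlgHom.id_apply, ht, exp_le_exp] at this
      omega
    rw [hS]
    exact ⟨Set.finite_empty, by simpa using hrhs⟩
  obtain ⟨Φ, hΦ⟩ : ∃ Φ : Place k K → (K →ₐ[k] LaurentSeries k), ∀ P : Place k K,
      LocRes.IsExpansionAt P.1 (Φ P) := by
    choose t ht using fun P : Place k K => exists_val P (-1)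
    exact ⟨fun P => expand hK (ht P), fun P => isExpansionAt_expand hK (ht P)⟩
  have setup : ∀ Q : Place k K, ∃ (φ : Fin (n + 1) → K), LinearIndependent k φ ∧
      Submodule.span k (Set.range φ) = L (Finsupp.single Q ((n + g : ℕ) : ℤ)) ∧
      ¬ ∃ y : K, ∀ i, τ (φ i) = y * φ i := by
    intro Q
    set D : Divisor k K := Finsupp.single Q ((n + g : ℕ) : ℤ)
    have hdeg : D.deg = (n + g : ℕ) := by rw [deg_single, deg_eq_one hK, Nat.cast_one, mul_one]
    have hell := ell_eq_of_deg_ge hK (D := D) (by rw [hdeg]; push_cast; omega)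
    rw [hdeg] at hell
    have := L_finite hK D
    have hfr : Module.finrank k (L D) = n + 1 := by
      have : ((ell D : ℕ) : ℤ) = n + 1 := by push_cast at hell ⊢; omega
      have h' : ell D = n + 1 := by exact_mod_cast this
      exact h'
    let b := Module.finBasisOfFinrankEq k (L D) hfr
    have hli : LinearIndependent k fun i => (b i : K) :=
      b.linearIndependent.map' (L D).subtype (L D).ker_subtype
    have hsp : Submodule.span k (Set.range fun i => (b i : K)) = L D := by
      rw [show Set.range (fun i => (b i : K)) = (L D).subtype '' Set.range b from Set.range_comp _ _,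
        ← Submodule.map_span, b.span_eq, Submodule.map_subtype_top]
    exact ⟨_, hli, hsp, not_mult_of_span hK Q (by omega) hsp hτ⟩
  obtain ⟨P0⟩ := exists_place_any hK
  obtain ⟨t0, ht0⟩ := exists_val P0 (-1)
  obtain ⟨H, hH⟩ := exists_hasse_at hK ht0
  have hexJ : ∀ {φ : Fin (n + 1) → K}, LinearIndependent k φ → ∃ J : Fin n → ℕ, IsOrders K (col (τ ∘ φ) H φ) J :=
    fun {φ} hφ => by
      obtain ⟨M, hM⟩ := exists_spn_top hK hφ hH (τ ∘ φ)
      exact exists_isOrders (fun h => (li_tau hφ τ).ne_zero 0 (congrFun h 0)) hM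
  have hfin : S.Finite := by
    obtain ⟨φ, hφ, -, hτφ⟩ := setup P0
    obtain ⟨J, hJ⟩ := hexJ hφ
    exact (strong_bound hK hΦ hτφ hH hφ hJ).2.1
  refine ⟨hfin, ?_⟩
  rcases S.eq_empty_or_nonempty with hS | ⟨P, hP⟩
  · rw [hS]; simpa using hrhs
  obtain ⟨Q, hQ⟩ := exists_place_avoid hK hfin.toFinset
  have hPQ : P ≠ Q := fun e => hQ (hfin.mem_toFinset.2 (e ▸ hP))
  obtain ⟨φ, hφ, hspan, hτφ⟩ := setup Q
  obtain ⟨J, hJ⟩ := hexJ hφ
  obtain ⟨hn0, -, hbound⟩ := strong_bound hK hΦ hτφ hH hφ hJ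
  rw [wDiv_deg hK hΦ hH hφ] at hbound
  set D : Divisor k K := Finsupp.single Q ((n + g : ℕ) : ℤ)
  have hdeg : D.deg = (n + g : ℕ) := by rw [deg_single, deg_eq_one hK, Nat.cast_one, mul_one]
  have hmemD : ∀ i, φ i ∈ L D := fun i => hspan ▸ Submodule.subset_span ⟨i, rfl⟩
  have hmd : (mapDiv k φ).deg ≤ (n + g : ℕ) := by
    rw [← hdeg]
    have := deg_nonneg (D := D - mapDiv k φ) (sub_nonneg.2 fun R => mapDiv_le hK hφ.ne_zero R fun i => hmemD i R)
    rw [deg_sub] at this
    linarith
  -- orders at the strong fixed point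
  have hDP : D P = 0 := Finsupp.single_eq_of_ne hPQ
  have hint : ∀ i, P.1 (φ i) ≤ 1 := fun i => (hmemD i P).trans_eq (by rw [hDP, exp_zero])
  have hunit : ∃ i, P.1 (φ i) = 1 := exists_unit_of_eff (by
    rw [hspan]
    intro R
    rw [map_one, ← exp_zero, exp_le_exp]
    exact (Finsupp.single_nonneg.2 (by positivity) : 0 ≤ D) R) hint
  obtain ⟨t, ht⟩ := exists_val P (-1)
  obtain ⟨Ht, hHt⟩ := exists_hasse_at hK ht
  obtain ⟨J', hJ'⟩ := exists_orders_at hK ht hHt hφ hint hunit
  have hJt := (isOrders_change hK hH hHt _ _ J).2 hJ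
  have hle := orders_le_of_strong hK ht hP hn0 hφ hint hHt (by rw [hcol_eq]; exact hJt) hJ'
  have hpos := (exists_adapted hK ht hφ hint hHt hJ').1
  have hatt : ∀ j : ℕ, 1 ≤ j → j + g ≤ n → j ∈ Set.range J' := by
    intro j hj1 hj2
    have hP1 := deg_eq_one hK P
    have h1 : ∀ e : ℕ, e + g ≤ n + 1 → (ell (D - Finsupp.single P (e : ℤ)) : ℤ) = n + 1 - e := fun e he => by
      rw [ell_eq_of_deg_ge hK, deg_sub, hdeg, deg_single, hP1]
      · push_cast; omega
      · rw [deg_sub, hdeg, deg_single, hP1]; push_cast; omega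
    have h2 := h1 j (by omega)
    have h3 := h1 (j + 1) (by omega)
    have hne : ¬ L (D - Finsupp.single P (j : ℤ)) ≤ L (D - Finsupp.single P ((j + 1 : ℕ) : ℤ)) := fun h => by
      have := L_finite hK (D - Finsupp.single P ((j + 1 : ℕ) : ℤ))
      have h4 : ell (D - Finsupp.single P (j : ℤ)) ≤ ell (D - Finsupp.single P ((j + 1 : ℕ) : ℤ)) :=
        Submodule.finrank_mono h
      omega
    obtain ⟨f, hf, hf'⟩ := SetLike.not_le_iff_exists.1 hne
    have hf0 : f ≠ 0 := fun e => hf' (e ▸ zero_mem _)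
    have hord : P.ord f = j := by
      have h5 := hf P
      rw [le_exp_iff P hf0, Finsupp.sub_apply, hDP, Finsupp.single_eq_same] at h5
      by_contra hne'
      refine hf' fun R => ?_
      rw [le_exp_iff R hf0, Finsupp.sub_apply]
      rcases eq_or_ne R P with rfl | hR
      · rw [Finsupp.single_eq_same, hDP]; push_cast; omega
      · have h6 := hf R
        rw [le_exp_iff R hf0, Finsupp.sub_apply, Finsupp.single_eq_of_ne hR] at h6
        rw [Finsupp.single_eq_of_ne hR]; omega
    refine (((exists_adapted_orders hK ht hφ hint hHt hJ').2 j).2 ⟨f, ?_, ?_⟩).resolve_left (by omega)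
    · rw [hspan]
      exact L_mono (sub_le_self D (Finsupp.single_nonneg.2 (by positivity))) hf
    · rw [val_eq_exp P hf0, hord]
  have hJ'le : ∀ l : Fin n, J' l ≤ (l : ℕ) + 1 + if n - g ≤ (l : ℕ) then g else 0 := by
    intro l
    split_ifs with hl
    · have h1 := orders_le_deg hK hφ hint hunit ht hHt hJ' (⟨n - 1, by omega⟩ : Fin n)
      have h2 := strictMono_gap hJ'.1 (n - 1 - (l : ℕ)) l ⟨n - 1, by omega⟩ (by simp only; omega)
      omega
    · by_contra hlt
      have hsub : Finset.Icc 1 ((l : ℕ) + 1) ⊆ (Finset.Iio l).image J' := fun j hj => by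
        rw [Finset.mem_Icc] at hj
        obtain ⟨i, hi⟩ := hatt j hj.1 (by omega)
        exact Finset.mem_image.2 ⟨i, Finset.mem_Iio.2 (hJ'.1.lt_iff_lt.1 (by omega)), hi⟩
      have := (Finset.card_le_card hsub).trans Finset.card_image_le
      rw [Nat.card_Icc, Fin.card_Iio] at this
      omega
  have hsum : 2 * ∑ l, J l ≤ n * (n - 1) + 2 * g ^ 2 := by
    have h1 : ∑ l, J l ≤ ∑ l : Fin n, ((l : ℕ) + if n - g ≤ (l : ℕ) then g else 0) :=
      Finset.sum_le_sum fun l _ => by
        have := hle l; have := hpos ⟨0, hn0⟩; have := hJ'le l; omega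
    rw [Finset.sum_add_distrib, Fin.sum_univ_eq_sum_range (fun i => i) n,
      Fin.sum_univ_eq_sum_range (fun i => if n - g ≤ i then g else 0) n, ← Finset.sum_filter,
      Finset.sum_const, smul_eq_mul] at h1
    have h2 : ((Finset.range n).filter fun i => n - g ≤ i).card = g := by
      have : ((Finset.range n).filter fun i => n - g ≤ i) = Finset.Ico (n - g) n := by
        ext i; simp only [Finset.mem_filter, Finset.mem_range, Finset.mem_Ico]; omega
      rw [this, Nat.card_Ico]; omega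
    rw [h2] at h1
    have h3 := Finset.sum_range_id_mul_two n
    rw [pow_two]
    omega
  have hlow : n * (n - 1) ≤ 2 * ∑ l, J l := by
    have h1 : ∑ l : Fin n, (l : ℕ) ≤ ∑ l, J l := Finset.sum_le_sum fun l _ => by
      have := strictMono_gap hJ.1 (l : ℕ) ⟨0, hn0⟩ l (by simp)
      omega
    rw [Fin.sum_univ_eq_sum_range (fun i => i) n] at h1
    have := Finset.sum_range_id_mul_two n
    omega
  have hsumZ : 2 * (∑ l, (J l : ℤ)) ≤ (n : ℤ) * ((n : ℤ) - 1) + 2 * (g : ℤ) ^ 2 ∧
      (n : ℤ) * ((n : ℤ) - 1) ≤ 2 * ∑ l, (J l : ℤ) := by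
    rw [← Nat.cast_sum]
    have hc : ((n * (n - 1) : ℕ) : ℤ) = (n : ℤ) * ((n : ℤ) - 1) := by rw [Nat.cast_mul, Nat.cast_sub hn0]; push_cast; ring
    rw [← hc]
    exact ⟨by exact_mod_cast hsum, by exact_mod_cast hlow⟩
  rw [← hg] at hbound
  set T : ℤ := ∑ l, (J l : ℤ)
  have hmul : ((d : ℤ) + n) * (mapDiv k φ).deg ≤ ((d : ℤ) + n) * (n + g : ℕ) :=
    mul_le_mul_of_nonneg_left hmd (by positivity)
  push_cast at hmul
  rcases Nat.eq_zero_or_pos g with h0 | h0
  · rw [h0] at hbound hmul hsumZ ⊢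
    push_cast at hbound hmul hsumZ ⊢
    nlinarith [hsumZ.2]
  · have h1 : (0 : ℤ) ≤ (g : ℤ) - 1 := by omega
    nlinarith [mul_le_mul_of_nonneg_left hsumZ.1 h1]

end Groth.Agent.FunFld
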