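import Groth.Agent.FunFld.Wr.AutPlaces
import Groth.Agent.FunFld.CurveCrit
import Mathlib.FieldTheory.Minpoly.Field

/-! Weierstrass points of a curve and its automorphism group. -/

namespace Groth.Agent.FunFld

open _root_.FunFld WithZero Finset Matrix

variable {k K : Type*} [Field k] [Field K] [Algebra k K]


theorem det_binom_succ {n B : ℕ} (hchar : ringChar k = 0 ∨ B < ringChar k) {J' : Fin n → ℕ} (hJ' : StrictMono J')
    (hpos : ∀ l, 0 < J' l) (hle : ∀ l, J' l ≤ B) :
    (binomMat k J' fun l : Fin n => (l : ℕ) + 1).det ≠ 0 := by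
  have : CharP k (ringChar k) := ringChar.charP k
  have hcast : ∀ {a b : ℕ}, a ≤ B → b ≤ B → (a : k) = b → a = b := by
    intro a b ha hb h
    rcases hchar with h0 | hp
    · have : CharP k 0 := h0 ▸ ringChar.charP k
      have := CharP.charP_to_charZero k
      exact Nat.cast_injective h
    · exact CharP.natCast_injOn_Iio k (ringChar k) (Set.mem_Iio.2 (by omega)) (Set.mem_Iio.2 (by omega)) h
  have hfact : ∀ a : ℕ, a ≤ B → (a.factorial : k) ≠ 0 := by
    intro a ha
    induction a with
    | zero => simp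
    | succ a ih =>
      rw [Nat.factorial_succ, Nat.cast_mul]
      refine mul_ne_zero (fun h => ?_) (ih (by omega))
      have := hcast (a := a + 1) (b := 0) ha (by omega) (by simpa using h)
      omega
  rw [← det_bincol (ρ := fun _ => (1 : k)) rfl (Or.inl fun l => by omega),
    show colMat (bincol (fun _ => (1 : k)) (jw J')) (fun l : Fin n => (l : ℕ) + 1) =
      Matrix.of fun r j : Fin (n + 1) => ((jw J' r).choose (j : ℕ) : k) from ?_]
  · have hw : ∀ r, jw J' r ≤ B := fun r => by
      cases r using Fin.cases with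
      | zero => rw [jw_zero]; omega
      | succ l => exact hle l
    refine det_choose_ne_zero _ (fun a b h => (jw_strictMono hJ' hpos).injective (hcast (hw a) (hw b) h))
      fun i hi => hfact i ?_
    rcases Nat.eq_zero_or_pos n with rfl | hn
    · omega
    have h1 := strictMono_gap hJ' (n - 1) ⟨0, hn⟩ ⟨n - 1, by omega⟩ (by simp)
    have := hpos ⟨0, hn⟩
    have := hle ⟨n - 1, by omega⟩
    omega
  · ext r c
    cases c using Fin.cases with
    | zero => simp [colMat, eIdx_zero, bincol]
    | succ l => simp [colMat, eIdx_succ, bincol]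

variable [IsAlgClosed k] (hK : IsFunctionField k K)
include hK

theorem ell_single_one (hg : 0 < genus k K) (P : Place k K) : ell (Finsupp.single P (1 : ℤ)) = 1 := by
  have h1 : (1 : ℕ) ≤ ell (Finsupp.single P (1 : ℤ)) := by
    rw [← ell_zero hK]; exact ell_mono hK (by simp)
  refine le_antisymm ?_ h1
  by_contra hlt
  have hne : ¬ L (Finsupp.single P (1 : ℤ)) ≤ L (0 : Divisor k K) := fun h => by
    have := L_finite hK (0 : Divisor k K)
    have h2 : ell (Finsupp.single P (1 : ℤ)) ≤ ell (0 : Divisor k K) := Submodule.finrank_mono h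
    rw [ell_zero hK] at h2
    omega
  obtain ⟨y, hy, hy'⟩ := SetLike.not_le_iff_exists.1 hne
  have hy0 : y ≠ 0 := fun e => hy' (e ▸ zero_mem _)
  have hR : ∀ R, R ≠ P → 0 ≤ R.ord y := fun R hR => by
    have := hy R
    rw [le_exp_iff R hy0, Finsupp.single_eq_of_ne hR] at this; omega
  have hord : P.ord y = -1 := by
    have h3 := hy P
    rw [le_exp_iff P hy0, Finsupp.single_eq_same] at h3
    by_contra hne'
    refine hy' fun R => ?_
    rw [le_exp_iff R hy0, Finsupp.coe_zero, Pi.zero_apply]
    rcases eq_or_ne R P with rfl | hne2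
    · omega
    · have := hR R hne2; omega
  have := (rational_props hK (adjoin_eq_top_of_simple_pole hK (deg_eq_one hK P) hord hR)).2.1
  omega

/-- The Weierstrass set: places with a nongap among `2, …, g`. -/
def wSet (k K : Type*) [Field k] [Field K] [Algebra k K] (n : ℕ) : Set (Place k K) :=
  {P | ∃ j : ℕ, 1 ≤ j ∧ j ≤ n ∧ L (Finsupp.single P ((j : ℤ) + 1)) ≠ L (Finsupp.single P (j : ℤ))}

variable {C : Divisor k K} (hC : IsCanonical k K C) {n : ℕ} {φ : Fin (n + 1) → K} (hφ : LinearIndependent k φ)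
  (hspan : Submodule.span k (Set.range φ) = L C)
  (hchar : ringChar k = 0 ∨ 2 * genus k K - 2 < ringChar k)
  {Φ : Place k K → (K →ₐ[k] LaurentSeries k)} (hΦ : ∀ P : Place k K, LocRes.IsExpansionAt P.1 (Φ P))
  {s : K} {H : K →ₐ[k] PowerSeries K} (hH : LocRes.IsHasseFamily s H)
include hC hφ hspan

theorem canonical_genus : genus k K = n + 1 := by
  rw [← (ell_canonical hK hC).1, ell, ← hspan, finrank_span_eq_card hφ, Fintype.card_fin]

theorem canonical_deg_mapDiv : (mapDiv k φ).deg = 2 * (genus k K : ℤ) - 2 := by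
  obtain ⟨hgC, hdC⟩ := ell_canonical hK hC
  have hgn := canonical_genus hK hC hφ hspan
  rw [mapDiv_eq_of_span hK φ hφ.ne_zero hspan fun R => ?_]
  · exact hdC
  · have h := riemann_roch hK hC (C - Finsupp.single R (1 : ℤ))
    rw [deg_sub, deg_single, deg_eq_one hK, hdC, sub_sub_cancel, ell_single_one hK (by omega)] at h
    push_cast at h
    omega

include hchar hH

theorem canonical_classical {J : Fin n → ℕ} (hJ : IsOrders K (col ((AlgHom.id k K) ∘ φ) H φ) J) (l : Fin n) :
    J l = (l : ℕ) + 1 := by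
  have hd := canonical_deg_mapDiv hK hC hφ hspan
  have hgn := canonical_genus hK hC hφ hspan
  have h := (classical_orders hK hH hφ (by
    rcases hchar with h | h
    · exact Or.inl h
    · exact Or.inr (by rw [hd]; omega))).1
  have hpos := pos_of_col_eq hJ (col_id_one hH φ)
  have e : J = fun l : Fin n => (l : ℕ) + 1 := by
    obtain ⟨M, hM⟩ := exists_spn_top hK hφ hH ((AlgHom.id k K) ∘ φ)
    funext i
    exact le_antisymm (IsOrders.le_of_det hJ h.1 (IsOrders.det_ne_zero h hM) i)
      (IsOrders.le_of_det h hJ.1 (IsOrders.det_ne_zero hJ hM) i)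
  rw [e]

include hΦ

/-- Weights of places for the canonical map. -/
theorem weight_facts {J : Fin n → ℕ} (hJ : IsOrders K (col ((AlgHom.id k K) ∘ φ) H φ) J) (P : Place k K) :
    (wDiv (AlgHom.id k K) H Φ s φ J P ≠ 0 ↔ P ∈ wSet k K n) ∧
    0 ≤ wDiv (AlgHom.id k K) H Φ s φ J P ∧
    2 * wDiv (AlgHom.id k K) H Φ s φ J P ≤ (n : ℤ) * (n + 1) ∧
    (0 < n → 2 * wDiv (AlgHom.id k K) H Φ s φ J P = (n : ℤ) * (n + 1) →
      L (Finsupp.single P (2 : ℤ)) ≠ L (Finsupp.single P (1 : ℤ))) := by
  classical
  have hgn := canonical_genus hK hC hφ hspan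
  have hd := canonical_deg_mapDiv hK hC hφ hspan
  have hJl := canonical_classical hK hC hφ hspan hchar hH hJ
  have hJeq : J = fun l : Fin n => (l : ℕ) + 1 := funext hJl
  obtain ⟨y, hy, heff, hint⟩ := exists_normalized hφ P
  obtain ⟨t, ht⟩ := exists_val P (-1)
  obtain ⟨Ht, hHt⟩ := exists_hasse_at hK ht
  have hli := li_smul hφ hy
  have hunit := exists_unit_of_eff heff hint
  obtain ⟨J', hJ'⟩ := exists_orders_at hK ht hHt hli hint hunit
  obtain ⟨hJt, hW⟩ := wDiv_smul hK hΦ hH hφ hJ hHt hy
  rw [← hW]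
  set W := wDiv (AlgHom.id k K) Ht Φ t (y • φ) J P
  obtain ⟨-, -, hiff⟩ := wDiv_local hK ht hHt hΦ (τ := AlgHom.id k K) (fun z hz => hz) hli hint hunit hJt hJ'
  have hpos' := (exists_adapted hK ht hli hint hHt hJ').1
  have hdle : ∀ l, J' l ≤ 2 * genus k K - 2 := fun l => by
    have := orders_le_deg hK hli hint hunit ht hHt hJ' l
    rw [deg_mapDiv_smul hK hφ hy, hd] at this
    omega
  have hWeq : W = ∑ l, ((J' l : ℤ) - ((l : ℕ) + 1)) := by
    have h1 := (hiff (Or.inl fun l => by rw [hJl]; omega)).2 (by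
      rw [hJeq]; exact det_binom_succ hchar hJ'.1 hpos' hdle)
    refine h1.trans ?_
    exact Finset.sum_congr rfl fun l _ => by rw [hJl]; push_cast; ring
  have hgap : ∀ j, 1 ≤ j → (j ∈ Set.range J' ↔ L (Finsupp.single P ((j : ℤ) + 1)) = L (Finsupp.single P (j : ℤ))) :=
    fun j hj => (hJ'.2 j).trans (canonical_orders hK hC hφ hspan hy heff hint ht hHt hj)
  have hlow : ∀ l : Fin n, (l : ℕ) + 1 ≤ J' l := fun l => by
    have := strictMono_gap hJ'.1 (l : ℕ) ⟨0, by have := l.2; omega⟩ l (by simp)
    have := hpos' ⟨0, by have := l.2; omega⟩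
    omega
  -- the `(l+2)`nd gap is at most `2l + 3`
  have hup : ∀ l : Fin n, J' l ≤ 2 * ((l : ℕ) + 1) := fun l => by
    have hl := (hgap (J' l) (hpos' l)).1 ⟨l, rfl⟩
    have h1 := sub_one_le_two_mul_gaps hK P (G := J' l + 1) (by push_cast; rwa [add_sub_cancel_right])
    rw [Nat.add_sub_cancel] at h1
    have h2 : gaps P (J' l) ⊆ insert 1 ((Finset.Iio l).image fun i => J' i + 1) := fun m hm => by
      simp only [gaps, Finset.mem_filter, Finset.mem_Icc] at hm
      rw [Finset.mem_insert, Finset.mem_image]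
      rcases eq_or_ne m 1 with h | h
      · exact Or.inl h
      · right
        obtain ⟨i, hi⟩ := (hgap (m - 1) (by omega)).2 (by
          rw [Nat.cast_sub hm.1.1, Nat.cast_one, sub_add_cancel]; exact hm.2)
        exact ⟨i, Finset.mem_Iio.2 (hJ'.1.lt_iff_lt.1 (by omega)), by omega⟩
    have h3 : (gaps P (J' l)).card ≤ (l : ℕ) + 1 := by
      refine (Finset.card_le_card h2).trans ((Finset.card_insert_le _ _).trans ?_)
      have := (Finset.card_image_le (s := Finset.Iio l) (f := fun i => J' i + 1))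
      rw [Fin.card_Iio] at this
      omega
    omega
  have hnn : ∀ l ∈ (Finset.univ : Finset (Fin n)), (0 : ℤ) ≤ (J' l : ℤ) - ((l : ℕ) + 1) := fun l _ => by
    have := hlow l; omega
  have htwice : (n : ℤ) * (n + 1) = 2 * ∑ l : Fin n, (((l : ℕ) : ℤ) + 1) := by
    have h : ∀ m : ℕ, (m : ℤ) * (m + 1) = 2 * ∑ l : Fin m, (((l : ℕ) : ℤ) + 1) := fun m => by
      induction m with
      | zero => simp
      | succ m ih => rw [Fin.sum_univ_castSucc, Fin.val_last]; simp only [Fin.val_castSucc]; push_cast; linarith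
    exact h n
  have hterm : ∀ l ∈ (Finset.univ : Finset (Fin n)), (J' l : ℤ) - ((l : ℕ) + 1) ≤ ((l : ℕ) : ℤ) + 1 := fun l _ => by
    have := hup l; omega
  refine ⟨?_, hWeq ▸ Finset.sum_nonneg hnn, ?_, fun hn heq h21 => ?_⟩
  · rw [hWeq]
    constructor
    · intro h
      by_contra hnot
      refine h (Finset.sum_eq_zero fun l _ => ?_)
      have hall : ∀ j, 1 ≤ j → j ≤ n → j ∈ Set.range J' := fun j h1 h2 =>
        (hgap j h1).2 (by_contra fun hne => hnot ⟨j, h1, h2, hne⟩)
      by_contra hne
      have hlt : (l : ℕ) + 1 < J' l := by have := hlow l; omega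
      have hsub : Finset.Icc 1 ((l : ℕ) + 1) ⊆ (Finset.Iio l).image J' := fun j hj => by
        rw [Finset.mem_Icc] at hj
        obtain ⟨i, hi⟩ := hall j hj.1 (by have := l.2; omega)
        exact Finset.mem_image.2 ⟨i, Finset.mem_Iio.2 (hJ'.1.lt_iff_lt.1 (by omega)), hi⟩
      have := (Finset.card_le_card hsub).trans Finset.card_image_le
      rw [Nat.card_Icc, Fin.card_Iio] at this
      omega
    · rintro ⟨j, hj1, hjn, hne⟩ h
      have := (Finset.sum_eq_zero_iff_of_nonneg hnn).1 h ⟨j - 1, by omega⟩ (Finset.mem_univ _)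
      refine hne ((hgap j hj1).1 ⟨⟨j - 1, by omega⟩, ?_⟩)
      simp only at this
      omega
  · rw [hWeq, htwice]
    have := Finset.sum_le_sum hterm
    linarith
  · rw [hWeq, htwice] at heq
    have h0 := (Finset.sum_eq_sum_iff_of_le hterm).1 (by linarith) ⟨0, hn⟩ (Finset.mem_univ _)
    obtain ⟨i, hi⟩ := (hgap 1 le_rfl).2 (by simpa using h21)
    have := hJ'.1.monotone (show (⟨0, hn⟩ : Fin n) ≤ i from Fin.mk_le_of_le_val (Nat.zero_le _))
    simp only at h0
    omega

/-- The number of Weierstrass points and automorphisms fixing them. -/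
theorem weierstrass_main (hg : 1 < genus k K) :
    (wSet k K n).Finite ∧
    ((2 * genus k K + 2 < (wSet k K n).ncard ∧
      ∀ σ : K ≃ₐ[k] K, (∀ P ∈ wSet k K n, pullPlace σ P = P) → σ = AlgEquiv.refl) ∨
    ((wSet k K n).ncard = 2 * genus k K + 2 ∧
      ∃ x : K, Module.finrank (IntermediateField.adjoin k ({x} : Set K)) K = 2 ∧
        ∀ σ : K ≃ₐ[k] K, (∀ P ∈ wSet k K n, pullPlace σ P = P) ↔ σ x = x)) := by
  classical
  have hgn := canonical_genus hK hC hφ hspan
  have hd := canonical_deg_mapDiv hK hC hφ hspan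
  obtain ⟨M, hM⟩ := exists_spn_top hK hφ hH ((AlgHom.id k K) ∘ φ)
  obtain ⟨J, hJ⟩ := exists_isOrders (c := col ((AlgHom.id k K) ∘ φ) H φ)
    (fun h => hφ.ne_zero 0 (congrFun h 0)) hM
  set W := wDiv (AlgHom.id k K) H Φ s φ J with hWdef
  have hW := weight_facts hK hC hφ hspan hchar hΦ hH hJ
  have hJl := canonical_classical hK hC hφ hspan hchar hH hJ
  have hsupp : (W.support : Set (Place k K)) = wSet k K n := Set.ext fun P => by
    rw [Finset.mem_coe, Finsupp.mem_support_iff]; exact (hW P).1
  have hfin : (wSet k K n).Finite := hsupp ▸ W.support.finite_toSet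
  refine ⟨hfin, ?_⟩
  have hcard : (wSet k K n).ncard = W.support.card := by rw [← hsupp, Set.ncard_coe_finset]
  have hid : Module.finrank ↥(AlgHom.id k K).fieldRange K = 1 := by
    rw [AlgHom.fieldRange_eq_top.2 Function.surjective_id, IntermediateField.finrank_top]
  have hdeg : 2 * W.deg = 2 * (n : ℤ) * (n + 1) * (n + 2) := by
    rw [hWdef, wDiv_deg hK hΦ hH hφ, hid, hd, hgn,
      show (∑ l, (J l : ℤ)) = ∑ l : Fin n, (((l : ℕ) : ℤ) + 1) from Finset.sum_congr rfl fun l _ => by rw [hJl]; push_cast; rfl]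
    have h : (n : ℤ) * (n + 1) = 2 * ∑ l : Fin n, (((l : ℕ) : ℤ) + 1) := by
      have h : ∀ m : ℕ, (m : ℤ) * (m + 1) = 2 * ∑ l : Fin m, (((l : ℕ) : ℤ) + 1) := fun m => by
        induction m with
        | zero => simp
        | succ m ih => rw [Fin.sum_univ_castSucc, Fin.val_last]; simp only [Fin.val_castSucc]; push_cast; linarith
      exact h n
    push_cast
    nlinarith
  have hsum : W.deg = ∑ P ∈ W.support, W P := by
    rw [Divisor.deg, Finsupp.sum]
    exact Finset.sum_congr rfl fun P _ => by rw [deg_eq_one hK, Nat.cast_one, mul_one]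
  have hn1 : (1 : ℤ) ≤ n := by omega
  have hN : 2 * genus k K + 2 ≤ W.support.card := by
    have h1 : 2 * W.deg ≤ (W.support.card : ℤ) * ((n : ℤ) * (n + 1)) := by
      rw [hsum, Finset.mul_sum]
      exact (Finset.sum_le_sum fun P _ => (hW P).2.2.1).trans_eq (by rw [Finset.sum_const, nsmul_eq_mul])
    rw [hdeg] at h1
    have : (2 * (n : ℤ) + 4) * ((n : ℤ) * (n + 1)) ≤ (W.support.card : ℤ) * ((n : ℤ) * (n + 1)) := by linarith
    have := le_of_mul_le_mul_right this (by positivity)
    omega
  rcases lt_or_eq_of_le hN with hlt | heq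
  · refine Or.inl ⟨hcard ▸ hlt, fun σ hσ => by_contra fun hne => ?_⟩
    obtain ⟨hf, hb⟩ := fixed_bound hK hne
    have := Set.ncard_le_ncard (show wSet k K n ⊆ {R | pullPlace σ R = R} from hσ) hf
    omega
  refine Or.inr ⟨hcard ▸ heq.symm, ?_⟩
  have hmax : ∀ P ∈ wSet k K n, 2 * W P = (n : ℤ) * (n + 1) := fun P hP => by
    have hP' : P ∈ W.support := by rw [← Finset.mem_coe, hsupp]; exact hP
    refine (Finset.sum_eq_sum_iff_of_le (fun Q _ => (hW Q).2.2.1)).1 ?_ P hP'
    rw [← Finset.mul_sum, ← hsum, hdeg, Finset.sum_const, nsmul_eq_mul, ← heq, hgn]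
    push_cast; ring
  have hne : (wSet k K n).Nonempty := Set.nonempty_of_ncard_ne_zero (by omega)
  obtain ⟨P, hP⟩ := hne
  obtain ⟨x, hx, hxP, hx2, hxspan⟩ := exists_double_pole hK (by omega) ((hW P).2.2.2 (by omega) (hmax P hP))
  have htr : Transcendental k x := mem_range_of_ord hK (P := P) (by omega)
  refine ⟨x, hx2, fun σ => ⟨fun hσ => ?_, fun hσ R hR => ?_⟩⟩
  · -- an automorphism fixing all Weierstrass points fixes `x`
    have hσx : σ x ∈ L (Finsupp.single P (2 : ℤ)) := by
      rw [← mem_L_pullPlace, hσ P hP]; exact hx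
    rw [hxspan, Submodule.mem_span_pair] at hσx
    obtain ⟨b, a, hab⟩ := hσx
    rw [Algebra.smul_def, Algebra.smul_def, mul_one] at hab
    -- values of `x` at the other Weierstrass points
    have hval : ∀ R ∈ wSet k K n, R ≠ P → ∀ c : k, R.1 (x - algebraMap k K c) < 1 → a * c + b = c := by
      intro R hR hRP c hc
      have h1 : R.1 (σ x - algebraMap k K c) < 1 := by
        rw [← σ.commutes c, ← map_sub, ← pullPlace_apply, hσ R hR]; exact hc
      refine const_unique R ?_ h1
      have h2 : σ x - algebraMap k K (a * c + b) = algebraMap k K a * (x - algebraMap k K c) := by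
        rw [← hab, map_add, map_mul]; ring
      rw [h2, map_mul]
      exact (mul_le_mul' (R.2.1 a) le_rfl).trans_lt (by rw [one_mul]; exact hc)
    have hex : ∀ R, R ≠ P → ∃ c : k, R.1 (x - algebraMap k K c) < 1 := fun R hR => exists_const hK R (by
      have := hx R
      rwa [Finsupp.single_eq_of_ne hR, exp_zero] at this)
    choose! c hc using hex
    by_cases ha : a = 1
    · obtain ⟨R, hR, hRP⟩ := Set.exists_ne_of_one_lt_ncard (show 1 < (wSet k K n).ncard by omega) P
      have := hval R hR hRP (c R) (hc R hRP)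
      rw [ha, one_mul] at this
      have hb0 : b = 0 := by linear_combination this
      rw [← hab, ha, hb0, map_one, map_zero, one_mul, zero_add]
    · exfalso
      have hsame : ∀ R ∈ wSet k K n, R ≠ P → c R = b / (1 - a) := fun R hR hRP => by
        rw [eq_div_iff (sub_ne_zero.2 (Ne.symm ha))]
        have := hval R hR hRP (c R) (hc R hRP)
        linear_combination -this
      set u := x - algebraMap k K (b / (1 - a)) with hu
      have hu0 : u ≠ 0 := fun h => htr (by rw [sub_eq_zero.1 h]; exact isAlgebraic_algebraMap _)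
      set S := W.support.erase P
      have hle : ∑ R ∈ S, Finsupp.single R (1 : ℤ) ≤ Finsupp.single P 2 + div k u := by
        intro Q
        rw [Finsupp.coe_finsetSum, Finset.sum_apply, Finsupp.add_apply, div_apply hK]
        have hsum1 : ∑ R ∈ S, (Finsupp.single R (1 : ℤ) : Divisor k K) Q = if Q ∈ S then 1 else 0 := by
          simp [Finsupp.single_apply]
        rw [hsum1]
        split_ifs with hQ
        · obtain ⟨hQP, hQW⟩ := Finset.mem_erase.1 hQ
          have hQw : Q ∈ wSet k K n := by rw [← hsupp]; exact hQW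
          have h1 : 0 < Q.ord u := (ord_pos_iff Q hu0).2 (by rw [hu, ← hsame Q hQw hQP]; exact hc Q hQP)
          rw [Finsupp.single_eq_of_ne hQP]; omega
        · have h1 : Q.1 u ≤ exp ((Finsupp.single P (2 : ℤ) : Divisor k K) Q) :=
            (Valuation.map_sub _ _ _).trans (max_le (hx Q) ((Q.2.1 _).trans (by
              rw [← exp_zero, exp_le_exp]
              exact (Finsupp.single_nonneg.2 (by omega) : (0 : Divisor k K) ≤ _) Q)))
          rw [le_exp_iff Q hu0] at h1
          omega
      have h0 := deg_nonneg (sub_nonneg.2 hle)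
      have hS : ∀ T : Finset (Place k K), Divisor.deg (∑ R ∈ T, Finsupp.single R (1 : ℤ)) = (T.card : ℤ) := fun T => by
        induction T using Finset.induction with
        | empty => simp [deg_zero]
        | insert a T ha ih => rw [Finset.sum_insert ha, deg_add, deg_single, deg_eq_one hK, ih, Finset.card_insert_of_notMem ha]; push_cast; ring
      rw [deg_sub, deg_add, deg_div hK, deg_single, deg_eq_one hK, hS] at h0
      have h9 : W.support.card - 1 ≤ S.card := Finset.pred_card_le_card_erase
      push_cast at h0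
      omega
  · -- an automorphism fixing `x` fixes every Weierstrass point
    obtain ⟨y, hy, hyR, -, -⟩ := exists_double_pole hK (by omega) ((hW R).2.2.2 (by omega) (hmax R hR))
    have hmem := mem_adjoin_of_double_pole hK hg hx hy hx2
    have hσy : σ y = y := by
      clear hy hyR
      induction hmem using IntermediateField.adjoin_induction with
      | mem z hz => rw [Set.mem_singleton_iff.1 hz, hσ]
      | algebraMap c => simp
      | add a b _ _ ha hb => simp [ha, hb]
      | inv a _ ha => simp [ha]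
      | mul a b _ _ ha hb => simp [ha, hb]
    by_contra hne
    have h1 : (pullPlace σ R).1 y = R.1 y := by rw [pullPlace_apply, hσy]
    have h2 := hy (pullPlace σ R)
    rw [Finsupp.single_eq_of_ne hne, h1, val_eq_exp R (fun h => by rw [h, ord_zero] at hyR; omega), exp_le_exp,
      hyR] at h2
    omega

end Groth.Agent.FunFld
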