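import Groth.Agent.FunFld.Wr.DiffDeg
import Groth.Agent.FunFld.Wr.Local
import Groth.Agent.FunFld.Plane
import Groth.Agent.S11052

/-! The Weierstrass divisor of a projective map. -/

namespace Groth.Agent.FunFld

open _root_.FunFld WithZero IsLocalRing Finset Matrix
open scoped LaurentSeries
open PowerSeries (coeff constantCoeff)

/-! ### Linear changes of the columns -/

section Linear

variable {R : Type*} [Field R] {n : ℕ} {c c' : ℕ → Fin (n + 1) → R}

theorem isOrders_linear (e : (Fin (n + 1) → R) ≃ₗ[R] (Fin (n + 1) → R)) (h : ∀ j, c' j = e (c j))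
    (J : Fin n → ℕ) : IsOrders R c' J ↔ IsOrders R c J := by
  have hs : ∀ m, spn c' m = (spn c m).map (e : (Fin (n + 1) → R) →ₗ[R] (Fin (n + 1) → R)) := fun m => by
    rw [spn, spn, Submodule.map_span, show c' = fun j => e (c j) from funext h, ← Set.image_image e c]
    rfl
  have hj : ∀ j, IsJump R c' j ↔ IsJump R c j := fun j => by
    rw [isJump_iff, isJump_iff, hs, h, not_iff_not]
    exact ⟨fun ⟨y, hy, he⟩ => e.injective he ▸ hy, fun hy => ⟨_, hy, rfl⟩⟩
  simp only [IsOrders, hj]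

theorem colMat_mulVec (A : Matrix (Fin (n + 1)) (Fin (n + 1)) R) (h : ∀ j, c' j = A *ᵥ c j) (J : Fin n → ℕ) :
    colMat c' J = A * colMat c J := by
  ext i l
  rw [Matrix.mul_apply]
  show c' (eIdx J l) i = _
  rw [h]; rfl

theorem isOrders_mulVec (A : Matrix (Fin (n + 1)) (Fin (n + 1)) R) (hA : A.det ≠ 0) (h : ∀ j, c' j = A *ᵥ c j)
    (J : Fin n → ℕ) : IsOrders R c' J ↔ IsOrders R c J := by
  have hu : IsUnit A.det := isUnit_iff_ne_zero.2 hA
  let e : (Fin (n + 1) → R) ≃ₗ[R] (Fin (n + 1) → R) :=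
    LinearEquiv.ofBijective A.mulVecLin ⟨Matrix.mulVec_injective_of_isUnit ((Matrix.isUnit_iff_isUnit_det A).2 hu),
      Matrix.mulVec_surjective_iff_isUnit.2 ((Matrix.isUnit_iff_isUnit_det A).2 hu)⟩
  exact isOrders_linear e h J

end Linear

variable {k K : Type*} [Field k] [Field K] [Algebra k K] {n : ℕ}

theorem deg_zsmul (m : ℤ) (D : Divisor k K) : (m • D).deg = m * D.deg := by
  rw [Divisor.deg, Divisor.deg, Finsupp.sum_smul_index (fun _ => zero_mul _), Finsupp.mul_sum]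
  exact Finsupp.sum_congr fun P _ => mul_assoc _ _ _

theorem li_tau {φ : Fin (n + 1) → K} (hφ : LinearIndependent k φ) (τ : K →ₐ[k] K) : LinearIndependent k (τ ∘ φ) :=
  hφ.map' τ.toLinearMap (LinearMap.ker_eq_bot.2 τ.injective)

theorem li_smul {φ : Fin (n + 1) → K} (hφ : LinearIndependent k φ) {y : K} (hy : y ≠ 0) :
    LinearIndependent k (y • φ) := by
  have := hφ.map' (LinearMap.mulLeft k y) (LinearMap.ker_eq_bot.2 (mul_right_injective₀ hy))
  exact this

theorem tau_smul (τ : K →ₐ[k] K) (y : K) (φ : Fin (n + 1) → K) : τ ∘ (y • φ) = τ y • (τ ∘ φ) := by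
  funext i; simp

theorem col_mulVec (A : Matrix (Fin (n + 1)) (Fin (n + 1)) k) (τ : K →ₐ[k] K) (H : K →ₐ[k] PowerSeries K)
    (φ : Fin (n + 1) → K) (j : ℕ) :
    col (τ ∘ (A.map (algebraMap k K) *ᵥ φ)) H (A.map (algebraMap k K) *ᵥ φ) j =
      A.map (algebraMap k K) *ᵥ col (τ ∘ φ) H φ j := by
  funext i
  cases j with
  | zero => simp [col, Matrix.mulVec, dotProduct, map_sum]
  | succ j =>
    simp [col, Matrix.mulVec, dotProduct, LocRes.hasseD_apply, map_sum, PowerSeries.algebraMap_apply,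
      PowerSeries.coeff_C_mul]

theorem det_map_algebraMap (A : Matrix (Fin (n + 1)) (Fin (n + 1)) k) :
    (A.map (algebraMap k K)).det = algebraMap k K A.det := ((algebraMap k K).map_det A).symm

variable [IsAlgClosed k] (hK : IsFunctionField k K)
include hK

theorem exists_mapDiv_attained {φ : Fin (n + 1) → K} (h : ∀ i, φ i ≠ 0) (P : Place k K) :
    ∃ i, P.1 (φ i) = exp (mapDiv k φ P) := by
  obtain ⟨i, -, hi⟩ := Finset.exists_mem_eq_inf' Finset.univ_nonempty (fun i => P.ord (φ i))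
  exact ⟨i, by rw [val_eq_exp P (h i), mapDiv_apply hK, hi]⟩

theorem mapDiv_le {φ : Fin (n + 1) → K} (h : ∀ i, φ i ≠ 0) (P : Place k K) {m : ℤ} (hm : ∀ i, P.1 (φ i) ≤ exp m) :
    mapDiv k φ P ≤ m := by
  obtain ⟨i, hi⟩ := exists_mapDiv_attained hK h P
  have := hm i
  rwa [hi, exp_le_exp] at this

theorem mapDiv_smul {φ : Fin (n + 1) → K} (h : ∀ i, φ i ≠ 0) {y : K} (hy : y ≠ 0) (P : Place k K) :
    mapDiv k (y • φ) P = mapDiv k φ P - P.ord y := by
  have h' : ∀ i, (y • φ) i ≠ 0 := fun i => mul_ne_zero hy (h i)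
  refine le_antisymm (mapDiv_le hK h' P fun i => ?_) ?_
  · rw [Pi.smul_apply, smul_eq_mul, map_mul, val_eq_exp P hy, sub_eq_add_neg, add_comm, exp_add]
    exact mul_le_mul' le_rfl (val_le_exp_mapDiv hK φ P i)
  · obtain ⟨i, hi⟩ := exists_mapDiv_attained hK h P
    have := val_le_exp_mapDiv hK (y • φ) P i
    rw [Pi.smul_apply, smul_eq_mul, map_mul, val_eq_exp P hy, hi, ← exp_add, exp_le_exp] at this
    omega

theorem mapDiv_mulVec {φ : Fin (n + 1) → K} (hφ : LinearIndependent k φ) {A : Matrix (Fin (n + 1)) (Fin (n + 1)) k}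
    (hA : A.det ≠ 0) (P : Place k K) : mapDiv k (A.map (algebraMap k K) *ᵥ φ) P = mapDiv k φ P := by
  have hu : IsUnit A.det := isUnit_iff_ne_zero.2 hA
  set ψ := A.map (algebraMap k K) *ᵥ φ
  have hle : ∀ (B : Matrix (Fin (n + 1)) (Fin (n + 1)) k) (θ : Fin (n + 1) → K) i,
      P.1 ((B.map (algebraMap k K) *ᵥ θ) i) ≤ exp (mapDiv k θ P) := fun B θ i => by
    show P.1 (∑ j, algebraMap k K (B i j) * θ j) ≤ _
    refine Valuation.map_sum_le _ fun j _ => ?_
    rw [map_mul]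
    exact (mul_le_mul' (P.2.1 _) (val_le_exp_mapDiv hK θ P j)).trans_eq (one_mul _)
  have hinv : φ = A⁻¹.map (algebraMap k K) *ᵥ ψ := by
    rw [Matrix.mulVec_mulVec, ← Matrix.map_mul, Matrix.nonsing_inv_mul A hu, Matrix.map_one _ (map_zero _) (map_one _),
      Matrix.one_mulVec]
  have hψ : ∀ i, ψ i ≠ 0 := fun i h0 => by
    have hli := Fintype.linearIndependent_iff.1 hφ (fun j => A i j) (by
      rw [← h0]; exact Finset.sum_congr rfl fun j _ => Algebra.smul_def _ _)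
    exact hA (Matrix.det_eq_zero_of_row_eq_zero i hli)
  refine le_antisymm (mapDiv_le hK hψ P (hle A φ)) (mapDiv_le hK hφ.ne_zero P fun i => ?_)
  conv_lhs => rw [hinv]
  exact hle A⁻¹ ψ i

variable {τ : K →ₐ[k] K} {φ : Fin (n + 1) → K} {s : K} {H : K →ₐ[k] PowerSeries K} {J : Fin n → ℕ}

theorem det_wr_ne_zero (hH : LocRes.IsHasseFamily s H) (hφ : LinearIndependent k φ)
    (hJ : IsOrders K (col (τ ∘ φ) H φ) J) : (colMat (col (τ ∘ φ) H φ) J).det ≠ 0 := by
  obtain ⟨M, hM⟩ := exists_spn_top hK hφ hH (τ ∘ φ)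
  exact IsOrders.det_ne_zero hJ hM

omit [IsAlgClosed k] in
omit hK in
theorem isOrders_smul (hH : LocRes.IsHasseFamily s H) (u φ : Fin (n + 1) → K) {z y : K} (hz : z ≠ 0) (hy : y ≠ 0)
    (J : Fin n → ℕ) : IsOrders K (col (z • u) H (y • φ)) J ↔ IsOrders K (col u H φ) J :=
  isOrders_congr (a := fun j => if j = 0 then z else y) (fun j => by split_ifs <;> assumption)
    (fun j => col_smul_tri hH u φ z y j) J

omit [IsAlgClosed k] in
omit hK in
theorem det_smul (hH : LocRes.IsHasseFamily s H) {u φ : Fin (n + 1) → K} (z y : K) {J : Fin n → ℕ}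
    (hJ : IsOrders K (col u H φ) J) :
    (colMat (col (z • u) H (y • φ)) J).det = z * y ^ n * (colMat (col u H φ) J).det := by
  rw [det_colMat_congr (a := fun j => if j = 0 then z else y) (fun j => col_smul_tri hH u φ z y j) hJ]
  simp

theorem isOrders_change {t : K} {Ht : K →ₐ[k] PowerSeries K} (hH : LocRes.IsHasseFamily s H)
    (hHt : LocRes.IsHasseFamily t Ht) (u φ : Fin (n + 1) → K) (J : Fin n → ℕ) :
    IsOrders K (col u Ht φ) J ↔ IsOrders K (col u H φ) J :=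
  isOrders_congr (a := fun j => if j = 0 then 1 else LocRes.hasseD Ht 1 s ^ (j - 1))
    (fun j => by split_ifs <;> [exact one_ne_zero; exact pow_ne_zero _ (hasseD_one_ne_zero hK hH hHt)])
    (col_change_tri hK hH hHt u φ) J

theorem det_change {t : K} {Ht : K →ₐ[k] PowerSeries K} (hH : LocRes.IsHasseFamily s H)
    (hHt : LocRes.IsHasseFamily t Ht) {u φ : Fin (n + 1) → K} {J : Fin n → ℕ} (hJ : IsOrders K (col u H φ) J) :
    (colMat (col u Ht φ) J).det = LocRes.hasseD Ht 1 s ^ (∑ l, J l) * (colMat (col u H φ) J).det := by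
  rw [det_colMat_congr (a := fun j => if j = 0 then 1 else LocRes.hasseD Ht 1 s ^ (j - 1))
    (col_change_tri hK hH hHt u φ) hJ]
  simp [Finset.prod_pow_eq_pow_sum]

variable {Φ : Place k K → (K →ₐ[k] LaurentSeries k)} (hΦ : ∀ P : Place k K, LocRes.IsExpansionAt P.1 (Φ P))

section Param

variable {P : Place k K} {t : K} (ht : P.1 t = exp (-1)) {Ht : K →ₐ[k] PowerSeries K}
  (hHt : LocRes.IsHasseFamily t Ht)
include ht hHt hΦ

/-- The coefficient of the Weierstrass divisor read in a local parameter. -/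
theorem wDiv_apply_local (hH : LocRes.IsHasseFamily s H) (hφ : LinearIndependent k φ)
    (hJ : IsOrders K (col (τ ∘ φ) H φ) J) :
    wDiv τ H Φ s φ J P =
      P.ord (colMat (col (τ ∘ φ) Ht φ) J).det + mapDiv k (τ ∘ φ) P + n * mapDiv k φ P := by
  have hd : LocRes.hasseD Ht 1 s ≠ 0 := hasseD_one_ne_zero hK hH hHt
  rw [det_change hK hH hHt hJ, ord_mul P (pow_ne_zero _ hd) (det_wr_ne_zero hK hH hφ hJ), ord_pow,
    wDiv, Finsupp.add_apply, Finsupp.add_apply, Finsupp.add_apply, Finsupp.smul_apply, Finsupp.smul_apply,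
    div_apply hK, (divDiff_facts hK hH Φ hΦ).1, ordDiff_eq hK ht hHt (hΦ P), one_mul, wrMat_eq,
    smul_eq_mul, smul_eq_mul, Nat.cast_sum]
  ring

end Param

include hΦ

/-- The Weierstrass divisor is effective and of known degree. -/
theorem wDiv_nonneg (hH : LocRes.IsHasseFamily s H) (hφ : LinearIndependent k φ)
    (hJ : IsOrders K (col (τ ∘ φ) H φ) J) : 0 ≤ wDiv τ H Φ s φ J := by
  intro P
  obtain ⟨t, ht⟩ := exists_val P (-1)
  obtain ⟨Ht, hHt⟩ := exists_hasse_at hK ht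
  rw [Finsupp.coe_zero, Pi.zero_apply, wDiv_apply_local hK hΦ ht hHt hH hφ hJ]
  have hτφ := li_tau hφ τ
  obtain ⟨y, hy⟩ := exists_val P (-mapDiv k φ P)
  obtain ⟨z, hz⟩ := exists_val P (-mapDiv k (τ ∘ φ) P)
  have hJt := (isOrders_change hK hH hHt _ _ J).2 hJ
  have hle : P.1 (colMat (col (z • (τ ∘ φ)) Ht (y • φ)) J).det ≤ 1 := by
    refine val_det_le _ fun i l => ?_
    have hint : ∀ (c : K) (m : ℤ) (x : K), P.1 c = exp (-m) → P.1 x ≤ exp m → P.1 (c * x) ≤ 1 := fun c m x hc hx => by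
      rw [map_mul, hc]
      exact (mul_le_mul' le_rfl hx).trans_eq (by rw [← exp_add, neg_add_cancel, exp_zero])
    show P.1 (col _ Ht _ (eIdx J l) i) ≤ 1
    cases h : eIdx J l with
    | zero => exact hint z _ _ hz (val_le_exp_mapDiv hK (τ ∘ φ) P i)
    | succ j => exact val_hasseD_le hK ht hHt (hint y _ _ hy (val_le_exp_mapDiv hK φ P i)) j
  rw [det_smul hHt z y hJt, map_mul, map_mul, map_pow, hy, hz, val_eq_exp P (det_wr_ne_zero hK hHt hφ hJt),
    ← exp_nsmul, ← exp_add, ← exp_add, ← exp_zero, exp_le_exp, nsmul_eq_mul] at hle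
  linarith

theorem wDiv_deg (hH : LocRes.IsHasseFamily s H) (hφ : LinearIndependent k φ) :
    (wDiv τ H Φ s φ J).deg = ((Module.finrank τ.fieldRange K : ℤ) + n) * (mapDiv k φ).deg +
      (2 * (genus k K : ℤ) - 2) * ∑ l, (J l : ℤ) := by
  rw [wDiv, deg_add, deg_add, deg_add, deg_div hK, deg_zsmul, deg_zsmul, (divDiff_facts hK hH Φ hΦ).2,
    Groth.Agent.S11052.result k K hK τ φ hφ]
  ring

theorem wDiv_card_bound (hH : LocRes.IsHasseFamily s H) (hφ : LinearIndependent k φ)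
    (hJ : IsOrders K (col (τ ∘ φ) H φ) J) (S : Set (Place k K)) {w : ℤ} (hw : 0 < w)
    (hS : ∀ P ∈ S, w ≤ wDiv τ H Φ s φ J P) : S.Finite ∧ w * (S.ncard : ℤ) ≤ (wDiv τ H Φ s φ J).deg := by
  set W := wDiv τ H Φ s φ J
  have h0 := wDiv_nonneg hK hΦ hH hφ hJ
  have hsub : S ⊆ ↑W.support := fun P hP => Finsupp.mem_support_iff.2 (by have := hS P hP; omega)
  have hfin : S.Finite := W.support.finite_toSet.subset hsub
  refine ⟨hfin, ?_⟩
  rw [Set.ncard_eq_toFinset_card _ hfin]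
  calc w * (hfin.toFinset.card : ℤ) = ∑ P ∈ hfin.toFinset, w := by rw [Finset.sum_const, nsmul_eq_mul, mul_comm]
    _ ≤ ∑ P ∈ hfin.toFinset, W P * (P.deg : ℤ) := Finset.sum_le_sum fun P hP => by
        rw [deg_eq_one hK, Nat.cast_one, mul_one]; exact hS P (hfin.mem_toFinset.1 hP)
    _ ≤ W.deg := by
        rw [Divisor.deg, Finsupp.sum]
        exact Finset.sum_le_sum_of_subset_of_nonneg (fun P hP => hsub (hfin.mem_toFinset.1 hP))
          fun P _ _ => mul_nonneg (h0 P) (Int.natCast_nonneg _)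

/-- The Weierstrass divisor is independent of the separating element and of the choice of the map. -/
theorem wDiv_invariant (hH : LocRes.IsHasseFamily s H) (hφ : LinearIndependent k φ)
    (hJ : IsOrders K (col (τ ∘ φ) H φ) J) {t : K} {Ht : K →ₐ[k] PowerSeries K} (hHt : LocRes.IsHasseFamily t Ht)
    {A : Matrix (Fin (n + 1)) (Fin (n + 1)) k} (hA : A.det ≠ 0) {y : K} (hy : y ≠ 0) :
    IsOrders K (col (τ ∘ (y • (A.map (algebraMap k K) *ᵥ φ))) Ht (y • (A.map (algebraMap k K) *ᵥ φ))) J ∧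
      wDiv τ Ht Φ t (y • (A.map (algebraMap k K) *ᵥ φ)) J = wDiv τ H Φ s φ J := by
  set AK := A.map (algebraMap k K) with hAK
  have hAK0 : AK.det ≠ 0 := by rw [hAK, det_map_algebraMap]; exact (map_ne_zero _).2 hA
  set ψ := AK *ᵥ φ with hψdef
  have hψ : LinearIndependent k ψ := by
    rw [Fintype.linearIndependent_iff]
    intro g hg
    have h1 : ∑ j, (g ᵥ* A) j • φ j = 0 := by
      rw [← hg]
      simp only [hψdef, hAK, Matrix.mulVec, Matrix.vecMul, dotProduct, Matrix.map_apply,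
        Finset.smul_sum, Algebra.smul_def, map_mul, map_sum, Finset.sum_mul, mul_assoc, Finset.mul_sum]
      rw [Finset.sum_comm]
    have h2 := Fintype.linearIndependent_iff.1 hφ _ h1
    have h3 := Matrix.eq_zero_of_vecMul_eq_zero hA (funext h2 : g ᵥ* A = 0)
    exact fun i => congrFun h3 i
  have hτy : τ y ≠ 0 := (map_ne_zero_iff _ τ.injective).2 hy
  have key : ∀ {r : K} {Hr : K →ₐ[k] PowerSeries K}, LocRes.IsHasseFamily r Hr →
      IsOrders K (col (τ ∘ φ) Hr φ) J → IsOrders K (col (τ ∘ ψ) Hr ψ) J ∧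
      IsOrders K (col (τ ∘ (y • ψ)) Hr (y • ψ)) J ∧
      (colMat (col (τ ∘ (y • ψ)) Hr (y • ψ)) J).det =
        τ y * y ^ n * (algebraMap k K A.det * (colMat (col (τ ∘ φ) Hr φ) J).det) := fun {r Hr} hHr hJr => by
    have hψJ : IsOrders K (col (τ ∘ ψ) Hr ψ) J := (isOrders_mulVec AK hAK0 (col_mulVec A τ Hr φ) J).2 hJr
    refine ⟨hψJ, ?_, ?_⟩
    · rw [tau_smul]; exact (isOrders_smul hHr _ _ hτy hy J).2 hψJ
    · rw [tau_smul, det_smul hHr _ _ hψJ, colMat_mulVec AK (col_mulVec A τ Hr φ), Matrix.det_mul, hAK,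
        det_map_algebraMap]
  have hJt := (key hHt ((isOrders_change hK hH hHt _ _ J).2 hJ)).2.1
  refine ⟨hJt, Finsupp.ext fun P => ?_⟩
  obtain ⟨π, hπ⟩ := exists_val P (-1)
  obtain ⟨Hπ, hHπ⟩ := exists_hasse_at hK hπ
  have hJπ := (isOrders_change hK hH hHπ _ _ J).2 hJ
  rw [wDiv_apply_local hK hΦ hπ hHπ hHt (li_smul hψ hy) hJt, wDiv_apply_local hK hΦ hπ hHπ hH hφ hJ,
    (key hHπ hJπ).2.2, mapDiv_smul hK hψ.ne_zero hy, tau_smul, mapDiv_smul hK (li_tau hψ τ).ne_zero hτy,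
    ord_mul P (mul_ne_zero hτy (pow_ne_zero _ hy))
      (mul_ne_zero ((map_ne_zero _).2 hA) (det_wr_ne_zero hK hHπ hφ hJπ)),
    ord_mul P hτy (pow_ne_zero _ hy), ord_pow, ord_mul P ((map_ne_zero _).2 hA) (det_wr_ne_zero hK hHπ hφ hJπ),
    ord_algebraMap]
  have h1 : mapDiv k ψ P = mapDiv k φ P := mapDiv_mulVec hK hφ hA P
  have h2 : mapDiv k (τ ∘ ψ) P = mapDiv k (τ ∘ φ) P := by
    have : τ ∘ ψ = AK *ᵥ (τ ∘ φ) := funext fun i => by simp [hψdef, hAK, Matrix.mulVec, dotProduct, map_sum]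
    rw [this]; exact mapDiv_mulVec hK (li_tau hφ τ) hA P
  rw [h1, h2]; ring

theorem wDiv_smul (hH : LocRes.IsHasseFamily s H) (hφ : LinearIndependent k φ)
    (hJ : IsOrders K (col (τ ∘ φ) H φ) J) {t : K} {Ht : K →ₐ[k] PowerSeries K} (hHt : LocRes.IsHasseFamily t Ht)
    {y : K} (hy : y ≠ 0) :
    IsOrders K (col (τ ∘ (y • φ)) Ht (y • φ)) J ∧ wDiv τ Ht Φ t (y • φ) J = wDiv τ H Φ s φ J := by
  have h := wDiv_invariant hK hΦ hH hφ hJ hHt (A := 1) (by simp) hy
  rwa [Matrix.map_one _ (map_zero _) (map_one _), Matrix.one_mulVec] at h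

end Groth.Agent.FunFld
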